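import Cfsg.Agent.Lib.Zass.Comb
import Cfsg.Agent.Lib.Char.TI
import Cfsg.Agent.Lib.Char.Linear
import Cfsg.Agent.Lib.Char.AbelianTI
import Cfsg.Agent.Lib.Char.Degree

/-!
In a group with a doubly transitive Zassenhaus action whose point stabiliser is `U ⋊ H`, both
abelian, `H` of odd order and inverted by an element moving the point, one has
`|U| - 1 ≤ 2 |H|`. The exceptional characters form an integer matrix `a` with `aᵀ a = I + e J`.
-/

set_option autoImplicit false

open scoped ComplexConjugate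

namespace Cfsg.Agent.Lib.Zass

open Cfsg.Agent.Lib.Char Cfsg.Agent.Lib.Char.ATI

universe u

open scoped _root_.Classical in
theorem sum_hom_mul_conj {X : Type u} [Group X] [Fintype X] (l m : X →* ℂˣ) :
    ∑ x, (l x : ℂ) * conj (m x : ℂ) = if l = m then (Nat.card X : ℂ) else 0 := by
  have h := classInner_irrCharacter (lin l) (lin m)
  simp only [classInner, lin_apply] at h
  have hne := card_ne_zero_complex X
  rw [inv_mul_eq_iff_eq_mul₀ hne] at h
  rw [h]
  split_ifs with h1 h2 h2
  · rw [mul_one]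
  · exact absurd (MonoidHom.ext fun x => Units.ext (congrFun (congrArg Subtype.val h1) x)) h2
  · exact absurd (by rw [h2]) h1
  · rw [mul_zero]

open scoped _root_.Classical in
theorem sum_hom_mul {X : Type u} [Group X] [Fintype X] (l m : X →* ℂˣ) :
    ∑ x, (l x : ℂ) * (m x : ℂ) = if l = m⁻¹ then (Nat.card X : ℂ) else 0 := by
  rw [← sum_hom_mul_conj l m⁻¹]
  refine Finset.sum_congr rfl fun x _ => ?_
  congr 1
  have h := linear_conj_mul m⁻¹ x
  rw [MonoidHom.inv_apply, Units.val_inv_eq_inv_val] at h ⊢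
  rw [inv_mul_eq_iff_eq_mul₀ (Units.ne_zero _), mul_one] at h
  exact h.symm

theorem two_mul_ge {G : Type u} [Group G] [Finite G] (U H : Subgroup G) (s : G)
    (hUc : ∀ a ∈ U, ∀ b ∈ U, a * b = b * a) (hHc : ∀ a ∈ H, ∀ b ∈ H, a * b = b * a)
    (hHN : H ≤ Subgroup.normalizer (U : Set G)) (hdisj : ∀ x ∈ U, x ∈ H → x = 1)
    (hprod : ∀ n ∈ Subgroup.normalizer (U : Set G), ∃ u ∈ U, ∃ h ∈ H, n = u * h)
    (hfree : ∀ h ∈ H, h ≠ 1 → ∀ u ∈ U, h * u * h⁻¹ = u → u = 1)
    (hs : s ∉ Subgroup.normalizer (U : Set G)) (hinv : ∀ h ∈ H, s * h * s⁻¹ = h⁻¹)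
    (hU1 : ∀ x ∉ Subgroup.normalizer (U : Set G), ∀ u ∈ U,
      x * u * x⁻¹ ∈ Subgroup.normalizer (U : Set G) → u = 1)
    (hH1 : ∀ x ∉ Subgroup.normalizer (U : Set G), ∀ h ∈ H, h ≠ 1 →
      x⁻¹ * h * x ∈ Subgroup.normalizer (U : Set G) →
      ∃ n ∈ Subgroup.normalizer (U : Set G), x = s * n)
    (hidx : (Subgroup.normalizer (U : Set G)).index = Nat.card U + 1)
    (hodd : Odd (Nat.card H)) (hne : Nat.card H ≠ 1)
    (hcop : ∀ k m : ℕ, Nat.card U = k * m → Nat.Coprime k m → Nat.card H ∣ k - 1) :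
    Nat.card U - 1 ≤ 2 * Nat.card H := by
  classical
  set N := Subgroup.normalizer (U : Set G) with hN
  haveI := Fintype.ofFinite G
  haveI := Fintype.ofFinite U
  haveI := Fintype.ofFinite H
  haveI := Fintype.ofFinite N
  set q := Nat.card U with hqdef
  set d := Nat.card H with hddef
  have hUN : U ≤ N := Subgroup.le_normalizer
  have hconjU : ∀ n ∈ N, ∀ u ∈ U, n * u * n⁻¹ ∈ U := fun n hn u hu =>
    (Subgroup.mem_normalizer_iff.mp hn u).mp hu
  have hconjH : ∀ h : H, ∀ u : U, (h : G)⁻¹ * u * h ∈ U := fun h u => by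
    simpa using hconjU _ (inv_mem (hHN h.2)) u u.2
  -- coordinates on `N`
  let φ : U × H → N := fun x => ⟨(x.1 : G) * x.2, mul_mem (hUN x.1.2) (hHN x.2.2)⟩
  have hφ : Function.Bijective φ := by
    refine ⟨?_, fun n => ?_⟩
    · rintro ⟨u, h⟩ ⟨u', h'⟩ e
      have e' : (u : G) * h = (u' : G) * h' := congrArg Subtype.val e
      have hm : (u' : G)⁻¹ * u = (h' : G) * (h : G)⁻¹ := by
        rw [eq_mul_inv_iff_mul_eq, mul_assoc, e', inv_mul_cancel_left]
      have hu : (u' : G)⁻¹ * u = 1 :=
        hdisj _ (mul_mem (inv_mem u'.2) u.2) (hm ▸ mul_mem h'.2 (inv_mem h.2))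
      have hu' : u = u' := Subtype.ext (inv_mul_eq_one.mp hu).symm
      subst hu'
      exact Prod.ext rfl (Subtype.ext (mul_left_cancel e'))
    · obtain ⟨u, hu, h, hh, e⟩ := hprod n n.2
      exact ⟨(⟨u, hu⟩, ⟨h, hh⟩), Subtype.ext e.symm⟩
  let ψ := Equiv.ofBijective φ hφ
  have hψ : ∀ u h, ((ψ (u, h) : N) : G) = (u : G) * h := fun _ _ => rfl
  have hmemU : ∀ u h, ((ψ (u, h) : N) : G) ∈ U → h = 1 := fun u h hm => by
    rw [hψ] at hm
    exact Subtype.ext (hdisj _ (by simpa using mul_mem (inv_mem u.2) hm) h.2)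
  have sumN : ∀ g : N → ℂ, ∑ n, g n = ∑ h : H, ∑ u : U, g (ψ (u, h)) := fun g => by
    rw [← Equiv.sum_comp ψ, Fintype.sum_prod_type_right]
  have hcN : (Nat.card N : ℂ) = (q : ℂ) * d := by
    rw [← Nat.card_congr ψ, Nat.card_prod]; push_cast; rfl
  have hq0 : (q : ℂ) ≠ 0 := card_ne_zero_complex U
  have hd0 : (d : ℂ) ≠ 0 := card_ne_zero_complex H
  have hproj : ∀ n m : N, (ψ.symm (n * m)).2 = (ψ.symm n).2 * (ψ.symm m).2 := by
    intro n m
    obtain ⟨⟨u, h⟩, rfl⟩ := ψ.surjective n
    obtain ⟨⟨u', h'⟩, rfl⟩ := ψ.surjective m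
    have hu : (h : G) * u' * (h : G)⁻¹ ∈ U := hconjU _ (hHN h.2) _ u'.2
    have e : ψ (u, h) * ψ (u', h') = ψ (⟨(u : G) * ((h : G) * u' * (h : G)⁻¹),
        mul_mem u.2 hu⟩, h * h') := Subtype.ext (by simp [hψ, mul_assoc])
    simp [e]
  let π : N →* H := MonoidHom.mk' (fun n => (ψ.symm n).2) hproj
  have hπ : ∀ u h, π (ψ (u, h)) = h := fun u h => by simp [π]
  have hπU : ∀ n : N, (n : G) ∈ U → π n = 1 := fun n hn => by
    obtain ⟨⟨u, h⟩, rfl⟩ := ψ.surjective n
    rw [hπ]; exact hmemU u h hn
  -- elements of `N` outside `U` are conjugate to elements of `H`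
  have hcf : ∀ (θ : G → ℂ), IsClassFunction G θ → ∀ (u : U) (h : H), h ≠ 1 →
      θ ((u : G) * h) = θ h := by
    intro θ hθ u h hh
    let c : U → U := fun v => ⟨(v : G) * ((h : G) * (v : G)⁻¹ * (h : G)⁻¹),
      mul_mem v.2 (hconjU _ (hHN h.2) _ (inv_mem v.2))⟩
    have hc : Function.Injective c := by
      intro v w e
      have e' : (v : G) * ((h : G) * (v : G)⁻¹ * (h : G)⁻¹)
          = (w : G) * ((h : G) * (w : G)⁻¹ * (h : G)⁻¹) := congrArg Subtype.val e
      have e2 : (h : G) * ((w : G)⁻¹ * v) * (h : G)⁻¹ = (w : G)⁻¹ * v := by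
        have hmem : (h : G) * (v : G)⁻¹ * (h : G)⁻¹ ∈ U := hconjU _ (hHN h.2) _ (inv_mem v.2)
        have e3 : (w : G)⁻¹ * v = (h : G) * (w : G)⁻¹ * (h : G)⁻¹ *
            ((h : G) * (v : G)⁻¹ * (h : G)⁻¹)⁻¹ := by
          rw [eq_mul_inv_iff_mul_eq, mul_assoc, e', inv_mul_cancel_left]
        exact Eq.trans (by simp [mul_assoc]) e3.symm
      exact (Subtype.ext (inv_mul_eq_one.mp (hfree _ h.2 (fun e => hh (Subtype.ext e)) _
        (mul_mem (inv_mem w.2) v.2) e2))).symm
    obtain ⟨v, hv⟩ := (Finite.injective_iff_surjective.mp hc) u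
    rw [← hv]
    have := hθ (h : G) (v : G)
    simpa [c, mul_assoc] using this
  -- orbits on the nontrivial characters of `U`
  let conjHom : H → U →* U := fun h =>
    { toFun := fun u => ⟨(h : G)⁻¹ * u * h, hconjH h u⟩
      map_one' := Subtype.ext (by simp)
      map_mul' := fun a b => Subtype.ext (by simp [mul_assoc]) }
  have hconjHom : ∀ (a b : H) (u : U), conjHom b (conjHom a u) = conjHom (a * b) u :=
    fun a b u => Subtype.ext (by simp [conjHom, mul_assoc])
  let act : MulAction H {ν : U →* ℂˣ // ν ≠ 1} :=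
    { smul := fun h ν => ⟨ν.1.comp (conjHom h), fun e => ν.2 (MonoidHom.ext fun u => by
        have := DFunLike.congr_fun e (conjHom h⁻¹ u)
        rw [MonoidHom.comp_apply, hconjHom, inv_mul_cancel] at this
        simp only [MonoidHom.one_apply] at this ⊢
        rw [← this]
        congr 1
        exact Subtype.ext (by simp [conjHom]))⟩
      one_smul := fun ν => Subtype.ext (MonoidHom.ext fun u => by
        show ν.1 (conjHom 1 u) = ν.1 u
        congr 1; exact Subtype.ext (by simp [conjHom]))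
      mul_smul := fun a b ν => Subtype.ext (MonoidHom.ext fun u => by
        show ν.1 (conjHom (a * b) u) = ν.1 (conjHom b (conjHom a u))
        rw [hconjHom]) }
  have hact : ∀ (h : H) (ν : {ν : U →* ℂˣ // ν ≠ 1}) (u : U),
      (h • ν).1 u = ν.1 (conjHom h u) := fun _ _ _ => rfl
  have hfreeA : ∀ (h : H) (ν : {ν : U →* ℂˣ // ν ≠ 1}), h • ν = ν → h = 1 := by
    intro h ν e
    by_contra hh
    let c : U → U := fun u => u⁻¹ * conjHom h u
    have hc : Function.Injective c := by
      intro v w e'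
      have h1 : (v : G)⁻¹ * ((h : G)⁻¹ * v * h) = (w : G)⁻¹ * ((h : G)⁻¹ * w * h) :=
        congrArg Subtype.val e'
      have h2 : (h : G)⁻¹ * ((v : G) * (w : G)⁻¹) * h = (v : G) * (w : G)⁻¹ := by
        have h3 : (h : G)⁻¹ * v * h = (v : G) * (w : G)⁻¹ * ((h : G)⁻¹ * w * h) := by
          rw [mul_assoc (v : G), ← h1, mul_inv_cancel_left]
        calc (h : G)⁻¹ * ((v : G) * (w : G)⁻¹) * h
            = ((h : G)⁻¹ * v * h) * ((h : G)⁻¹ * w * h)⁻¹ := by simp [mul_assoc]
          _ = _ := by rw [h3, mul_inv_cancel_right]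
      refine Subtype.ext (mul_inv_eq_one.mp (hfree (h : G) h.2 (fun e => hh (Subtype.ext e)) _
        (mul_mem v.2 (inv_mem w.2)) ?_))
      conv_lhs => rw [← h2]
      simp [mul_assoc]
    refine ν.2 (MonoidHom.ext fun u => ?_)
    obtain ⟨v, rfl⟩ := (Finite.injective_iff_surjective.mp hc) u
    have h1 : (h • ν).1 v = ν.1 v := by rw [e]
    rw [hact] at h1
    simp [c, h1]
  haveI : Finite (U →* ℂˣ) := Finite.of_injective (lin (H := U)) fun a b e =>
    MonoidHom.ext fun g => Units.ext (congrFun (congrArg Subtype.val e) g)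
  haveI := Fintype.ofFinite (U →* ℂˣ)
  haveI : Finite (H →* ℂˣ) := Finite.of_injective (lin (H := H)) fun a b e =>
    MonoidHom.ext fun g => Units.ext (congrFun (congrArg Subtype.val e) g)
  haveI := Fintype.ofFinite (H →* ℂˣ)
  let ι := Quotient (MulAction.orbitRel H {ν : U →* ℂˣ // ν ≠ 1})
  haveI : Fintype ι := Fintype.ofFinite ι
  have horb : Function.Bijective fun x : ι × H => x.2 • x.1.out := by
    refine ⟨?_, fun ν => ?_⟩
    · rintro ⟨i, h⟩ ⟨j, k⟩ e
      simp only at e
      have hij : i = j := by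
        rw [← Quotient.out_eq i, ← Quotient.out_eq j]
        exact Quotient.sound ⟨h⁻¹ * k, by
          show (h⁻¹ * k) • j.out = i.out
          rw [mul_smul, ← e, inv_smul_smul]⟩
      subst hij
      exact Prod.ext rfl (inv_mul_eq_one.mp (hfreeA (k⁻¹ * h) i.out
        (by rw [mul_smul, e, inv_smul_smul]))).symm
    · obtain ⟨h, hh⟩ := Quotient.exact (Quotient.out_eq
        (Quotient.mk (MulAction.orbitRel H {ν : U →* ℂˣ // ν ≠ 1}) ν))
      refine ⟨(Quotient.mk (MulAction.orbitRel H {ν : U →* ℂˣ // ν ≠ 1}) ν, h⁻¹), ?_⟩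
      show h⁻¹ • _ = ν
      rw [← hh]; exact inv_smul_smul h ν
  let rep : ι × H → (U →* ℂˣ) := fun x => (x.2 • x.1.out).1
  have hrep : ∀ i h (u : U), rep (i, h) u = i.out.1 (conjHom h u) := fun _ _ _ => rfl
  have hrepinj : Function.Injective rep := fun _ _ e => horb.1 (Subtype.ext e)
  have hlinbij : Function.Bijective (lin (H := U)) := lin_bijective fun a b =>
    Subtype.ext (hUc a a.2 b b.2)
  have hcardU : Nat.card (U →* ℂˣ) = q := by
    letI : CommGroup U := { (inferInstance : Group U) with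
      mul_comm := fun a b => Subtype.ext (hUc a a.2 b b.2) }
    have : NeZero (Monoid.exponent U) := ⟨Monoid.exponent_ne_zero_of_finite⟩
    have : NeZero (Monoid.exponent U : ℂ) := NeZero.charZero
    rw [CommGroup.card_monoidHom_of_hasEnoughRootsOfUnity]
  set t := Nat.card ι with ht
  have hqt : q = t * d + 1 := by
    have h1 := Nat.card_congr (Equiv.ofBijective _ horb)
    rw [Nat.card_prod, ← ht, ← hddef] at h1
    rw [h1, ← hcardU, Nat.card_eq_fintype_card, Nat.card_eq_fintype_card,
      Fintype.card_subtype_compl, Fintype.card_subtype_eq]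
    have : 1 ≤ Fintype.card (U →* ℂˣ) := Fintype.card_pos
    omega
  by_contra hlt
  have ht3 : 3 ≤ t := by
    by_contra h
    have : t * d ≤ 2 * d := Nat.mul_le_mul_right d (by omega)
    omega
  obtain ⟨e, he⟩ := hodd
  have he1 : 1 ≤ e := by omega
  -- induced functions
  let P : (U →* ℂˣ) → N → ℂ := fun ν =>
    indFun (U.subgroupOf N) fun x => (ν ⟨((x : N) : G), x.2⟩ : ℂ)
  have hP : ∀ ν (n : N), P ν n =
      if hn : (n : G) ∈ U then ∑ h : H, (ν (conjHom h ⟨n, hn⟩) : ℂ) else 0 := by
    intro ν n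
    have hval : ∀ (u : U) (h : H), extendByZero (U.subgroupOf N)
        (fun x => (ν ⟨((x : N) : G), x.2⟩ : ℂ)) ((ψ (u, h))⁻¹ * n * ψ (u, h)) =
        if hn : (n : G) ∈ U then (ν (conjHom h ⟨n, hn⟩) : ℂ) else 0 := by
      intro u h
      by_cases hn : (n : G) ∈ U
      · rw [dif_pos hn]
        have hv : (((ψ (u, h))⁻¹ * n * ψ (u, h) : N) : G) = (h : G)⁻¹ * n * h := by
          simp only [Subgroup.coe_mul, Subgroup.coe_inv, hψ, mul_inv_rev, mul_assoc]
          rw [← mul_assoc (n : G) u, hUc _ hn _ u.2, mul_assoc, inv_mul_cancel_left]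
        have hm : ((ψ (u, h))⁻¹ * n * ψ (u, h) : N) ∈ U.subgroupOf N := by
          rw [Subgroup.mem_subgroupOf, hv]; exact hconjH h ⟨n, hn⟩
        rw [extendByZero_mem _ _ hm]
        congr 2; exact Subtype.ext hv
      · rw [dif_neg hn, extendByZero_not_mem _ _ fun hm => hn ?_]
        rw [Subgroup.mem_subgroupOf] at hm
        have := hconjU _ (ψ (u, h)).2 _ hm
        simpa [mul_assoc] using this
    have hc : (Nat.card (U.subgroupOf N) : ℂ) = q := by
      rw [Nat.card_congr (Subgroup.subgroupOfEquivOfLe hUN).toEquiv]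
    show (Nat.card (U.subgroupOf N) : ℂ)⁻¹ * _ = _
    rw [sumN, hc]
    simp only [hval, Finset.sum_const, Finset.card_univ, ← Nat.card_eq_fintype_card, ← hqdef,
      nsmul_eq_mul, ← Finset.mul_sum]
    rw [← mul_assoc, inv_mul_cancel₀ hq0, one_mul]
    split_ifs <;> simp
  have hPcf : ∀ ν, IsClassFunction N (P ν) := fun ν => isClassFunction_indFun _ _
  have hPch : ∀ ν, IsCharacter N (P ν) := fun ν => by
    refine isCharacter_indFun _ (isCharacter_of_isIrr (isIrrCharacter_linear
      (ν.comp (Subgroup.subgroupOfEquivOfLe hUN).toMonoidHom)))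
  let F : ι → G → ℂ := fun i => indFun N (P i.out.1)
  have hFcf : ∀ i, IsClassFunction G (F i) := fun i => isClassFunction_indFun _ _
  have hFch : ∀ i, IsCharacter G (F i) := fun i => isCharacter_indFun _ (hPch _)
  have hPone : ∀ ν, P ν 1 = d := fun ν => by
    have h1 : ((1 : N) : G) ∈ U := one_mem U
    rw [hP, dif_pos h1]
    simp only [show (⟨((1 : N) : G), h1⟩ : U) = 1 from rfl, map_one, Units.val_one, Finset.sum_const,
      Finset.card_univ, nsmul_eq_mul, mul_one, ← Nat.card_eq_fintype_card, ← hddef]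
  have hFone : ∀ i, F i 1 = ((q : ℂ) + 1) * d := fun i => by
    show indFun N (P i.out.1) 1 = _
    rw [indFun_one, hPone, hidx]; push_cast; rfl
  have hPU : ∀ i (u : U), P i.out.1 ⟨u, hUN u.2⟩ = ∑ h : H, (rep (i, h) u : ℂ) := fun i u => by
    rw [hP, dif_pos u.2]; rfl
  have hFU : ∀ i (u : U), u ≠ 1 → F i u = P i.out.1 ⟨u, hUN u.2⟩ := fun i u hu =>
    indFun_TI_apply (U : Set G)
      (fun g hg x hx hgx => hU1 g hg x hx (hUN hgx)) (P i.out.1) (hPcf _)
      (fun x hx => (hP _ x).trans (dif_neg fun h => hx h)) ⟨u, hUN u.2⟩ u.2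
      (fun h => hu (Subtype.ext (congrArg (fun z : N => (z : G)) h :)))
  have hFH : ∀ i (h : H), h ≠ 1 → F i h = 0 := by
    intro i h hh
    show (Nat.card N : ℂ)⁻¹ * _ = 0
    rw [Finset.sum_eq_zero, mul_zero]
    intro x _
    by_cases hm : x⁻¹ * (h : G) * x ∈ N
    swap; · exact extendByZero_not_mem _ _ hm
    rw [extendByZero_mem _ _ hm, hP, dif_neg]
    intro hu
    have hu' : x⁻¹ * (h : G) * x ∈ U := hu
    by_cases hx : x ∈ N
    · exact hh (Subtype.ext (hdisj _ (by simpa [mul_assoc] using hconjU _ hx _ hu') h.2))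
    · obtain ⟨n, hn, rfl⟩ := hH1 x hx h h.2 (fun e => hh (Subtype.ext e)) hm
      refine hh (Subtype.ext (inv_eq_one.mp (hdisj _ ?_ (inv_mem h.2))))
      have e1 : s⁻¹ * (h : G) * s = (h : G)⁻¹ := by
        have := hinv _ (inv_mem h.2)
        rw [inv_inv] at this
        nth_rewrite 1 [← this]
        simp [mul_assoc]
      rw [← e1]
      simpa [mul_assoc] using hconjU _ hn _ hu'
  let L : (H →* ℂˣ) → G → ℂ := fun l => indFun N fun n => (l (π n) : ℂ)
  have hLcf : ∀ l, IsClassFunction G (L l) := fun l => isClassFunction_indFun _ _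
  have hLch : ∀ l, IsCharacter G (L l) := fun l =>
    isCharacter_indFun _ (isCharacter_of_isIrr (isIrrCharacter_linear (l.comp π)))
  have hLone : ∀ l, L l 1 = (q : ℂ) + 1 := fun l => by
    show indFun N _ 1 = _
    rw [indFun_one, hidx]; simp
  have hLU : ∀ l (u : U), u ≠ 1 → L l u = 1 := by
    intro l u hu
    have hval : ∀ x : G, extendByZero N (fun n => (l (π n) : ℂ)) (x⁻¹ * u * x) =
        if x ∈ N then 1 else 0 := by
      intro x
      by_cases hx : x ∈ N
      · have hm : x⁻¹ * (u : G) * x ∈ U := by simpa using hconjU _ (inv_mem hx) _ u.2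
        rw [if_pos hx, extendByZero_mem _ _ (hUN hm), hπU _ hm, map_one, Units.val_one]
      · rw [if_neg hx, extendByZero_not_mem _ _ fun hm => ?_]
        refine hu (Subtype.ext (hU1 x⁻¹ (fun h => hx (inv_mem_iff.mp h)) u u.2 ?_))
        rwa [inv_inv]
    show (Nat.card N : ℂ)⁻¹ * _ = 1
    rw [Finset.sum_congr rfl fun x _ => hval x, Finset.sum_boole, ← Fintype.card_subtype,
      ← Nat.card_eq_fintype_card]
    exact inv_mul_cancel₀ (card_ne_zero_complex N)
  have hLH : ∀ l (h : H), h ≠ 1 → L l h = (l h : ℂ) + conj (l h : ℂ) := by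
    intro l h hh
    have hconj : conj (l h : ℂ) = (l h⁻¹ : ℂ) := by
      have := linear_conj_mul l h
      rw [map_inv, Units.val_inv_eq_inv_val]
      exact eq_inv_of_mul_eq_one_right this
    have hsh : s⁻¹ * (h : G) * s = (h : G)⁻¹ := by
      have := hinv _ (inv_mem h.2)
      rw [inv_inv] at this
      nth_rewrite 1 [← this]
      simp [mul_assoc]
    have hπconj : ∀ (n : N) (k : H), π (n⁻¹ * ⟨(k : G), hHN k.2⟩ * n) = k := fun n k => by
      have e : π ⟨(k : G), hHN k.2⟩ = k := by
        rw [show (⟨(k : G), hHN k.2⟩ : N) = ψ (1, k) from Subtype.ext (by simp [hψ]), hπ]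
      rw [map_mul, map_mul, map_inv, e]
      exact Subtype.ext (by
        simp only [Subgroup.coe_mul, Subgroup.coe_inv]
        rw [mul_assoc, hHc _ k.2 _ (π n).2, inv_mul_cancel_left])
    have hval : ∀ x : G, extendByZero N (fun n => (l (π n) : ℂ)) (x⁻¹ * h * x) =
        (if x ∈ N then (l h : ℂ) else 0) + if s⁻¹ * x ∈ N then (l h⁻¹ : ℂ) else 0 := by
      intro x
      by_cases hx : x ∈ N
      · have hnot : ¬ s⁻¹ * x ∈ N := fun hm => hs (inv_mem_iff.mp (by
          simpa using mul_mem hm (inv_mem hx)))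
        rw [if_pos hx, if_neg hnot, add_zero,
          extendByZero_mem _ _ (mul_mem (mul_mem (inv_mem hx) (hHN h.2)) hx)]
        exact congrArg (fun k => ((l k : ℂˣ) : ℂ)) (hπconj ⟨x, hx⟩ h)
      · rw [if_neg hx, zero_add]
        by_cases hm : s⁻¹ * x ∈ N
        · have hxe : x⁻¹ * (h : G) * x = (s⁻¹ * x)⁻¹ * (h⁻¹ : H) * (s⁻¹ * x) := by
            rw [Subgroup.coe_inv, ← hsh]; simp [mul_assoc]
          rw [if_pos hm, hxe, extendByZero_mem _ _
            (mul_mem (mul_mem (inv_mem hm) (hHN (h⁻¹).2)) hm)]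
          exact congrArg (fun k => ((l k : ℂˣ) : ℂ)) (hπconj ⟨_, hm⟩ h⁻¹)
        · rw [if_neg hm, extendByZero_not_mem _ _ fun hm' => hm ?_]
          obtain ⟨n, hn, rfl⟩ := hH1 x hx h h.2 (fun e => hh (Subtype.ext e)) hm'
          rwa [inv_mul_cancel_left]
    have hcard2 : (Finset.univ.filter fun x : G => s⁻¹ * x ∈ N).card = Nat.card N := by
      rw [← Fintype.card_subtype, ← Nat.card_eq_fintype_card]
      exact Nat.card_congr (Equiv.subtypeEquiv (Equiv.mulLeft s⁻¹) fun x => Iff.rfl)
    show (Nat.card N : ℂ)⁻¹ * _ = _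
    rw [Finset.sum_congr rfl fun x _ => hval x, Finset.sum_add_distrib, ← Finset.sum_filter,
      ← Finset.sum_filter, Finset.sum_const, Finset.sum_const, hcard2, ← Fintype.card_subtype,
      ← Nat.card_eq_fintype_card, nsmul_eq_mul, nsmul_eq_mul, ← mul_add, hconj]
    exact inv_mul_cancel_left₀ (card_ne_zero_complex N) _
  -- inner products
  have hinnerL : ∀ l (θ : G → ℂ), IsClassFunction G θ → classInner (L l) θ =
      ((q : ℂ) * d)⁻¹ * ∑ h : H, (l h : ℂ) * ∑ u : U, conj (θ ((u : G) * h)) := by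
    intro l θ hθ
    rw [show classInner (L l) θ = _ from classInner_indFun N _ hθ, classInner, hcN, sumN]
    simp only [hπ, hψ, Finset.mul_sum]
  have hLsum : ∀ m (h : H), ∑ u : U, conj (L m ((u : G) * h))
      = (q : ℂ) * ((m h : ℂ) + conj (m h : ℂ)) := by
    intro m h
    by_cases hh : h = 1
    · subst hh
      rw [← Finset.add_sum_erase _ _ (Finset.mem_univ (1 : U)), Finset.sum_congr rfl
        (fun u hu => by
          rw [OneMemClass.coe_one, mul_one, hLU m u (Finset.ne_of_mem_erase hu), map_one])]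
      simp [hLone, hqdef, Nat.card_eq_fintype_card, Finset.card_erase_of_mem,
        Nat.cast_sub (Fintype.card_pos (α := U))]
      ring
    · rw [Finset.sum_congr rfl fun u _ => by rw [hcf _ (hLcf m) u h hh, hLH m h hh, map_add,
        Complex.conj_conj]]
      rw [Finset.sum_const, Finset.card_univ, nsmul_eq_mul, ← Nat.card_eq_fintype_card, add_comm]
  have hLL : ∀ l m, classInner (L l) (L m) =
      (if l = m then 1 else 0) + if l = m⁻¹ then 1 else 0 := by
    intro l m
    rw [hinnerL l _ (hLcf m)]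
    simp only [hLsum, mul_add, Finset.sum_add_distrib, mul_left_comm (_ : ℂ) (q : ℂ),
      ← Finset.mul_sum, sum_hom_mul, sum_hom_mul_conj, ← hddef]
    split_ifs <;> field_simp <;> norm_num
  have hL1 : ∀ l, classInner (L l) (fun _ => (1 : ℂ)) = if l = 1 then 1 else 0 := by
    intro l
    rw [hinnerL l _ (fun _ _ => rfl)]
    have h0 := sum_hom_mul_conj l (1 : H →* ℂˣ)
    simp only [MonoidHom.one_apply, Units.val_one, map_one, mul_one] at h0
    simp only [map_one, Finset.sum_const, Finset.card_univ, nsmul_eq_mul, mul_one,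
      ← Nat.card_eq_fintype_card, ← hqdef, ← Finset.sum_mul, h0, ← hddef]
    split_ifs <;> field_simp <;> norm_num
  have hrep1 : ∀ (i : ι) (h : H), ∑ u : U, (rep (i, h) u : ℂ) = 0 := fun i h => by
    have h0 := sum_hom_mul_conj (rep (i, h)) 1
    rw [if_neg (show rep (i, h) ≠ 1 from (h • Quotient.out i).2)] at h0
    simpa using h0
  have hPsum : ∀ i : ι, ∑ u : U, P i.out.1 ⟨u, hUN u.2⟩ = 0 := fun i => by
    simp only [hPU]
    rw [Finset.sum_comm]
    exact Finset.sum_eq_zero fun h _ => hrep1 i h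
  have hLF : ∀ l (i : ι), classInner (L l) (F i) = 1 := by
    intro l i
    rw [hinnerL l _ (hFcf i), Finset.sum_eq_single (1 : H)
      (fun h _ hh => by
        rw [Finset.sum_eq_zero fun u _ => by rw [hcf _ (hFcf i) u h hh, hFH i h hh, map_zero],
          mul_zero]) (by simp)]
    have h2 : ∑ u : U, conj (F i ((u : G) * ((1 : H) : G))) = (q : ℂ) * d := by
      have h3 : ∀ u : U, conj (F i ((u : G) * ((1 : H) : G))) =
          conj (P i.out.1 ⟨u, hUN u.2⟩) + if u = 1 then (q : ℂ) * d else 0 := by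
        intro u
        rw [OneMemClass.coe_one, mul_one]
        split_ifs with hu
        · subst hu
          rw [show F i ((1 : U) : G) = _ from hFone i]
          rw [show (⟨((1 : U) : G), hUN (1 : U).2⟩ : N) = 1 from rfl, hPone]
          simp; ring
        · rw [hFU i u hu, add_zero]
      rw [Finset.sum_congr rfl fun u _ => h3 u, Finset.sum_add_distrib, ← map_sum, hPsum, map_zero,
        zero_add, Finset.sum_ite_eq', if_pos (Finset.mem_univ _)]
    rw [h2, map_one, Units.val_one, one_mul, inv_mul_cancel₀ (mul_ne_zero hq0 hd0)]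
  have h1F : ∀ i, classInner (fun _ => (1 : ℂ)) (F i) = 0 := by
    intro i
    rw [show classInner (fun _ => (1 : ℂ)) (F i) = _ from
      classInner_indFun_right N _ (fun _ _ => rfl), classInner, sumN]
    rw [Finset.sum_eq_single (1 : H) (fun h _ hh => Finset.sum_eq_zero fun u _ => by
      rw [hP, dif_neg fun hm => hh (hmemU u h hm), map_zero, mul_zero]) (by simp)]
    have : ∀ u : U, P i.out.1 (ψ (u, 1)) = P i.out.1 ⟨u, hUN u.2⟩ := fun u =>
      congrArg _ (Subtype.ext (by simp [hψ]))
    simp only [this, one_mul, ← map_sum, hPsum, map_zero, mul_zero]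
  have hFF : ∀ i j, classInner (F i) (F j) = (if i = j then 1 else 0) + (d : ℂ) := by
    intro i j
    rw [show classInner (F i) (F j) = _ from classInner_indFun N _ (hFcf j), classInner, hcN, sumN]
    rw [Finset.sum_eq_single (1 : H) (fun h _ hh => Finset.sum_eq_zero fun u _ => by
      rw [hP, dif_neg fun hm => hh (hmemU u h hm), zero_mul]) (by simp)]
    have h3 : ∀ u : U, P i.out.1 (ψ (u, 1)) * conj (F j (ψ (u, 1) : N)) =
        (∑ h : H, (rep (i, h) u : ℂ)) * conj (∑ h : H, (rep (j, h) u : ℂ))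
          + if u = 1 then (q : ℂ) * d * d else 0 := by
      intro u
      have e1 : ψ (u, 1) = ⟨u, hUN u.2⟩ := Subtype.ext (by simp [hψ])
      rw [e1, ← hPU, ← hPU]
      split_ifs with hu
      · subst hu
        rw [show (⟨((1 : U) : G), hUN (1 : U).2⟩ : N) = 1 from rfl, hPone, hPone]
        simp [hFone]; ring
      · rw [show F j ((⟨u, hUN u.2⟩ : N) : G) = _ from hFU j u hu, add_zero]
    have h4 : ∑ u : U, (∑ h : H, (rep (i, h) u : ℂ)) * conj (∑ h : H, (rep (j, h) u : ℂ))
        = if i = j then (q : ℂ) * d else 0 := by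
      simp only [map_sum, Finset.sum_mul, Finset.mul_sum]
      rw [Finset.sum_comm]
      simp only [Finset.sum_comm (s := (Finset.univ : Finset U)), sum_hom_mul_conj,
        hrepinj.eq_iff, Prod.mk.injEq, ← hqdef]
      split_ifs with hij
      · simp [hij, hddef, Nat.card_eq_fintype_card, mul_comm]
      · simp [hij]
    rw [Finset.sum_congr rfl fun u _ => h3 u, Finset.sum_add_distrib, h4, Finset.sum_ite_eq',
      if_pos (Finset.mem_univ _)]
    split_ifs <;> field_simp <;> ring
  -- the virtual characters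
  set one : G → ℂ := fun _ => 1 with hone
  set χ : G → ℂ := L 1 - one with hχ
  have hχcf : IsClassFunction G χ := isClassFunction_sub (hLcf 1) (fun _ _ => rfl)
  have h1irr : IsIrrCharacter G one := isIrrCharacter_one
  have h1L : ∀ l, classInner one (L l) = if l = 1 then 1 else 0 := fun l => by
    rw [classInner_conj_symm, hL1]; split_ifs <;> simp
  have h11 : classInner one one = 1 := classInner_irr_self h1irr
  have hone1 : (1 : H →* ℂˣ)⁻¹ = 1 := MonoidHom.ext fun h => by simp
  have hLχ : ∀ l, classInner (L l) χ = if l = 1 then 1 else 0 := fun l => by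
    rw [hχ, classInner_sub_right, hLL, hL1, hone1]; split_ifs <;> norm_num
  have hχχ : classInner χ χ = 1 := by
    conv_lhs => arg 1; rw [hχ]
    rw [classInner_sub_left, hLχ, if_pos rfl, hχ, classInner_sub_right, h1L, h11, if_pos rfl]
    norm_num
  have hχirr : IsIrrCharacter G χ := by
    refine isIrrCharacter_of_norm_one (isCharacter_iff_natCast.mpr ⟨hχcf, fun θ => ?_⟩) hχχ
    obtain ⟨n, hn⟩ := classInner_natCast (hLch 1) (isCharacter_of_isIrr θ.2)
    by_cases hθ : (θ : G → ℂ) = one
    · exact ⟨0, by rw [hθ, hχ, classInner_sub_left, hL1, h11, if_pos rfl]; norm_num⟩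
    · exact ⟨n, by rw [hχ, classInner_sub_left, hn, classInner_irr_ne h1irr θ.2 (Ne.symm hθ),
        sub_zero]⟩
  have hsq : ∀ l : H →* ℂˣ, l = l⁻¹ → l = 1 := by
    intro l hl
    refine MonoidHom.ext fun h => ?_
    have h1 : (l h) ^ 2 = 1 := by
      rw [pow_two]; nth_rewrite 2 [hl]
      rw [MonoidHom.inv_apply, mul_inv_cancel]
    have h2 : (l h) ^ d = 1 := by
      rw [← map_pow, hddef, pow_card_eq_one', map_one]
    rw [he, pow_succ, pow_mul, h1, one_pow, one_mul] at h2
    exact h2
  have hLirr : ∀ l, l ≠ 1 → IsIrrCharacter G (L l) := fun l hl =>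
    isIrrCharacter_of_norm_one (hLch l) (by
      rw [hLL, if_pos rfl, if_neg (fun h => hl (hsq l h)), add_zero])
  set S := ((Finset.univ : Finset (H →* ℂˣ)).erase 1) with hS
  have hScard : (S.card : ℂ) = (d : ℂ) - 1 := by
    letI : CommGroup H := { (inferInstance : Group H) with
      mul_comm := fun a b => Subtype.ext (hHc a a.2 b b.2) }
    have : NeZero (Monoid.exponent H) := ⟨Monoid.exponent_ne_zero_of_finite⟩
    have : NeZero (Monoid.exponent H : ℂ) := NeZero.charZero
    rw [hS, Finset.card_erase_of_mem (Finset.mem_univ _), Finset.card_univ,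
      ← Nat.card_eq_fintype_card, CommGroup.card_monoidHom_of_hasEnoughRootsOfUnity,
      Nat.cast_sub Nat.card_pos, Nat.cast_one]
  set c : G → ℂ := (2 : ℂ)⁻¹ • (∑ l ∈ S, L l) + χ with hc
  have hccf : IsClassFunction G c := isClassFunction_add
    (isClassFunction_smul _ (isClassFunction_sum _ _ fun l _ => hLcf l)) hχcf
  have hχL : ∀ l, classInner χ (L l) = if l = 1 then 1 else 0 := fun l => by
    rw [classInner_conj_symm, hLχ]; split_ifs <;> simp
  have hSne : ∀ l ∈ S, l ≠ 1 := fun l hl => Finset.ne_of_mem_erase hl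
  have hLc : ∀ l ∈ S, classInner (L l) c = 1 := by
    intro l hl
    have hl' : l⁻¹ ∈ S := Finset.mem_erase.mpr ⟨fun hl1 => hSne l hl (MonoidHom.ext fun h => by
      simpa using DFunLike.congr_fun hl1 h), Finset.mem_univ _⟩
    rw [hc, classInner_add_right, hLχ, if_neg (hSne l hl), add_zero, classInner_smul_right,
      classInner_sum_right, Finset.sum_congr rfl fun m _ => hLL l m]
    have hfl : ∀ m : H →* ℂˣ, (l = m⁻¹) ↔ (m = l⁻¹) := fun m =>
      ⟨fun h => by rw [h]; ext; simp, fun h => by rw [h]; ext; simp⟩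
    simp only [hfl]
    rw [Finset.sum_add_distrib, Finset.sum_ite_eq, Finset.sum_ite_eq', if_pos hl, if_pos hl']
    simp only [map_inv₀, map_ofNat]
    norm_num
  have hχc : classInner χ c = 1 := by
    rw [hc, classInner_add_right, hχχ, classInner_smul_right, classInner_sum_right,
      Finset.sum_eq_zero fun l hl => by rw [hχL, if_neg (hSne l hl)], mul_zero, zero_add]
  have hχF : ∀ i, classInner χ (F i) = 1 := fun i => by
    rw [hχ, classInner_sub_left, hLF, h1F, sub_zero]
  have h1c : classInner one c = 0 := by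
    rw [hc, classInner_add_right, classInner_smul_right, classInner_sum_right,
      Finset.sum_eq_zero fun l hl => by rw [h1L, if_neg (hSne l hl)], mul_zero, zero_add, hχ,
      classInner_sub_right, h1L, h11, if_pos rfl, sub_self]
  have hcc : classInner c c = ((d : ℂ) + 1) / 2 := by
    conv_lhs => arg 1; rw [hc]
    rw [classInner_add_left, classInner_smul_left, classInner_sum_left, hχc,
      Finset.sum_congr rfl hLc, Finset.sum_const, nsmul_eq_mul, hScard]
    ring
  have hcF : ∀ i, classInner c (F i) = ((d : ℂ) + 1) / 2 := fun i => by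
    rw [hc, classInner_add_left, classInner_smul_left, classInner_sum_left, hχF,
      Finset.sum_congr rfl (fun l _ => hLF l i), Finset.sum_const, nsmul_eq_mul, hScard]
    ring
  let v : ι → G → ℂ := fun i => F i - c
  have hvcf : ∀ i, IsClassFunction G (v i) := fun i => isClassFunction_sub (hFcf i) hccf
  have hvv : ∀ i j, classInner (v i) (v j) = (if i = j then 1 else 0) + (e : ℂ) := by
    intro i j
    have h1 : classInner (F i) c = ((d : ℂ) + 1) / 2 := by
      rw [classInner_conj_symm, hcF]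
      simp [map_div₀, map_add, map_ofNat]
    simp only [v, classInner_sub_left, classInner_sub_right, hFF, hcc, hcF, h1]
    rw [he]; push_cast; ring
  let inR : IrrCharacter G → Prop := fun θ => ∀ l, classInner (θ : G → ℂ) (L l) = 0
  choose nat hnat using fun (θ : IrrCharacter G) (i : ι) =>
    classInner_natCast (isCharacter_of_isIrr θ.2) (hFch i)
  let a : IrrCharacter G → ι → ℕ := fun θ i => if inR θ then nat θ i else 0
  have hav : ∀ (θ : IrrCharacter G) (i : ι), classInner (θ : G → ℂ) (v i) = (a θ i : ℂ) := by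
    intro θ i
    simp only [v, classInner_sub_right, a]
    split_ifs with hR
    · have hne1 : (θ : G → ℂ) ≠ one := fun h => by
        have := hR 1
        rw [h, h1L, if_pos rfl] at this
        exact one_ne_zero this
      have h1 : classInner (θ : G → ℂ) c = 0 := by
        rw [hc, classInner_add_right, classInner_smul_right, classInner_sum_right,
          Finset.sum_eq_zero fun l _ => hR l, mul_zero, zero_add, hχ, classInner_sub_right, hR 1,
          classInner_irr_ne θ.2 h1irr hne1, sub_zero]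
      rw [hnat, h1, sub_zero]
    · obtain ⟨l, hl⟩ := not_forall.mp hR
      rw [Nat.cast_zero]
      by_cases hl1 : l = 1
      · subst hl1
        rw [show L 1 = χ + one from (sub_add_cancel _ _).symm, classInner_add_right] at hl
        by_cases hθ1 : (θ : G → ℂ) = one
        · rw [hθ1, h1F, h1c, sub_zero]
        · rw [classInner_irr_ne θ.2 h1irr hθ1, add_zero] at hl
          have : (θ : G → ℂ) = χ := by
            by_contra h; exact hl (classInner_irr_ne θ.2 hχirr h)
          rw [this, hχF, hχc, sub_self]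
      · have : (θ : G → ℂ) = L l := by
          by_contra h; exact hl (classInner_irr_ne θ.2 (hLirr l hl1) h)
        rw [this, hLF, hLc l (Finset.mem_erase.mpr ⟨hl1, Finset.mem_univ _⟩), sub_self]
  have hgram : ∀ i j : ι, ∑ θ : IrrCharacter G, (a θ i : ℤ) * a θ j = (if i = j then 1 else 0) + (e : ℤ) := by
    intro i j
    have h1 := classInner_eq_sum (φ := v i) (hvcf j)
    rw [hvv] at h1
    have h2 : ∀ θ : IrrCharacter G, classInner (v i) θ * conj (classInner (v j) (θ : G → ℂ)) =
        (a θ i : ℂ) * a θ j := fun θ => by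
      rw [classInner_conj_symm (θ : G → ℂ) (v i), ← classInner_conj_symm (v j) (θ : G → ℂ),
        hav, hav, map_natCast]
    rw [Finset.sum_congr rfl fun θ _ => h2 θ] at h1
    apply Int.cast_injective (α := ℂ)
    push_cast
    rw [← h1]
  -- degrees
  have hdeg : ∀ θ : IrrCharacter G, inR θ →
      (θ : G → ℂ) 1 = (d : ℂ) * ∑ i, (a θ i : ℂ) := by
    intro θ hθ
    have hθcf := isClassFunction_of_isIrr θ.2
    have hf0 : ∑ u : U, (θ : G → ℂ) u = 0 := by
      have hz : (fun h : H => conj (∑ u : U, conj ((θ : G → ℂ) ((u : G) * h)))) = 0 := by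
        refine eq_zero_of_forall_classInner_eq_zero (fun g h => ?_) fun χ' hχ' => ?_
        · have : h * g * h⁻¹ = g := Subtype.ext (by
            simp only [Subgroup.coe_mul, Subgroup.coe_inv]
            rw [hHc _ h.2 _ g.2, mul_inv_cancel_right])
          rw [this]
        · obtain ⟨l, hl⟩ := (lin_bijective fun a b : H => Subtype.ext (hHc a a.2 b b.2)).2 ⟨χ', hχ'⟩
          have hl' : χ' = fun h : H => (l h : ℂ) := (congrArg Subtype.val hl).symm
          have h1 := hθ l
          rw [classInner_conj_symm, hinnerL l _ hθcf, map_eq_zero,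
            mul_eq_zero, or_iff_right (inv_ne_zero (mul_ne_zero hq0 hd0))] at h1
          rw [classInner_conj_symm, hl', classInner, map_eq_zero, mul_eq_zero]
          right
          rw [← h1]
          exact Finset.sum_congr rfl fun h _ => by rw [Complex.conj_conj]
      have := congrFun hz 1
      simpa [map_sum] using this
    have hres := eq_sum_classInner_smul (G := U) (φ := fun u : U => (θ : G → ℂ) u)
      (fun g h => by
        show (θ : G → ℂ) _ = (θ : G → ℂ) g
        simp only [Subgroup.coe_mul, Subgroup.coe_inv]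
        exact hθcf _ _)
    have h1 := congrFun hres 1
    simp only [Finset.sum_apply, Pi.smul_apply, smul_eq_mul, OneMemClass.coe_one] at h1
    rw [← Equiv.sum_comp (Equiv.ofBijective _ hlinbij)] at h1
    simp only [Equiv.ofBijective_apply, lin_apply, map_one, Units.val_one, mul_one] at h1
    rw [h1]
    let g : (U →* ℂˣ) → ℂ := fun ν => classInner (fun u : U => (θ : G → ℂ) u) (lin ν)
    show ∑ ν, g ν = _
    have hg1 : g 1 = 0 := by
      simp [g, classInner, hf0]
    have hsplit : ∑ ν, g ν = ∑ x : ι × H, g (rep x) := by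
      rw [← Finset.add_sum_erase _ _ (Finset.mem_univ (1 : U →* ℂˣ)), hg1, zero_add]
      symm
      refine Finset.sum_nbij rep (fun x _ => Finset.mem_erase.mpr ⟨(x.2 • x.1.out).2,
        Finset.mem_univ _⟩) (fun x _ y _ h => hrepinj h) (fun ν hν => ?_) fun _ _ => rfl
      obtain ⟨x, hx⟩ := horb.2 ⟨ν, Finset.ne_of_mem_erase hν⟩
      exact ⟨x, Finset.mem_coe.mpr (Finset.mem_univ _), congrArg Subtype.val hx⟩
    have hgi : ∀ i h, g (rep (i, h)) = (a θ i : ℂ) := by
      intro i h
      have hbase : ∀ k : H, g (rep (i, k)) = g i.out.1 := by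
        intro k
        simp only [g, classInner, lin_apply]
        congr 1
        refine Fintype.sum_bijective (conjHom k) (Finite.injective_iff_bijective.mp fun x y e => ?_)
          _ _ fun u => ?_
        · have e' := congrArg (fun z : U => (z : G)) e
          simpa [conjHom] using e'
        · rw [hrep]
          congr 1
          have := hθcf (u : G) (k : G)⁻¹
          simpa [conjHom] using this.symm
      rw [hbase h]
      simp only [a, if_pos hθ]
      rw [← hnat, show classInner (θ : G → ℂ) (F i) = _ from classInner_indFun_right N _ hθcf,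
        classInner, hcN, sumN]
      rw [Finset.sum_eq_single (1 : H) (fun h _ hh => Finset.sum_eq_zero fun u _ => by
        rw [hP, dif_neg fun hm => hh (hmemU u h hm), map_zero, mul_zero]) (by simp)]
      have e1 : ∀ u : U, ψ (u, 1) = (⟨u, hUN u.2⟩ : N) := fun u => Subtype.ext (by simp [hψ])
      simp only [e1, hPU, map_sum, Finset.mul_sum]
      rw [Finset.sum_comm]
      have e2 : ∀ k : H, ∑ u : U, ((q : ℂ) * d)⁻¹ * ((θ : G → ℂ) u * conj (rep (i, k) u : ℂ))
          = (d : ℂ)⁻¹ * g i.out.1 := fun k => by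
        rw [← hbase k]
        simp only [g, classInner, lin_apply, ← hqdef, Finset.mul_sum, mul_inv]
        exact Finset.sum_congr rfl fun u _ => by ring
      rw [Finset.sum_congr rfl fun k _ => e2 k, Finset.sum_const, Finset.card_univ, nsmul_eq_mul,
        ← Nat.card_eq_fintype_card, ← hddef, ← mul_assoc, mul_inv_cancel₀ hd0, one_mul]
    rw [hsplit, Fintype.sum_prod_type]
    simp only [hgi, Finset.sum_const, Finset.card_univ, nsmul_eq_mul, ← Nat.card_eq_fintype_card,
      ← hddef, Finset.mul_sum]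
  have hcardG : Nat.card G = (q + 1) * q * d := by
    have h1 : Nat.card N = q * d := by rw [← Nat.card_congr ψ, Nat.card_prod]
    rw [← Subgroup.index_mul_card N, hidx, h1, mul_assoc]
  have hdvd : ∀ θ, ∑ i, a θ i ≠ 0 → ∑ i, a θ i ∣ (q + 1) * q := by
    intro θ hsum
    by_cases hR : inR θ
    · have h1 := charDegree_dvd_card θ.2
      have h2 : charDegree (θ : G → ℂ) = d * ∑ i, a θ i := by
        apply Nat.cast_injective (R := ℂ)
        rw [← apply_one_eq_charDegree (isCharacter_of_isIrr θ.2), hdeg θ hR]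
        push_cast; rfl
      rw [h2, hcardG, mul_comm ((q + 1) * q)] at h1
      exact Nat.dvd_of_mul_dvd_mul_left (Nat.card_pos (α := H)) h1
    · exact absurd (by simp [a, hR]) hsum
  have hnc : ∀ θ, (∀ i j, a θ i = a θ j) → ∀ i, a θ i = 0 := by
    intro θ hconst i
    by_contra h0
    have hsum : ∑ j, a θ j = t * a θ i := by
      rw [Finset.sum_congr rfl fun j _ => hconst j i, Finset.sum_const, Finset.card_univ,
        smul_eq_mul, ← Nat.card_eq_fintype_card]
    have h1 := hdvd θ (by rw [hsum]; exact Nat.mul_ne_zero (by omega) h0)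
    rw [hsum] at h1
    have h2 : t ∣ (q + 1) * q := (Dvd.intro _ rfl).trans h1
    have h3 : Nat.Coprime t q := by
      rw [hqt, add_comm, mul_comm]; exact (Nat.coprime_add_mul_right_right t 1 d).mpr (Nat.coprime_one_right t) |>.symm |>.symm
    have h4 : t ∣ t * d + 2 := by
      have := h3.dvd_of_dvd_mul_right h2
      rwa [hqt] at this
    have h5 := Nat.le_of_dvd two_pos ((Nat.dvd_add_right (dvd_mul_right t d)).mp h4)
    omega
  obtain ⟨θ, k, hk, hk1, hk2⟩ := rows_structure (by rw [← Nat.card_eq_fintype_card]; exact ht3) a e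
    he1 hgram hnc
  rw [← Nat.card_eq_fintype_card, ← ht] at hk1 hk2
  have hsum : ∑ i, a θ i ≠ 0 := by
    intro h0; rw [h0, zero_pow two_ne_zero] at hk2; omega
  exact arith_false ht3 hk he hk1 hk2 hqt hcop (hdvd θ hsum)

end Cfsg.Agent.Lib.Zass
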