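import Cfsg.Agent.Lib.ZassFrob.OddStab
import Mathlib

/-!
In a Zassenhaus group of degree `2 d + 2`, `d` the even order of a two-point stabiliser, every
element swapping the two points is an involution, hence inverts the two-point stabiliser.
-/

set_option autoImplicit false

namespace Cfsg.Agent.Lib.Zass

open Cfsg.Agent.Lib.ZassFrob MulAction

theorem swap_involution {G Ω : Type*} [Group G] [Finite G] [MulAction G Ω] [Fintype Ω]
    (hZ : Cfsg.IsZassenhausGroup G Ω) {a b : Ω} (hab : a ≠ b)
    (heven : Even (Nat.card ↥(stabilizer G a ⊓ stabilizer G b)))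
    (hd2 : Fintype.card Ω - 2 = 2 * Nat.card ↥(stabilizer G a ⊓ stabilizer G b))
    {t : G} (hta : t • a = b) (htb : t • b = a) : t * t = 1 := by
  haveI : Fact (Nat.Prime 2) := ⟨Nat.prime_two⟩
  obtain ⟨⟨z, hz⟩, hzo⟩ := exists_prime_orderOf_dvd_card'
    (G := ↥(stabilizer G a ⊓ stabilizer G b)) 2 heven.two_dvd
  rw [← Subgroup.orderOf_coe] at hzo
  simp only at hzo
  have hz1 : z ≠ 1 := fun h => by simp [h] at hzo
  set d := Nat.card ↥(stabilizer G a ⊓ stabilizer G b) with hd
  set W : Set G := Set.range fun g : G => g * z * g⁻¹ with hW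
  have hWc : ∀ g : G, ∀ w ∈ W, g * w * g⁻¹ ∈ W := by
    rintro g _ ⟨h, rfl⟩
    exact ⟨g * h, by simp [mul_assoc]⟩
  have hfix : ∀ w ∈ W, Nat.card {x : Ω // w • x ≠ x} = Nat.card Ω - 2 := by
    classical
    rintro _ ⟨g, rfl⟩
    rw [Nat.card_eq_fintype_card, Fintype.card_subtype_compl, Nat.card_eq_fintype_card]
    congr 1
    rw [← Fintype.card_congr (Equiv.subtypeEquiv (MulAction.toPerm g)
      (p := fun x : Ω => x = a ∨ x = b) fun x => ?_), Fintype.card_subtype]
    · have : (Finset.univ.filter fun x : Ω => x = a ∨ x = b) = {a, b} := by ext x; simp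
      rw [this, Finset.card_pair hab]
    · show (x = a ∨ x = b) ↔ (g * z * g⁻¹) • g • x = g • x
      rw [mul_smul, mul_smul, inv_smul_smul, smul_left_cancel_iff]
      refine ⟨?_, fun h => eq_or_eq_of_fix hZ hz1 hab hz.1 hz.2 h⟩
      rintro (rfl | rfl)
      · exact hz.1
      · exact hz.2
  have hcount := card_swapped_pairs hZ hab W hWc
  have hleft : Nat.card {p : W × Ω // (p.1 : G) • p.2 ≠ p.2} = Nat.card W * (Nat.card Ω - 2) := by
    classical
    haveI := Fintype.ofFinite W
    rw [Nat.card_congr ((Equiv.subtypeProdEquivSigmaSubtype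
        fun (w : W) (x : Ω) => (w : G) • x ≠ x)),
      Nat.card_sigma, Finset.sum_congr rfl (fun (w : W) _ => hfix w.1 w.2), Finset.sum_const,
      Finset.card_univ, smul_eq_mul, ← Nat.card_eq_fintype_card]
  have hJ : Nat.card {w : G // w ∈ W ∧ w • a = b} ≤ d := by
    rcases isEmpty_or_nonempty {w : G // w ∈ W ∧ w • a = b} with h | ⟨⟨w₀, hw₀, hw₀a⟩⟩
    · simp
    have hsq : ∀ w ∈ W, w * w = 1 := by
      rintro _ ⟨g, rfl⟩
      simp only [mul_assoc, inv_mul_cancel_left]
      rw [← mul_assoc z z, ← pow_two, ← hzo, pow_orderOf_eq_one, one_mul, mul_inv_cancel]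
    refine Nat.card_le_card_of_injective (fun w => (⟨w₀⁻¹ * w.1, ?_, ?_⟩ :
      ↥(stabilizer G a ⊓ stabilizer G b))) fun w w' h => Subtype.ext
        (mul_left_cancel (congrArg Subtype.val h))
    · show (w₀⁻¹ * w.1) • a = a
      rw [mul_smul, w.2.2, ← hw₀a, inv_smul_smul]
    · show (w₀⁻¹ * w.1) • b = b
      have hb : ∀ w ∈ W, w • a = b → w • b = a := fun w hw h => by
        rw [← h, smul_smul, hsq w hw, one_smul]
      rw [mul_smul, inv_smul_eq_iff, hb _ w.2.1 w.2.2, hb _ hw₀ hw₀a]
  have hlow : Nat.card G ≤ Nat.card W * (2 * d) := by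
    have h1 : Nat.card (MulAction.orbit (ConjAct G) z) * Nat.card (MulAction.stabilizer (ConjAct G) z) =
        Nat.card G := by
      rw [Nat.card_congr (MulAction.orbitEquivQuotientStabilizer (ConjAct G) z),
        ← Subgroup.index_eq_card, mul_comm, Subgroup.card_mul_index]
      exact Nat.card_congr ConjAct.ofConjAct.toEquiv
    have h2 : MulAction.orbit (ConjAct G) z = W := by
      ext w
      constructor
      · rintro ⟨g, rfl⟩; exact ⟨ConjAct.ofConjAct g, rfl⟩
      · rintro ⟨g, rfl⟩; exact ⟨ConjAct.toConjAct g, rfl⟩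
    rw [← h1, h2]
    refine Nat.mul_le_mul_left _ ?_
    set C := MulAction.stabilizer (ConjAct G) z with hC
    have hperm : ∀ c : C, (ConjAct.ofConjAct (c : ConjAct G) • a = a ∧
        ConjAct.ofConjAct (c : ConjAct G) • b = b) ∨ (ConjAct.ofConjAct (c : ConjAct G) • a = b ∧
        ConjAct.ofConjAct (c : ConjAct G) • b = a) := fun c => by
      refine perm_of_commute hZ hab hz.1 hz.2 hz1 ?_
      have h : (c : ConjAct G) • z = z := c.2
      rw [ConjAct.smul_def] at h
      exact mul_inv_eq_iff_eq_mul.mp h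
    letI : MulAction C Ω :=
      MulAction.compHom Ω ((ConjAct.ofConjAct.toMonoidHom).comp C.subtype)
    have ho : Nat.card (MulAction.orbit C a) ≤ 2 := by
      rw [Nat.card_coe_set_eq]
      refine (Set.ncard_le_ncard (t := {a, b}) ?_ (Set.toFinite _)).trans_eq (Set.ncard_pair hab)
      rintro _ ⟨c, rfl⟩
      rcases hperm c with h | h
      · exact Or.inl h.1
      · exact Or.inr h.1
    have hs : Nat.card (MulAction.stabilizer C a) ≤ d := by
      refine Nat.card_le_card_of_injective (fun c => (⟨ConjAct.ofConjAct ((c : C) : ConjAct G), ?_⟩ :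
        ↥(stabilizer G a ⊓ stabilizer G b))) fun c c' h => by
          have h' := congrArg Subtype.val h
          exact Subtype.ext (Subtype.ext (ConjAct.ofConjAct.injective h'))
      have h0 : ConjAct.ofConjAct ((c : C) : ConjAct G) • a = a := c.2
      rcases hperm c with h | h
      · exact h
      · exact absurd (h0.symm.trans h.1) hab
    have hC' : Nat.card (MulAction.orbit C a) * Nat.card (MulAction.stabilizer C a) = Nat.card C := by
      rw [Nat.card_congr (MulAction.orbitEquivQuotientStabilizer C a),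
        ← Subgroup.index_eq_card, mul_comm, Subgroup.card_mul_index]
    rw [← hC']
    exact Nat.mul_le_mul ho hs
  have h3 := two_lt_card hZ hab
  rw [hleft] at hcount
  rw [card_group hZ hab, ← hd] at hlow
  have hJeq : Nat.card {w : G // w ∈ W ∧ w • a = b} = d := by
    rw [← Nat.card_eq_fintype_card] at hd2
    rw [hd2] at hcount
    refine le_antisymm hJ (Nat.le_of_mul_le_mul_left
      ?_ (Nat.mul_pos (show 0 < Nat.card Ω by omega) (show 0 < Nat.card Ω - 1 by omega)))
    rw [← hcount]
    exact hlow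
  have hsq : ∀ w ∈ W, w * w = 1 := by
    rintro _ ⟨g, rfl⟩
    simp only [mul_assoc, inv_mul_cancel_left]
    rw [← mul_assoc z z, ← pow_two, ← hzo, pow_orderOf_eq_one, one_mul, mul_inv_cancel]
  let f : {w : G // w ∈ W ∧ w • a = b} → ↥(stabilizer G a ⊓ stabilizer G b) := fun w =>
    ⟨t⁻¹ * w.1, (by
      show (t⁻¹ * w.1) • a = a
      rw [mul_smul, w.2.2, inv_smul_eq_iff, hta]), (by
      show (t⁻¹ * w.1) • b = b
      have hb : w.1 • b = a := by
        have e := (smul_smul w.1 w.1 a)
        rw [hsq _ w.2.1, one_smul, w.2.2] at e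
        exact e
      rw [mul_smul, hb, inv_smul_eq_iff, htb])⟩
  have hf : Function.Bijective f := (Nat.bijective_iff_injective_and_card _).mpr
    ⟨fun w w' h => Subtype.ext (mul_left_cancel (congrArg Subtype.val h)), hJeq⟩
  obtain ⟨w, hw⟩ := hf.2 1
  have : w.1 = t := by simpa [f, inv_mul_eq_one, eq_comm] using congrArg Subtype.val hw
  rw [← this]
  exact hsq _ w.2.1

theorem swap_inverts_even {G Ω : Type*} [Group G] [Finite G] [MulAction G Ω] [Fintype Ω]
    (hZ : Cfsg.IsZassenhausGroup G Ω) {a b : Ω} (hab : a ≠ b)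
    (heven : Even (Nat.card ↥(stabilizer G a ⊓ stabilizer G b)))
    (hd2 : Fintype.card Ω - 2 = 2 * Nat.card ↥(stabilizer G a ⊓ stabilizer G b))
    {t : G} (hta : t • a = b) (htb : t • b = a) :
    ∀ h ∈ stabilizer G a ⊓ stabilizer G b, t * h * t⁻¹ = h⁻¹ := by
  intro h hh
  have h1 := swap_involution hZ hab heven hd2 hta htb
  have h2 := swap_involution hZ hab heven hd2 (t := t * h)
    (by rw [mul_smul, show h • a = a from hh.1, hta]) (by rw [mul_smul, show h • b = b from hh.2, htb])
  rw [inv_eq_of_mul_eq_one_right h1]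
  exact eq_inv_of_mul_eq_one_left (by simpa [mul_assoc] using h2)

end Cfsg.Agent.Lib.Zass
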