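import Cfsg.Agent.Lib.Zass.PSL
import Cfsg.Agent.Lib.Zass.Bound
import Cfsg.Agent.Lib.Zass.Count
import Cfsg.Agent.Lib.Zass.Regular
import Cfsg.Agent.Lib.Perm.SharplyTwo
import Cfsg.Agent.S0738
import Cfsg.Agent.S0739
import Cfsg.Agent.S0741

/-!
Zassenhaus groups with abelian kernel: `|U| - 1 ≤ 2 d`, and if `|U| - 1 = 2 d` the two-point
stabiliser is inverted by an involution swapping the two points.
-/

set_option autoImplicit false

namespace Cfsg.Agent.Lib.Zass

open MulAction Cfsg.Agent.Lib.ZassFrob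

universe u v

section Kernel

variable {G : Type u} {Ω : Type v} [Group G] [MulAction G Ω]

/-- A subgroup of the point stabiliser, normal in it and regular on the other points. -/
structure IsKernel (U : Subgroup G) (a b : Ω) : Prop where
  ne : a ≠ b
  le : U ≤ stabilizer G a
  conj : ∀ g ∈ stabilizer G a, ∀ u ∈ U, g * u * g⁻¹ ∈ U
  reg : ∀ y : Ω, y ≠ a → ∃! u : U, (u : G) • b = y

namespace IsKernel

variable {U : Subgroup G} {a b : Ω} (h : IsKernel U a b)
include h

theorem smul_ne (u : U) : (u : G) • b ≠ a := fun e =>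
  h.ne (MulAction.injective (u : G) ((h.le u.2 : _).trans e.symm))

theorem fix_only {u : G} (hu : u ∈ U) (hu1 : u ≠ 1) {c : Ω} (hc : u • c = c) : c = a := by
  by_contra hca
  obtain ⟨v, hv, -⟩ := h.reg c hca
  refine hu1 (mul_eq_right.mp (congrArg Subtype.val ((h.reg c hca).unique (y₁ := ⟨u, hu⟩ * v)
    (y₂ := v) ?_ hv)))
  show (u * (v : G)) • b = c
  rw [mul_smul, hv, hc]

theorem card_eq [Finite Ω] : Nat.card U + 1 = Nat.card Ω := by
  classical
  haveI := Fintype.ofFinite Ω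
  have e : Nat.card U = Nat.card {y : Ω // y ≠ a} := Nat.card_eq_of_bijective
    (fun u => ⟨(u : G) • b, h.smul_ne u⟩)
    ⟨fun u u' e => (h.reg _ (h.smul_ne u)).unique rfl (congrArg Subtype.val e).symm,
      fun c => by obtain ⟨u, hu, -⟩ := h.reg c c.2; exact ⟨u, Subtype.ext hu⟩⟩
  rw [e, Nat.card_eq_fintype_card, Nat.card_eq_fintype_card, Fintype.card_subtype_compl,
    Fintype.card_subtype_eq]
  have : 0 < Fintype.card Ω := Fintype.card_pos_iff.mpr ⟨a⟩
  omega

theorem reg_pair (y z : Ω) (hy : y ≠ a) (hz : z ≠ a) : ∃! u : U, (u : G) • y = z := by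
  obtain ⟨v, hv, -⟩ := h.reg y hy
  obtain ⟨w, hw, hwu⟩ := h.reg z hz
  refine ⟨w * v⁻¹, ?_, fun u hu => ?_⟩
  · show ((w : G) * (v : G)⁻¹) • y = z
    rw [← hv, mul_smul, inv_smul_smul, hw]
  · have : u * v = w := hwu _ (show ((u : G) * v) • b = z by rw [mul_smul, hv, hu])
    rw [← this, mul_inv_cancel_right]

theorem normal : (U.subgroupOf (stabilizer G a)).Normal :=
  ⟨fun x hx g => h.conj g g.2 x hx⟩

theorem free {x : G} (hxb : x • b = b) {u : G} (hu : u ∈ U) (hc : x * u * x⁻¹ = u)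
    (hfix : ∀ c, c ≠ a → c ≠ b → x • c = c → x = 1) (hx : x ≠ 1) : u = 1 := by
  by_contra hu1
  refine hx (hfix (u • b) (h.smul_ne ⟨u, hu⟩) (fun e => h.ne (h.fix_only hu hu1 e).symm) ?_)
  rw [smul_smul, mul_inv_eq_iff_eq_mul.mp hc, mul_smul, hxb]

end IsKernel

end Kernel

section

variable {Ω : Type v}

theorem kernel_free {G : Type u} [Group G] [MulAction G Ω] {U : Subgroup G} {a b : Ω}
    (h : IsKernel U a b) (hZ : IsZassenhausGroup G Ω) {x : G}
    (hx : x ∈ stabilizer G a ⊓ stabilizer G b) (hx1 : x ≠ 1) {u : G} (hu : u ∈ U)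
    (hc : x * u * x⁻¹ = u) : u = 1 :=
  h.free hx.2 hu hc (fun _ hca hcb hfx =>
    eq_one_of_fix3 hZ h.ne (Ne.symm hcb) (Ne.symm hca) hx.1 hx.2 hfx) hx1

/-- The hypothesis on coprime factors. -/
theorem dvd_factor_sub_one {G : Type u} [Group G] [Finite G] (U H : Subgroup G)
    (hUc : IsMulCommutative U) (hn : ∀ h ∈ H, ∀ u ∈ U, h * u * h⁻¹ ∈ U)
    (hfree : ∀ h ∈ H, h ≠ 1 → ∀ u ∈ U, h * u * h⁻¹ = u → u = 1) {k m : ℕ}
    (hkm : Nat.card U = k * m) (hcop : Nat.Coprime k m) : Nat.card H ∣ k - 1 := by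
  classical
  letI : CommGroup U := { (inferInstance : Group U) with mul_comm := hUc.is_comm.comm }
  set f : U →* U := powMonoidHom k
  have hker : Nat.card f.ker = k := by
    have hK : Nat.card f.ker ∣ k := by
      refine Nat.Coprime.dvd_of_dvd_mul_right ?_ (hkm ▸ Subgroup.card_subgroup_dvd_card f.ker)
      refine Nat.coprime_of_dvd fun r hr hrK hrm => ?_
      haveI := Fact.mk hr
      obtain ⟨⟨x, hx⟩, hord⟩ := exists_prime_orderOf_dvd_card' r hrK
      rw [Subgroup.orderOf_mk] at hord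
      have : r ∣ k := hord ▸ orderOf_dvd_of_pow_eq_one hx
      exact hr.one_lt.ne' (Nat.dvd_one.mp (hcop ▸ Nat.dvd_gcd this hrm))
    have hR : Nat.card f.range ∣ m := by
      refine Nat.Coprime.dvd_of_dvd_mul_left ?_ (hkm ▸ Subgroup.card_subgroup_dvd_card f.range)
      refine Nat.coprime_of_dvd fun r hr hrK hrk => ?_
      haveI := Fact.mk hr
      obtain ⟨⟨x, y, hy⟩, hord⟩ := exists_prime_orderOf_dvd_card' r hrK
      replace hord : orderOf x = r := (Subgroup.orderOf_coe _).trans hord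
      have hxm : x ^ m = 1 := by
        rw [← hy, powMonoidHom_apply, ← pow_mul, ← hkm, pow_card_eq_one']
      have : r ∣ m := hord ▸ orderOf_dvd_of_pow_eq_one hxm
      exact hr.one_lt.ne' (Nat.dvd_one.mp (hcop ▸ Nat.dvd_gcd hrk this))
    have hprod : Nat.card f.ker * Nat.card f.range = k * m := by
      rw [← hkm, ← Subgroup.card_mul_index f.ker, Subgroup.index_ker]
    have hm0 : 0 < m := Nat.pos_of_ne_zero fun h0 => by
      rw [h0, mul_zero] at hkm; exact Nat.card_pos.ne' hkm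
    refine Nat.dvd_antisymm hK (Nat.dvd_of_mul_dvd_mul_right hm0 ?_)
    rw [← hprod]
    exact Nat.mul_dvd_mul_left _ hR
  let X := {u : U // u ≠ 1 ∧ u ^ k = 1}
  let act : MulAction H X :=
    { smul := fun h u => ⟨⟨(h : G) * (u.1 : G) * (h : G)⁻¹, hn _ h.2 _ u.1.2⟩,
        fun e => u.2.1 (Subtype.ext (conj_eq_one_iff.mp (congrArg Subtype.val e))),
        Subtype.ext (by
          show ((h : G) * (u.1 : G) * (h : G)⁻¹) ^ k = 1
          rw [conj_pow, ← Subgroup.coe_pow, u.2.2, Subgroup.coe_one, mul_one, mul_inv_cancel])⟩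
      one_smul := fun u => Subtype.ext (Subtype.ext (by
        show (1 : G) * (u.1 : G) * (1 : G)⁻¹ = _
        simp))
      mul_smul := fun g h u => Subtype.ext (Subtype.ext (by
        show ((g : G) * h) * (u.1 : G) * ((g : G) * h)⁻¹ = g * (h * (u.1 : G) * (h : G)⁻¹) * (g : G)⁻¹
        group)) }
  have hst : ∀ u : X, stabilizer H u = ⊥ := fun u => (Subgroup.eq_bot_iff_forall _).mpr fun h hh => by
    by_contra h1
    exact u.2.1 (Subtype.ext (hfree h h.2 (fun e => h1 (Subtype.ext e)) _ u.1.2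
      (congrArg (fun z : X => (z.1 : G)) hh)))
  have hX : Nat.card X = k - 1 := by
    haveI := Fintype.ofFinite U
    have h1 : Nat.card f.ker = Nat.card {u : U // u ^ k = 1} := Nat.card_congr
      (Equiv.subtypeEquivRight fun u => MonoidHom.mem_ker)
    rw [hker] at h1
    rw [Nat.card_eq_fintype_card (α := {u : U // u ^ k = 1}), Fintype.card_subtype] at h1
    rw [Nat.card_eq_fintype_card, Fintype.card_subtype]
    refine Eq.trans ?_ (congrArg (· - 1) h1.symm)
    rw [← Finset.card_erase_of_mem (s := Finset.univ.filter fun u : U => u ^ k = 1)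
        (a := 1) (by simp)]
    congr 1
    ext u; simp [and_comm]
  rw [← hX, Nat.card_congr (MulAction.selfEquivOrbitsQuotientProd hst), Nat.card_prod]
  exact Dvd.intro_left _ rfl

/-- A regular normal subgroup of a doubly transitive normal subgroup is normal. -/
theorem no_regular_in_normal {G : Type u} [Group G] [Finite G] [MulAction G Ω]
    (hZ : IsZassenhausGroup G Ω) (N : Subgroup G) (hN : N.Normal)
    (h2 : IsMultiplyPretransitive N Ω 2) (M : Subgroup N) (hM : M.Normal)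
    (htr : IsPretransitive M Ω) (hfree : ∀ x ∈ M, ∀ c : Ω, x • c = c → x = 1) (a : Ω) : False := by
  haveI := hZ.1
  haveI : FaithfulSMul N Ω := ⟨fun h => Subtype.ext (eq_of_smul_eq_smul fun x : Ω => h x)⟩
  let c : G → N →* N := fun g =>
    { toFun := fun x => ⟨g * (x : G) * g⁻¹, hN.conj_mem _ x.2 g⟩
      map_one' := Subtype.ext (by simp)
      map_mul' := fun x y => Subtype.ext (by simp [mul_assoc]) }
  have hc : ∀ g x, ((c g x : N) : G) = g * x * g⁻¹ := fun _ _ => rfl
  have hcsurj : ∀ g, Function.Surjective (c g) := fun g x =>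
    ⟨c g⁻¹ x, Subtype.ext (by simp [hc, mul_assoc])⟩
  have hinv : ∀ g, M.map (c g) = M := by
    intro g
    refine (regular_normal_unique h2 _ M (Subgroup.Normal.map hM _ (hcsurj g)) hM ?_ hfree ?_ htr
      a)
    · rintro _ ⟨x, hx, rfl⟩ y hy
      have : x • (g⁻¹ • y) = g⁻¹ • y := by
        rw [eq_inv_smul_iff]
        show g • (x : G) • g⁻¹ • y = y
        rw [smul_smul, smul_smul]
        exact hy
      rw [hfree x hx _ this, map_one]
    · refine ⟨fun y z => ?_⟩
      obtain ⟨⟨x, hx⟩, hxy⟩ := htr.exists_smul_eq (g⁻¹ • y) (g⁻¹ • z)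
      refine ⟨⟨c g x, Subgroup.mem_map_of_mem _ hx⟩, ?_⟩
      show (g * (x : G) * g⁻¹) • y = z
      rw [mul_smul, mul_smul, show (x : G) • g⁻¹ • y = g⁻¹ • z from hxy, smul_inv_smul]
  have hMn : (M.map N.subtype).Normal := ⟨by
    rintro _ ⟨x, hx, rfl⟩ g
    have : c g x ∈ M := by rw [← hinv g]; exact Subgroup.mem_map_of_mem _ hx
    exact ⟨c g x, this, rfl⟩⟩
  obtain ⟨y, hy⟩ := hZ.2.2.2.2 _ hMn ⟨fun y z => by
    obtain ⟨⟨x, hx⟩, hxy⟩ := htr.exists_smul_eq y z
    exact ⟨⟨x, x, hx, rfl⟩, hxy⟩⟩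
  refine hy ((Subgroup.eq_bot_iff_forall _).mpr ?_)
  rintro ⟨_, x, hx, rfl⟩ hxy
  exact Subtype.ext (show (x : G) = 1 by rw [hfree x hx y hxy]; rfl)

theorem inverted_core {G : Type u} [Group G] [Finite G] [MulAction G Ω] [Fintype Ω]
    (hZ : IsZassenhausGroup G Ω) {a b : Ω} {U : Subgroup G} (hK : IsKernel U a b)
    (hUc : IsMulCommutative U)
    (hodd : Odd (Nat.card ↥(stabilizer G a ⊓ stabilizer G b)))
    (hnil : ∀ q : ℕ, q.Prime → q ∣ Nat.card ↥(stabilizer G a ⊓ stabilizer G b) →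
      ¬ ∃ N : Subgroup G, N.Normal ∧ N.index = q ^ (Nat.card G).factorization q) :
    (∀ s : G, s • a = b → s • b = a → ∀ h ∈ stabilizer G a ⊓ stabilizer G b, s * h * s⁻¹ = h⁻¹) ∧
      Nat.card U - 1 ≤ 2 * Nat.card ↥(stabilizer G a ⊓ stabilizer G b) := by
  obtain ⟨hcyc, -, hinv⟩ := S0739.result hZ hK.ne hodd hnil
  refine ⟨hinv, ?_⟩
  obtain ⟨s, hsa, hsb⟩ := exists_map_pair hZ hK.ne hK.ne.symm
  set H := stabilizer G a ⊓ stabilizer G b with hH
  have hne1 : ∀ x ∈ U, x ≠ 1 → x • b ≠ b := fun x hx hx1 e => hK.ne (hK.fix_only hx hx1 e).symm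
  have h3 := two_lt_card hZ hK.ne
  have hcard := hK.card_eq
  have hnorm : Subgroup.normalizer (U : Set G) = stabilizer G a := by
    refine le_antisymm (fun g hg => ?_) fun g hg => Subgroup.mem_normalizer_iff.mpr fun u =>
      ⟨hK.conj g hg u, fun hu => by simpa [mul_assoc] using hK.conj g⁻¹ (inv_mem hg) _ hu⟩
    haveI : Nontrivial U := Finite.one_lt_card_iff_nontrivial.mp (by omega)
    obtain ⟨⟨u, hu⟩, hu1⟩ := exists_ne (1 : U)
    have hu' : g * u * g⁻¹ ∈ U := (Subgroup.mem_normalizer_iff.mp hg u).mp hu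
    exact hK.fix_only hu' (fun e => hu1 (Subtype.ext (conj_eq_one_iff.mp e))) (by
      rw [mul_smul, mul_smul, inv_smul_smul, show u • a = a from hK.le hu])
  refine two_mul_ge U H s ?_ ?_ ?_ ?_ ?_ ?_ ?_ (hinv s hsa hsb) ?_ ?_ ?_ hodd ?_ ?_
  · exact fun x hx y hy => congrArg Subtype.val (hUc.is_comm.comm ⟨x, hx⟩ ⟨y, hy⟩)
  · exact fun x hx y hy => congrArg Subtype.val (hcyc.commGroup.mul_comm ⟨x, hx⟩ ⟨y, hy⟩)
  · rw [hnorm]; exact inf_le_left
  · intro x hxU hxH
    by_contra h1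
    exact hne1 x hxU h1 hxH.2
  · rw [hnorm]
    intro n hn
    obtain ⟨u, hu, -⟩ := hK.reg (n • b) fun e => hK.ne (MulAction.injective n (hn.trans e.symm))
    refine ⟨u, u.2, (u : G)⁻¹ * n, ⟨(mul_mem (inv_mem (hK.le u.2)) hn : (u : G)⁻¹ * n ∈ stabilizer G a), ?_⟩, (mul_inv_cancel_left _ _).symm⟩
    show ((u : G)⁻¹ * n) • b = b
    rw [mul_smul, inv_smul_eq_iff, hu]
  · exact fun h hh h1 u hu => kernel_free hK hZ hh h1 hu
  · rw [hnorm]
    exact fun h => hK.ne (h.symm.trans hsa)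
  · rw [hnorm]
    intro x hx u hu hxu
    by_contra h1
    have h2 : u • (x⁻¹ • a) = x⁻¹ • a := by
      rw [eq_inv_smul_iff, smul_smul, smul_smul]; exact hxu
    exact hx (inv_smul_eq_iff.mp (hK.fix_only hu h1 h2)).symm
  · rw [hnorm]
    intro x hx h hh h1 hxh
    have h2 : h • (x • a) = x • a := by
      have h4 : (x⁻¹ * h * x) • a = a := hxh
      rwa [mul_smul, mul_smul, inv_smul_eq_iff] at h4
    rcases eq_or_eq_of_fix hZ h1 hK.ne hh.1 hh.2 h2 with e | e
    · exact absurd e hx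
    · refine ⟨s⁻¹ * x, ?_, (mul_inv_cancel_left _ _).symm⟩
      show (s⁻¹ * x) • a = a
      rw [mul_smul, e, inv_smul_eq_iff, hsa]
  · haveI := hZ.2.1
    haveI : IsPretransitive G Ω := isPretransitive_of_is_two_pretransitive
    rw [hnorm, index_stabilizer_of_transitive, hcard]
  · exact fun e => twoPt_ne_bot hZ hK.ne (Subgroup.card_eq_one.mp e)
  · exact fun k m hkm hc => dvd_factor_sub_one U H hUc (fun h hh => hK.conj h hh.1)
      (fun h hh h1 u hu => kernel_free hK hZ hh h1 hu) hkm hc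

/-- With abelian kernel and odd two-point stabilisers, there is no normal complement, so every
swap inverts the two-point stabiliser, whose order is at least `(|U| - 1) / 2`. -/
theorem odd_struct [Fintype Ω] {a b : Ω} :
    ∀ (d : ℕ) (G : Type u) [Group G] [Finite G] [MulAction G Ω] (U : Subgroup G),
      IsZassenhausGroup G Ω → IsKernel U a b → IsMulCommutative U →
      Nat.card ↥(stabilizer G a ⊓ stabilizer G b) = d → Odd d →
      (∀ s : G, s • a = b → s • b = a →
        ∀ h ∈ stabilizer G a ⊓ stabilizer G b, s * h * s⁻¹ = h⁻¹) ∧ Nat.card U - 1 ≤ 2 * d := by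
  intro d
  induction d using Nat.strong_induction_on with
  | h d ih =>
  intro G _ _ _ U hZ hK hUc hd hodd
  subst hd
  refine inverted_core hZ hK hUc hodd ?_
  rintro q hq hqd ⟨N, hN, hidx⟩
  set d := Nat.card ↥(stabilizer G a ⊓ stabilizer G b) with hd
  haveI := Fact.mk hq
  haveI := hZ.1
  haveI : IsPretransitive G Ω := by
    haveI := hZ.2.1
    exact isPretransitive_of_is_two_pretransitive
  have hcard := hK.card_eq
  have hq2 : q ≠ 2 := fun e => hodd.not_two_dvd_nat (e ▸ hqd)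
  have hnp := not_dvd_pairs hZ hK.ne hodd hq hqd
  have hcU : ¬ q ∣ Nat.card U := fun e => hnp (by
    rw [← hcard, Nat.add_sub_cancel]; exact e.mul_left _)
  have hUN : U ≤ N := by
    intro u hu
    have h1 : orderOf (QuotientGroup.mk' N u) ∣ q ^ (Nat.card G).factorization q := by
      rw [← hidx, Subgroup.index_eq_card]; exact orderOf_dvd_natCard _
    have h2 : orderOf (QuotientGroup.mk' N u) ∣ Nat.card U :=
      (orderOf_map_dvd _ u).trans (Subgroup.orderOf_dvd_natCard U hu)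
    have h3 : Nat.Coprime (q ^ (Nat.card G).factorization q) (Nat.card U) :=
      Nat.Coprime.pow_left _ ((Nat.Prime.coprime_iff_not_dvd hq).mpr hcU)
    have h4 : orderOf (QuotientGroup.mk' N u) = 1 := Nat.eq_one_of_dvd_coprimes h3 h1 h2
    exact (QuotientGroup.eq_one_iff u).mp (orderOf_eq_one_iff.mp h4)
  have hcU1 : 1 < Nat.card U := by have := two_lt_card hZ hK.ne; omega
  obtain ⟨g, hga, hgb⟩ := exists_map_pair hZ hK.ne hK.ne.symm
  haveI : Nontrivial U := Finite.one_lt_card_iff_nontrivial.mp hcU1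
  obtain ⟨⟨u₀, hu₀⟩, hu₀1⟩ := exists_ne (1 : U)
  have hv : g * u₀ * g⁻¹ ∈ N := hN.conj_mem _ (hUN hu₀) g
  have hva : (g * u₀ * g⁻¹) • a ≠ a := by
    intro e
    rw [mul_smul, mul_smul, inv_smul_eq_iff.mpr hgb.symm] at e
    have : u₀ • b = b := MulAction.injective g (e.trans hgb.symm)
    exact hK.ne (hK.fix_only hu₀ (fun h => hu₀1 (Subtype.ext h)) this).symm
  haveI hNtr : IsPretransitive N Ω := by
    rw [isPretransitive_iff_orbit_eq_univ a]
    refine Set.eq_univ_of_forall fun y => ?_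
    by_cases hy : y = a
    · rw [hy]; exact mem_orbit_self _
    · obtain ⟨u, hu, -⟩ := hK.reg_pair _ y hva hy
      exact ⟨⟨(u : G) * (g * u₀ * g⁻¹), mul_mem (hUN u.2) hv⟩, (mul_smul (u : G) _ a).trans hu⟩
  have h2N : IsMultiplyPretransitive N Ω 2 := by
    rw [is_two_pretransitive_iff]
    intro x y x' y' hxy hxy'
    obtain ⟨g₁, hg₁⟩ := exists_smul_eq N x a
    obtain ⟨g₂, hg₂⟩ := exists_smul_eq N x' a
    have h1 : g₁ • y ≠ a := fun e => hxy (MulAction.injective g₁ (hg₁.trans e.symm))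
    have h2 : g₂ • y' ≠ a := fun e => hxy' (MulAction.injective g₂ (hg₂.trans e.symm))
    obtain ⟨u, hu, -⟩ := hK.reg_pair _ _ h1 h2
    refine ⟨g₂⁻¹ * ⟨u, hUN u.2⟩ * g₁, ?_, ?_⟩
    · rw [mul_smul, mul_smul, hg₁, inv_smul_eq_iff, hg₂]
      exact hK.le u.2
    · rw [mul_smul, mul_smul, inv_smul_eq_iff]
      exact hu
  let V : Subgroup N := U.subgroupOf N
  have hKV : IsKernel V a b :=
    { ne := hK.ne
      le := fun x hx => hK.le (hx : (x : G) ∈ U)
      conj := fun x hx u hu => hK.conj (x : G) hx (u : G) hu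
      reg := fun y hy => by
        obtain ⟨u, hu, huu⟩ := hK.reg y hy
        refine ⟨⟨⟨u, hUN u.2⟩, u.2⟩, hu, fun w hw => ?_⟩
        exact Subtype.ext (Subtype.ext
          (congrArg Subtype.val (huu ⟨((w : N) : G), w.2⟩ hw) : ((w : N) : G) = u)) }
  have hVc : IsMulCommutative V := ⟨⟨fun x y => Subtype.ext (Subtype.ext
    (congrArg (fun z : U => (z : G)) (hUc.is_comm.comm ⟨((x : N) : G), x.2⟩ ⟨((y : N) : G), y.2⟩) :))⟩⟩
  have hcV : Nat.card V = Nat.card U := Nat.card_congr (Subgroup.subgroupOfEquivOfLe hUN).toEquiv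
  set d' := Nat.card ↥(stabilizer N a ⊓ stabilizer N b) with hd'
  have hdd : d = d' * q ^ (Nat.card G).factorization q := by
    have h1 := card_of_regular hK.ne U hK.le hK.reg
    have h2 := card_of_regular (G := N) hK.ne V hKV.le hKV.reg
    rw [hcV, ← hd'] at h2
    rw [← hd, ← Subgroup.card_mul_index N, hidx, h2] at h1
    refine Nat.eq_of_mul_eq_mul_left (show 0 < Nat.card Ω * Nat.card U by
      rw [← hcard]; positivity) ?_
    rw [mul_assoc (Nat.card Ω), ← h1]; ring
  have hv1 : 1 ≤ (Nat.card G).factorization q := by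
    refine hq.factorization_pos_of_dvd Nat.card_pos.ne' (hqd.trans ?_)
    exact Subgroup.card_subgroup_dvd_card _
  have h3d : 3 * d' ≤ d := by
    rw [hdd, mul_comm]
    refine Nat.mul_le_mul_left _ (le_trans ?_ (Nat.le_self_pow (by omega) q))
    have := hq.two_le; omega
  have hd'pos : 0 < d' := Nat.card_pos
  by_cases hd1 : d' = 1
  · have hS : Lib.Perm.SharplyTwo N Ω :=
      { trans := fun x y z w hxy hzw => (is_two_pretransitive_iff.mp h2N) hxy hzw
        sharp := fun x y z hyz hy hz => by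
          obtain ⟨k, hky, hkz⟩ := (is_two_pretransitive_iff.mp h2N) hyz hK.ne
          have hbot := Subgroup.card_eq_one.mp hd1
          have hm : k * x * k⁻¹ ∈ stabilizer N a ⊓ stabilizer N b :=
            ⟨show (k * x * k⁻¹) • a = a by rw [mul_smul, mul_smul, inv_smul_eq_iff.mpr hky.symm, hy, hky],
             show (k * x * k⁻¹) • b = b by rw [mul_smul, mul_smul, inv_smul_eq_iff.mpr hkz.symm, hz, hkz]⟩
          rw [hbot, Subgroup.mem_bot] at hm
          exact conj_eq_one_iff.mp hm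
        nontriv := by omega }
    refine no_regular_in_normal hZ N hN h2N hS.kernel hS.kernel_normal hS.kernel_pretransitive
      (fun x hx c hc => ?_) a
    have h := hS.kernel_stabilizer c
    have hm : (⟨x, hx⟩ : hS.kernel) ∈ stabilizer hS.kernel c := hc
    rw [h, Subgroup.mem_bot] at hm
    exact congrArg Subtype.val hm
  · have hZN : IsZassenhausGroup N Ω := by
      refine ⟨⟨fun h => Subtype.ext (eq_of_smul_eq_smul fun x : Ω => h x)⟩, h2N,
        fun x p₁ p₂ p₃ h12 h23 h13 hp hp' hp'' => Subtype.ext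
          (hZ.2.2.1 (x : G) p₁ p₂ p₃ h12 h23 h13 hp hp' hp''), ?_, fun M hM htr => ?_⟩
      · obtain ⟨x, hx, hx1⟩ := Subgroup.ne_bot_iff_exists_ne_one.mp
          (fun e => hd1 (Subgroup.card_eq_one.mpr e)) |>.imp fun x h => And.intro x.2 h
        exact ⟨x, fun e => hx1 (Subtype.ext e), a, b, hK.ne, hx.1, hx.2⟩
      · by_contra hM'
        push Not at hM'
        refine no_regular_in_normal hZ N hN h2N M hM htr (fun x hx c hc => ?_) a
        have hm : (⟨x, hx⟩ : M) ∈ stabilizer M c := hc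
        rw [hM' c, Subgroup.mem_bot] at hm
        exact congrArg Subtype.val hm
    have hlt : d' < d := by omega
    have hodd' : Odd d' := Nat.Odd.of_mul_left (hdd ▸ hodd)
    obtain ⟨-, hb⟩ := ih d' hlt N V hZN hKV hVc rfl hodd'
    rw [hcV] at hb
    have hdle : d ≤ Nat.card U - 1 := by
      have := Nat.le_of_dvd (by omega) (card_twoPt_dvd hZ hK.ne)
      omega
    omega

/-- The main consequence. -/
theorem abelian_kernel_struct {G : Type u} [Group G] [Finite G] [MulAction G Ω] [Fintype Ω]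
    (hZ : IsZassenhausGroup G Ω) {a b : Ω} {U : Subgroup G} (hK : IsKernel U a b)
    (hUc : IsMulCommutative U) :
    Nat.card U - 1 ≤ 2 * Nat.card ↥(stabilizer G a ⊓ stabilizer G b) ∧
      (Nat.card U - 1 = 2 * Nat.card ↥(stabilizer G a ⊓ stabilizer G b) →
        ∃ s : G, s • a = b ∧ s • b = a ∧ s * s = 1 ∧
          ∀ h ∈ stabilizer G a ⊓ stabilizer G b, s * h * s⁻¹ = h⁻¹) := by
  obtain ⟨s, hsa, hsb⟩ := exists_map_pair hZ hK.ne hK.ne.symm
  have hcard := hK.card_eq
  have hF : Fintype.card Ω = Nat.card Ω := Nat.card_eq_fintype_card.symm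
  rcases Nat.even_or_odd (Nat.card ↥(stabilizer G a ⊓ stabilizer G b)) with he | ho
  · have h1 := S0741.result hZ hK.ne he
    refine ⟨by omega, fun heq => ⟨s, hsa, hsb, swap_involution hZ hK.ne he (by omega) hsa hsb,
      swap_inverts_even hZ hK.ne he (by omega) hsa hsb⟩⟩
  · obtain ⟨hinv, hle⟩ := odd_struct _ G U hZ hK hUc rfl ho
    refine ⟨hle, fun _ => ⟨s, hsa, hsb, ?_, hinv s hsa hsb⟩⟩
    have hmem : s * s ∈ stabilizer G a ⊓ stabilizer G b :=
      ⟨show (s * s) • a = a by rw [mul_smul, hsa, hsb], show (s * s) • b = b by rw [mul_smul, hsb, hsa]⟩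
    have h2 := hinv s hsa hsb _ hmem
    rw [mul_assoc, mul_assoc, mul_inv_cancel, mul_one] at h2
    have h3 : (s * s) ^ 2 = 1 := by rw [pow_two]; nth_rewrite 2 [h2]; exact mul_inv_cancel _
    obtain ⟨e, he⟩ := ho
    have h4 : (s * s) ^ Nat.card ↥(stabilizer G a ⊓ stabilizer G b) = 1 := by
      have := congrArg Subtype.val (pow_card_eq_one' (x := (⟨_, hmem⟩ : ↥(stabilizer G a ⊓ stabilizer G b))))
      simpa using this
    rw [he, pow_succ, pow_mul, h3, one_pow, one_mul] at h4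
    exact h4

theorem prime_pow_kernel {G : Type u} [Group G] [Finite G] [MulAction G Ω] [Fintype Ω]
    (hZ : IsZassenhausGroup G Ω) {a b : Ω} {U : Subgroup G} (hK : IsKernel U a b)
    (hle : Nat.card U - 1 ≤ 2 * Nat.card ↥(stabilizer G a ⊓ stabilizer G b)) :
    IsMulCommutative U ∧ ∃ p f : ℕ, p.Prime ∧ f ≠ 0 ∧ Nat.card U = p ^ f := by
  have hcard := hK.card_eq
  have hF : Fintype.card Ω = Nat.card Ω := Nat.card_eq_fintype_card.symm
  obtain ⟨hc, p, f, hp, -, hpf⟩ :=
    S0738.result hZ hK.ne (by omega) U hK.le hK.normal fun y z hy hz => hK.reg_pair y z hy hz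
  refine ⟨hc, p, f, hp, fun h0 => ?_, by omega⟩
  have := two_lt_card hZ hK.ne
  rw [h0, pow_zero] at hpf
  omega

/-- The recognition of `PSL(2, q)` among Zassenhaus groups with abelian kernel. -/
theorem psl_of_half {G : Type u} [Group G] [Finite G] [MulAction G Ω] [Fintype Ω]
    (hZ : IsZassenhausGroup G Ω) {a b : Ω} {U : Subgroup G} (hK : IsKernel U a b)
    (hUc : IsMulCommutative U)
    (heq : Nat.card U - 1 = 2 * Nat.card ↥(stabilizer G a ⊓ stabilizer G b)) :
    ∃ (p f : ℕ) (K : Type) (_ : Field K) (_ : Fintype K), p.Prime ∧ p ≠ 2 ∧ f ≠ 0 ∧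
      Nat.card U = p ^ f ∧ Fintype.card K = p ^ f ∧ ringChar K ≠ 2 ∧
      Nonempty (G ≃* Matrix.ProjectiveSpecialLinearGroup (Fin 2) K) := by
  obtain ⟨-, p, f, hp, hf, hpf⟩ := prime_pow_kernel hZ hK heq.le
  obtain ⟨s, hsa, hsb, hs2, hinv⟩ := (abelian_kernel_struct hZ hK hUc).2 heq
  haveI := hZ.1
  haveI : IsPretransitive G Ω := by
    haveI := hZ.2.1
    exact isPretransitive_of_is_two_pretransitive
  obtain ⟨K, iF, iT, hKc, hKodd, hiso⟩ := psl_of_inverted hp hf hK.ne
    (fun g hga hgb x hxa hxb hgx => eq_one_of_fix3 hZ hK.ne (Ne.symm hxb) (Ne.symm hxa) hga hgb hgx)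
    U hK.le hK.conj hUc hpf hK.reg (by omega) s hsa hsb hs2 hinv
  refine ⟨p, f, K, iF, iT, hp, fun e => ?_, hf, hpf, hKc, hKodd, hiso⟩
  subst e
  have : 2 ∣ Nat.card U := hpf ▸ dvd_pow_self 2 hf
  have := Nat.card_pos (α := U)
  omega

end

end Cfsg.Agent.Lib.Zass
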