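import Cfsg.Agent.Lib.Zass.Feit
import Cfsg.Agent.Lib.Char.Prod
import Cfsg.Agent.Lib.FPF.FixedPointFree

/-!
The degree conditions in Feit's coherence bound, for a nilpotent kernel that is not a `p`-group
with small abelianisation.
-/

set_option autoImplicit false

namespace Cfsg.Agent.Lib.Zass

open MulAction Cfsg.Agent.Lib.Char

universe u v

open scoped _root_.Classical in
/-- Sum of the squares of the degrees of the irreducible characters of degree below `z`. -/
noncomputable def degBelow (U : Type u) [Group U] [Finite U] (z : ℕ) : ℕ :=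
  ∑ ξ : IrrCharacter U, if charDegree (ξ : U → ℂ) < z then charDegree (ξ : U → ℂ) ^ 2 else 0

section

variable {U : Type u} [Group U] [Finite U]

theorem index_commutator_le_degBelow {z : ℕ} (hz : 1 < z) :
    (commutator U).index ≤ degBelow U z := by
  classical
  rw [← card_charDegree_one, Nat.card_eq_fintype_card, Fintype.card_subtype, Finset.card_filter]
  refine Finset.sum_le_sum fun ξ _ => ?_
  split_ifs with h1 h2 h3
  · simp [h1]
  · exact absurd (h1 ▸ hz) h2
  · positivity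
  · exact le_rfl

theorem sq_le_degBelow {p : ℕ} (hp : p.Prime) (hU : IsPGroup p U) {χ : IrrCharacter U}
    (hχ : 1 < charDegree (χ : U → ℂ)) :
    charDegree (χ : U → ℂ) ^ 2 ≤ degBelow U (charDegree (χ : U → ℂ)) := by
  classical
  haveI := Fact.mk hp
  obtain ⟨n, hn⟩ := hU.exists_card_eq
  have hpow : ∀ ξ : IrrCharacter U, ∃ j, charDegree (ξ : U → ℂ) = p ^ j := fun ξ => by
    obtain ⟨j, -, hj⟩ := (Nat.dvd_prime_pow hp).mp (hn ▸ charDegree_dvd_card ξ.2)
    exact ⟨j, hj⟩
  set z := charDegree (χ : U → ℂ) with hz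
  have hdvd : ∀ ξ : IrrCharacter U, ¬ charDegree (ξ : U → ℂ) < z →
      z ^ 2 ∣ charDegree (ξ : U → ℂ) ^ 2 := by
    intro ξ h
    obtain ⟨i, hi⟩ := hpow ξ
    obtain ⟨j, hj⟩ := hpow χ
    rw [← hz] at hj
    rw [hi, hj] at h ⊢
    exact pow_dvd_pow_of_dvd (pow_dvd_pow p
      ((Nat.pow_le_pow_iff_right hp.one_lt).mp (le_of_not_gt h))) 2
  have hsplit := Finset.sum_filter_add_sum_filter_not (Finset.univ : Finset (IrrCharacter U))
    (fun ξ => charDegree (ξ : U → ℂ) < z) (fun ξ => charDegree (ξ : U → ℂ) ^ 2)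
  rw [sum_charDegree_sq, Finset.sum_filter, hn] at hsplit
  have hle : z ^ 2 ≤ p ^ n := by
    rw [← hn, ← sum_charDegree_sq (G := U), hz]
    exact Finset.single_le_sum (f := fun ξ : IrrCharacter U => charDegree (ξ : U → ℂ) ^ 2)
      (fun _ _ => Nat.zero_le _) (Finset.mem_univ χ)
  have h1 : z ^ 2 ∣ p ^ n := by
    obtain ⟨j, hj⟩ := hpow χ
    rw [← hz] at hj
    rw [hj, ← pow_mul] at hle ⊢
    exact pow_dvd_pow p ((Nat.pow_le_pow_iff_right hp.one_lt).mp hle)
  have h2 : z ^ 2 ∣ ∑ ξ ∈ Finset.univ.filter (fun ξ : IrrCharacter U =>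
      ¬ charDegree (ξ : U → ℂ) < z), charDegree (ξ : U → ℂ) ^ 2 :=
    Finset.dvd_sum fun ξ hξ => hdvd ξ (Finset.mem_filter.mp hξ).2
  have h3 : z ^ 2 ∣ degBelow U z := by
    rw [← hsplit] at h1
    exact (Nat.dvd_add_iff_left h2).mpr h1
  refine Nat.le_of_dvd (lt_of_lt_of_le ?_ (index_commutator_le_degBelow hχ)) h3
  exact Nat.pos_of_ne_zero Subgroup.index_ne_zero_of_finite

/-- The condition for a `p`-group with large abelianisation. -/
theorem cond_of_pgroup {p : ℕ} (hp : p.Prime) (hU : IsPGroup p U) {d : ℕ}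
    (hm : 4 * d ^ 2 + 1 < (commutator U).index) (χ : IrrCharacter U)
    (hχ : 1 < charDegree (χ : U → ℂ)) :
    2 * d * charDegree (χ : U → ℂ) + 2 ≤ degBelow U (charDegree (χ : U → ℂ)) := by
  have h1 := sq_le_degBelow hp hU hχ
  have h2 := index_commutator_le_degBelow (U := U) hχ
  set z := charDegree (χ : U → ℂ) with hz
  rcases le_or_gt z (2 * d) with h | h
  · nlinarith
  · nlinarith

/-- A normal subgroup of order prime to its index is mapped into itself by every endomorphism. -/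
theorem le_comap_of_coprime (N : Subgroup U) [N.Normal] (h : Nat.Coprime (Nat.card N) N.index)
    (f : U →* U) : N ≤ N.comap f := by
  intro x hx
  have h1 : orderOf (QuotientGroup.mk' N (f x)) ∣ Nat.card N :=
    ((orderOf_map_dvd _ _).trans (orderOf_map_dvd f x)).trans (Subgroup.orderOf_dvd_natCard N hx)
  have h2 : orderOf (QuotientGroup.mk' N (f x)) ∣ N.index := by
    rw [Subgroup.index_eq_card]; exact orderOf_dvd_natCard _
  exact (QuotientGroup.eq_one_iff (f x)).mp
    (orderOf_eq_one_iff.mp (Nat.eq_one_of_dvd_coprimes h h1 h2))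

end

namespace IsKernel

variable {G : Type u} {Ω : Type v} [Group G] [Finite G] [MulAction G Ω] {U : Subgroup G} {a b : Ω}

open scoped _root_.Classical in
/-- A nontrivial character of an `H`-invariant quotient has an orbit of length `d`. -/
theorem quot_bound (hK : IsKernel U a b) (hZ : IsZassenhausGroup G Ω)
    (N : Subgroup U) [N.Normal] (hN : ∀ h, N ≤ N.comap (hK.conjU h))
    {d : ℕ} (hd : Nat.card ↥(stabilizer G a ⊓ stabilizer G b) = d)
    (β : IrrCharacter (U ⧸ N)) (hβ : (β : U ⧸ N → ℂ) ≠ fun _ => 1) :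
    d * charDegree (β : U ⧸ N → ℂ) ^ 2 + 1 ≤
      ∑ ξ : IrrCharacter (U ⧸ N),
        if charDegree (ξ : U ⧸ N → ℂ) ≤ charDegree (β : U ⧸ N → ℂ)
          then charDegree (ξ : U ⧸ N → ℂ) ^ 2 else 0 := by
  haveI := Fintype.ofFinite ↥(stabilizer G a ⊓ stabilizer G b)
  let σ : ↥(stabilizer G a ⊓ stabilizer G b) → (U ⧸ N →* U ⧸ N) := fun h =>
    QuotientGroup.map N N (hK.conjU h) (hN h)
  have hσ : ∀ h (u : U), σ h (u : U ⧸ N) = ((hK.conjU h u : U) : U ⧸ N) := fun _ _ => rfl
  have hsurj : ∀ h, Function.Surjective (σ h) := by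
    intro h x
    obtain ⟨u, rfl⟩ := QuotientGroup.mk_surjective x
    obtain ⟨w, rfl⟩ := hK.conjU_surjective h u
    exact ⟨(w : U ⧸ N), hσ h w⟩
  let e : ↥(stabilizer G a ⊓ stabilizer G b) → IrrCharacter (U ⧸ N) := fun h =>
    ⟨(β : U ⧸ N → ℂ) ∘ σ h, isIrrCharacter_comp β.2 _ (hsurj h)⟩
  have hdeg : ∀ h, charDegree (e h : U ⧸ N → ℂ) = charDegree (β : U ⧸ N → ℂ) := fun h =>
    charDegree_eq_of_apply_one (by
      show (β : U ⧸ N → ℂ) (σ h 1) = _
      rw [map_one]; exact apply_one_eq_charDegree (isCharacter_of_isIrr β.2))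
  have hinj : Function.Injective e := by
    intro g h hgh
    by_contra hne
    let χ : IrrCharacter U :=
      ⟨(β : U ⧸ N → ℂ) ∘ QuotientGroup.mk' N,
        isIrrCharacter_comp β.2 _ (QuotientGroup.mk'_surjective N)⟩
    have hfix : (χ : U → ℂ) ∘ hK.conjU (g⁻¹ * h) = (χ : U → ℂ) := by
      funext u
      obtain ⟨w, rfl⟩ := hK.conjU_surjective g u
      show (β : U ⧸ N → ℂ) (hK.conjU (g⁻¹ * h) (hK.conjU g w) : U) =
        (β : U ⧸ N → ℂ) (hK.conjU g w : U)
      rw [hK.conjU_conjU, mul_inv_cancel_left]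
      have h3 := congrFun (congrArg Subtype.val hgh) (w : U ⧸ N)
      exact h3.symm
    have h1 := hK.irr_free hZ (fun hh => hne (inv_mul_eq_one.mp hh)) χ hfix
    refine hβ (funext fun x => ?_)
    obtain ⟨u, rfl⟩ := QuotientGroup.mk_surjective x
    exact congrFun h1 u
  let one1 : IrrCharacter (U ⧸ N) := ⟨fun _ => 1, isIrrCharacter_one⟩
  have hne : one1 ∉ Finset.univ.image e := by
    intro hm
    obtain ⟨h, -, hh⟩ := Finset.mem_image.mp hm
    refine hβ (funext fun x => ?_)
    obtain ⟨w, rfl⟩ := hsurj h x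
    exact congrFun (congrArg Subtype.val hh) w
  refine le_trans ?_ (Finset.sum_le_sum_of_subset (Finset.subset_univ (insert one1 (Finset.univ.image e))))
  rw [Finset.sum_insert hne, Finset.sum_image fun x _ y _ hxy => hinj hxy]
  simp only [hdeg, le_refl, if_true, Finset.sum_const, Finset.card_univ, smul_eq_mul,
    ← Nat.card_eq_fintype_card, hd]
  have h1 : charDegree (one1 : U ⧸ N → ℂ) = 1 := charDegree_one
  rw [h1, if_pos (show 1 ≤ charDegree (β : U ⧸ N → ℂ) from charDegree_pos β.2), one_pow, add_comm]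

/-- A nontrivial nilpotent `H`-invariant quotient has at least `d + 1` linear characters. -/
theorem exists_linear_ne (N : Subgroup U) [N.Normal] [Group.IsNilpotent U] (hN : N ≠ ⊤) :
    ∃ β : IrrCharacter (U ⧸ N),
      charDegree (β : U ⧸ N → ℂ) = 1 ∧ (β : U ⧸ N → ℂ) ≠ fun _ => 1 := by
  classical
  haveI : Nontrivial (U ⧸ N) :=
    Finite.one_lt_card_iff_nontrivial.mp (by
      rw [← Subgroup.index_eq_card]
      exact Subgroup.one_lt_index_of_ne_top hN)
  have h1 : (commutator (U ⧸ N)).index ≠ 1 := fun e =>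
    (IsSolvable.commutator_lt_top_of_nontrivial (U ⧸ N)).ne (Subgroup.index_eq_one.mp e)
  rw [← card_charDegree_one] at h1
  by_contra hcon
  push Not at hcon
  refine h1 (Nat.card_eq_one_iff_exists.mpr ⟨⟨⟨_, isIrrCharacter_one⟩, charDegree_one⟩, fun x => ?_⟩)
  exact Subtype.ext (Subtype.ext (hcon x.1 x.2))

open scoped _root_.Classical in
/-- The conditions for a nilpotent group that is not of prime power order. -/
theorem cond_of_not_pgroup (hK : IsKernel U a b) (hZ : IsZassenhausGroup G Ω)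
    [Group.IsNilpotent U] (hnp : ∀ p : ℕ, p.Prime → ¬ IsPGroup p U)
    {d : ℕ} (hd : Nat.card ↥(stabilizer G a ⊓ stabilizer G b) = d) :
    d * d + d + 1 ≤ (commutator U).index ∧
      ∀ χ : IrrCharacter U, 1 < charDegree (χ : U → ℂ) →
        2 * d * charDegree (χ : U → ℂ) + 2 ≤ degBelow U (charDegree (χ : U → ℂ)) := by
  have hdpos : 0 < d := hd ▸ Nat.card_pos
  have hsplit : ∀ p : ℕ, p.Prime → p ∣ Nat.card U → ∃ (P N : Subgroup U) (_ : P.Normal) (_ : N.Normal),
      P ≠ ⊤ ∧ N ≠ ⊤ ∧ ¬ p ∣ P.index ∧ IsPGroup p (U ⧸ N) ∧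
      (∀ h, P ≤ P.comap (hK.conjU h)) ∧ (∀ h, N ≤ N.comap (hK.conjU h)) ∧
      Function.Bijective ((QuotientGroup.mk' N).prod (QuotientGroup.mk' P)) := by
    intro p hp hpU
    haveI := Fact.mk hp
    obtain ⟨P, N, hN, hc⟩ := Lib.FPF.npc_of_isNilpotent (G := U) p
    have hPn : (P : Subgroup U).Normal :=
      (Group.isNilpotent_of_finite_tfae.out 0 3 rfl rfl).mp ‹Group.IsNilpotent U› p ‹_› P
    obtain ⟨k, hk⟩ := P.2.exists_card_eq
    have hPi : ¬ p ∣ (P : Subgroup U).index := P.not_dvd_index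
    have hNi : N.index = Nat.card (P : Subgroup U) := hc.symm.index_eq_card
    have hcop : Nat.Coprime (Nat.card (P : Subgroup U)) (P : Subgroup U).index := by
      rw [hk]; exact Nat.Coprime.pow_left _ (hp.coprime_iff_not_dvd.mpr hPi)
    have hcopN : Nat.Coprime (Nat.card N) N.index := by
      rw [hNi, ← hc.index_eq_card]; exact hcop.symm
    refine ⟨P, N, hPn, hN, fun e => hnp p hp ?_, fun e => ?_, hPi, ?_,
      fun h => le_comap_of_coprime _ hcop _, fun h => le_comap_of_coprime _ hcopN _, ?_⟩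
    · exact IsPGroup.of_card (n := k) (by rw [← hk, e, Subgroup.card_top])
    · rw [e, Subgroup.index_top] at hNi
      refine hPi ?_
      rw [Subgroup.card_eq_one.mp hNi.symm, Subgroup.index_bot]
      exact hpU
    · exact IsPGroup.of_card (n := k) (by rw [← Subgroup.index_eq_card, hNi, hk])
    · refine (Nat.bijective_iff_injective_and_card _).mpr ⟨?_, ?_⟩
      · refine (injective_iff_map_eq_one _).mpr fun x hx => ?_
        simp only [MonoidHom.prod_apply, Prod.mk_eq_one, QuotientGroup.mk'_apply,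
          QuotientGroup.eq_one_iff] at hx
        exact Subgroup.mem_bot.mp (hc.disjoint.le_bot hx)
      · rw [Nat.card_prod, ← Subgroup.index_eq_card, ← Subgroup.index_eq_card, hNi,
          Subgroup.card_mul_index]
  have hprod : ∀ (P N : Subgroup U) [P.Normal] [N.Normal],
      Function.Bijective ((QuotientGroup.mk' N).prod (QuotientGroup.mk' P)) →
      ∃ F : IrrCharacter (U ⧸ N) × IrrCharacter (U ⧸ P) ≃ IrrCharacter U,
        ∀ x, charDegree (F x : U → ℂ) =
          charDegree (x.1 : U ⧸ N → ℂ) * charDegree (x.2 : U ⧸ P → ℂ) := by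
    intro P N _ _ hb
    set q := (QuotientGroup.mk' N).prod (QuotientGroup.mk' P) with hq
    let ε := MulEquiv.ofBijective q hb
    let F : IrrCharacter (U ⧸ N) × IrrCharacter (U ⧸ P) → IrrCharacter U := fun x =>
      ⟨(fun y => (x.1 : U ⧸ N → ℂ) y.1 * (x.2 : U ⧸ P → ℂ) y.2) ∘ q,
        isIrrCharacter_comp (isIrrCharacter_prod x.1.2 x.2.2) q hb.2⟩
    have hone : ∀ x, charDegree (F x : U → ℂ) =
          charDegree (x.1 : U ⧸ N → ℂ) * charDegree (x.2 : U ⧸ P → ℂ) := fun x =>
      charDegree_eq_of_apply_one (by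
        show (x.1 : U ⧸ N → ℂ) (q 1).1 * (x.2 : U ⧸ P → ℂ) (q 1).2 = _
        rw [map_one, Nat.cast_mul]
        exact congrArg₂ (· * ·) (apply_one_eq_charDegree (isCharacter_of_isIrr x.1.2))
          (apply_one_eq_charDegree (isCharacter_of_isIrr x.2.2)))
    have hFs : Function.Surjective F := by
      intro χ
      obtain ⟨α, β, hα, hβ, he⟩ := exists_prod_eq
        (isIrrCharacter_comp χ.2 ε.symm.toMonoidHom ε.symm.surjective)
      refine ⟨(⟨α, hα⟩, ⟨β, hβ⟩), Subtype.ext (funext fun u => ?_)⟩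
      show α (q u).1 * β (q u).2 = _
      rw [← congrFun he (q u)]
      exact congrArg (χ : U → ℂ) (ε.symm_apply_apply u)
    have hFi : Function.Injective F := by
      intro x y hxy
      have h1 := congrArg (fun (X : IrrCharacter U) => (X : U → ℂ) ∘ ε.symm) hxy
      have h2 : ∀ z : (U ⧸ N) × (U ⧸ P), (x.1 : U ⧸ N → ℂ) z.1 * (x.2 : U ⧸ P → ℂ) z.2 =
          (y.1 : U ⧸ N → ℂ) z.1 * (y.2 : U ⧸ P → ℂ) z.2 := fun z => by
        have h3 := congrFun h1 z
        simp only [F, Function.comp_apply] at h3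
        rwa [show q (ε.symm z) = z from ε.apply_symm_apply z] at h3
      haveI := Fintype.ofFinite (U ⧸ N)
      haveI := Fintype.ofFinite (U ⧸ P)
      by_contra hne
      have h4 := classInner_prod (x.1 : U ⧸ N → ℂ) (y.1 : U ⧸ N → ℂ) (x.2 : U ⧸ P → ℂ)
        (y.2 : U ⧸ P → ℂ)
      rw [funext h2, classInner_prod, classInner_irr_self y.1.2, classInner_irr_self y.2.2] at h4
      simp only [classInner_irrCharacter] at h4
      split_ifs at h4 with h5 h6
      · exact hne (Prod.ext h5 h6)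
      all_goals norm_num at h4
    exact ⟨Equiv.ofBijective F ⟨hFi, hFs⟩, hone⟩
  refine ⟨?_, fun χ hχ => ?_⟩
  · have hU1 : Nat.card U ≠ 1 := fun e =>
      hnp 2 Nat.prime_two (IsPGroup.of_card (n := 0) (by rw [e, pow_zero]))
    obtain ⟨p, hp, hpU⟩ := Nat.exists_prime_and_dvd hU1
    obtain ⟨P, N, _, _, hP, hN, -, -, hPh, hNh, hb⟩ := hsplit p hp hpU
    obtain ⟨F, hF⟩ := hprod P N hb
    have hcount : ∀ (M : Subgroup U) [M.Normal], M ≠ ⊤ → (∀ h, M ≤ M.comap (hK.conjU h)) →
        d + 1 ≤ (commutator (U ⧸ M)).index := by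
      intro M _ hM hMh
      obtain ⟨β, hβ1, hβ⟩ := exists_linear_ne M hM
      have h1 := hK.quot_bound hZ M hMh hd β hβ
      rw [hβ1, one_pow, mul_one] at h1
      refine h1.trans (le_of_eq ?_)
      rw [← card_charDegree_one, Nat.card_eq_fintype_card, Fintype.card_subtype, Finset.card_filter]
      refine Finset.sum_congr rfl fun ξ _ => ?_
      have := charDegree_pos ξ.2
      split_ifs with h2 h3 h4
      · rw [h3, one_pow]
      · omega
      · omega
      · rfl
    have hmul : (commutator (U ⧸ N)).index * (commutator (U ⧸ P)).index ≤ (commutator U).index := by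
      rw [← card_charDegree_one, ← card_charDegree_one, ← card_charDegree_one, ← Nat.card_prod]
      refine Nat.card_le_card_of_injective
        (fun x => ⟨F (x.1.1, x.2.1), by rw [hF, x.1.2, x.2.2, one_mul]⟩) fun x y h => ?_
      have h' := F.injective (congrArg Subtype.val h)
      exact Prod.ext (Subtype.ext (congrArg Prod.fst h')) (Subtype.ext (congrArg Prod.snd h'))
    have := Nat.mul_le_mul (hcount N hN hNh) (hcount P hP hPh)
    nlinarith
  · obtain ⟨p, hp, hpz⟩ := Nat.exists_prime_and_dvd hχ.ne'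
    obtain ⟨P, N, _, _, hP, hN, hPi, hNp, hPh, hNh, hb⟩ :=
      hsplit p hp (hpz.trans (charDegree_dvd_card χ.2))
    obtain ⟨F, hF⟩ := hprod P N hb
    obtain ⟨⟨α, β⟩, rfl⟩ := F.surjective χ
    rw [hF] at hpz hχ ⊢
    simp only at hpz hχ ⊢
    have hβp : ¬ p ∣ charDegree (β : U ⧸ P → ℂ) := fun h => hPi (by
      rw [Subgroup.index_eq_card]; exact h.trans (charDegree_dvd_card β.2))
    have hα : 1 < charDegree (α : U ⧸ N → ℂ) :=
      hp.one_lt.trans_le (Nat.le_of_dvd (charDegree_pos α.2)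
        ((hp.dvd_mul.mp hpz).resolve_right hβp))
    have hA := sq_le_degBelow hp hNp hα
    have hB : d * charDegree (β : U ⧸ P → ℂ) ^ 2 + 1 ≤
        ∑ ξ : IrrCharacter (U ⧸ P),
          if charDegree (ξ : U ⧸ P → ℂ) ≤ charDegree (β : U ⧸ P → ℂ)
            then charDegree (ξ : U ⧸ P → ℂ) ^ 2 else 0 := by
      by_cases h1 : (β : U ⧸ P → ℂ) = fun _ => 1
      · obtain ⟨γ, hγ1, hγ⟩ := exists_linear_ne P hP
        have h2 := hK.quot_bound hZ P hPh hd γ hγ
        have h3 : charDegree (β : U ⧸ P → ℂ) = 1 := by rw [h1]; exact charDegree_one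
        rw [h3]
        rw [hγ1] at h2
        exact h2
      · exact hK.quot_bound hZ P hPh hd β h1
    set za := charDegree (α : U ⧸ N → ℂ) with hza
    set zb := charDegree (β : U ⧸ P → ℂ) with hzb
    set B := ∑ ξ : IrrCharacter (U ⧸ P), if charDegree (ξ : U ⧸ P → ℂ) ≤ zb
            then charDegree (ξ : U ⧸ P → ℂ) ^ 2 else 0 with hBdef
    have hle : degBelow (U ⧸ N) za * B ≤ degBelow U (za * zb) := by
      unfold degBelow
      rw [← F.sum_comp, Fintype.sum_prod_type, hBdef, Finset.sum_mul_sum]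
      refine Finset.sum_le_sum fun i _ => Finset.sum_le_sum fun j _ => ?_
      rw [hF]
      simp only
      by_cases h1 : charDegree (i : U ⧸ N → ℂ) < za ∧ charDegree (j : U ⧸ P → ℂ) ≤ zb
      · rw [if_pos h1.1, if_pos h1.2, if_pos, mul_pow]
        exact Nat.mul_lt_mul_of_lt_of_le h1.1 h1.2 (charDegree_pos β.2)
      · rcases not_and_or.mp h1 with h2 | h2 <;> simp [h2]
    have hzb0 : 0 < zb := charDegree_pos β.2
    have h5 := Nat.mul_le_mul hA hB
    have h6 : 2 * d * (za * zb) + 2 ≤ za ^ 2 * (d * zb ^ 2 + 1) := by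
      have : 2 ≤ za * zb := le_trans hα (Nat.le_mul_of_pos_right _ hzb0)
      nlinarith [Nat.mul_le_mul_left d (Nat.mul_le_mul_right (za * zb) this), Nat.mul_le_mul hα hα]
    exact h6.trans (h5.trans hle)

/-- Feit's alternative: small kernel, or a `p`-group with small abelianisation. -/
theorem feit_alternative [Fintype Ω] (hK : IsKernel U a b) (hZ : IsZassenhausGroup G Ω)
    [Group.IsNilpotent U]
    (hHc : IsMulCommutative ↥(stabilizer G a ⊓ stabilizer G b)) (s : G) (hsa : s • a = b)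
    (hinv : ∀ h ∈ stabilizer G a ⊓ stabilizer G b, s * h * s⁻¹ = h⁻¹)
    {d : ℕ} (hd : Nat.card ↥(stabilizer G a ⊓ stabilizer G b) = d) (hodd : Odd d) :
    Nat.card U - 1 ≤ 2 * d ∨
      ∃ p : ℕ, p.Prime ∧ IsPGroup p U ∧ (commutator U).index ≤ 4 * d ^ 2 + 1 := by
  classical
  by_cases h : ∃ p : ℕ, p.Prime ∧ IsPGroup p U
  · obtain ⟨p, hp, hpU⟩ := h
    refine (le_or_gt (commutator U).index (4 * d ^ 2 + 1)).symm.imp (fun hm => ?_)
      fun hm => ⟨p, hp, hpU, hm⟩
    refine feit_bound hZ hK hHc s hsa hinv hd hodd ?_ (fun χ hχ => cond_of_pgroup hp hpU hm χ hχ)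
    have := hd ▸ (Nat.card_pos (α := ↥(stabilizer G a ⊓ stabilizer G b)))
    nlinarith
  · push Not at h
    obtain ⟨h1, h2⟩ := hK.cond_of_not_pgroup hZ h hd
    exact Or.inl (feit_bound hZ hK hHc s hsa hinv hd hodd h1 h2)

end IsKernel

open Cfsg.Agent.Lib.ZassFrob in
/-- A subgroup of `G_a` of order `|Ω| - 1` fixing only `a` is a nilpotent kernel. -/
theorem isKernel_of_fix {G : Type u} {Ω : Type v} [Group G] [Finite G] [MulAction G Ω] [Finite Ω]
    (hZ : IsZassenhausGroup G Ω) {a b : Ω} (hab : a ≠ b) {U : Subgroup G}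
    (hle : U ≤ stabilizer G a) (hfix : ∀ x ∈ U, x ≠ 1 → ∀ c : Ω, x • c = c → c = a)
    (hcard : Nat.card U + 1 = Nat.card Ω) : IsKernel U a b ∧ Group.IsNilpotent U := by
  classical
  haveI := Fintype.ofFinite Ω
  haveI := Fintype.ofFinite U
  obtain ⟨K, hKle, hKn, hnil, hKb, hKs, hKc, -⟩ := exists_kernel hZ hab
  obtain rfl := kernel_unique hZ hab hle hfix hcard hKle hKn hKb hKs hKc
  refine ⟨⟨hab, hle, hKn, fun y hy => ?_⟩, hnil⟩
  have hbij : Function.Bijective (fun u : U => (⟨(u : G) • b, fun e => hab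
      (MulAction.injective (u : G) ((hle u.2 : _).trans e.symm))⟩ : {y : Ω // y ≠ a})) := by
    refine (Fintype.bijective_iff_injective_and_card _).mpr ⟨fun u u' e => ?_, ?_⟩
    · have e' : (u : G) • b = (u' : G) • b := congrArg Subtype.val e
      by_contra hne
      refine hab (hfix _ (mul_mem (inv_mem u'.2) u.2)
        (fun h => hne (Subtype.ext (inv_mul_eq_one.mp h).symm)) b ?_).symm
      rw [mul_smul, e', inv_smul_smul]
    · rw [Fintype.card_subtype_compl, Fintype.card_subtype_eq, ← Nat.card_eq_fintype_card,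
        ← Nat.card_eq_fintype_card]
      omega
  obtain ⟨u, hu⟩ := hbij.2 ⟨y, hy⟩
  exact ⟨u, congrArg Subtype.val hu, fun v hv => hbij.1 (Subtype.ext
    (hv.trans (congrArg Subtype.val hu).symm))⟩

end Cfsg.Agent.Lib.Zass
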