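import Cfsg.Agent.Lib.Zass.Sharp
import Mathlib.GroupTheory.Perm.Cycle.Type

/-!
Sharply three times transitive groups of odd degree are `PGL(2, 2 ^ f)`.
-/

set_option autoImplicit false

namespace Cfsg.Agent.Lib.Zass

open MulAction

theorem pgl_of_sharp3_odd {G Ω : Type*} [Group G] [Finite G] [MulAction G Ω] [FaithfulSMul G Ω]
    [Fintype Ω] (h : Sharp3 G Ω) (hodd : Odd (Fintype.card Ω)) :
    ∃ f : ℕ, f ≠ 0 ∧ Fintype.card Ω = 2 ^ f + 1 ∧
      ∃ (K : Type) (_ : Field K) (_ : Fintype K), Fintype.card K = 2 ^ f ∧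
        Nonempty (G ≃* Matrix.ProjGenLinGroup (Fin 2) K) := by
  classical
  haveI := h.pretransitive
  have hn : Nat.card Ω = Fintype.card Ω := Nat.card_eq_fintype_card
  have h3 := h.three
  obtain ⟨a, b, hab⟩ := Fintype.exists_pair_of_one_lt_card (α := Ω) (by omega)
  obtain ⟨U, p, f, hK, hUc, hp, hf, hpf⟩ := h.exists_isKernel hab
  have hcard := hK.card_eq
  have hp2 : p = 2 := by
    by_contra hne
    have ho : Odd (p ^ f) := (hp.odd_of_ne_two hne).pow
    obtain ⟨i, hi⟩ := ho; obtain ⟨j, hj⟩ := hodd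
    omega
  subst hp2
  refine ⟨f, hf, by omega, ?_⟩
  set H := stabilizer G a ⊓ stabilizer G b with hH
  have hd : Nat.card H = 2 ^ f - 1 := by rw [hH, h.card_twoPt hab]; omega
  have hdodd : Odd (Nat.card H) := by
    rw [hd]
    refine Nat.Even.sub_odd Nat.one_le_two_pow ?_ odd_one
    exact (Nat.even_pow.mpr ⟨even_two, hf⟩)
  obtain ⟨t, hta, htb⟩ := h.exists_pair hab hab.symm
  have htt : t * t ∈ H := ⟨show (t * t) • a = a by rw [mul_smul, hta, htb],
    show (t * t) • b = b by rw [mul_smul, htb, hta]⟩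
  set s := t ^ Nat.card H with hs
  obtain ⟨k, hk⟩ := hdodd
  have hpow : ∀ i : ℕ, (t * t) ^ i • a = a ∧ (t * t) ^ i • b = b := fun i => (pow_mem htt i : _)
  have hsa : s • a = b := by
    rw [hs, hk, pow_succ', pow_mul, pow_two, mul_smul, (hpow k).1, hta]
  have hsb : s • b = a := by
    rw [hs, hk, pow_succ', pow_mul, pow_two, mul_smul, (hpow k).2, htb]
  have hss : s * s = 1 := by
    rw [hs, ← pow_add, ← two_mul, pow_mul, pow_two]
    have := congrArg Subtype.val (pow_card_eq_one' (x := (⟨t * t, htt⟩ : H)))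
    simpa only [Subgroup.coe_pow, Subgroup.coe_one] using this
  have hs1 : s ≠ 1 := fun e => hab (by rw [← hsa, e, one_smul])
  have hsinv : s⁻¹ = s := inv_eq_of_mul_eq_one_right hss
  -- no two points are fixed by the involution
  have htwo : ∀ c c' : Ω, c ≠ c' → s • c = c → s • c' = c' → False := by
    intro c c' hcc hc hc'
    obtain ⟨g, h1, h2⟩ := h.exists_pair hcc hab
    have hm : g * s * g⁻¹ ∈ H :=
      ⟨show (g * s * g⁻¹) • a = a by rw [mul_smul, mul_smul, inv_smul_eq_iff.mpr h1.symm, hc, h1],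
       show (g * s * g⁻¹) • b = b by rw [mul_smul, mul_smul, inv_smul_eq_iff.mpr h2.symm, hc', h2]⟩
    have hd2 := Subgroup.orderOf_dvd_natCard H hm
    haveI : Fact (Nat.Prime 2) := ⟨Nat.prime_two⟩
    rw [orderOf_eq_prime (p := 2) (by rw [conj_pow, pow_two, hss, mul_one, mul_inv_cancel])
      (fun e => hs1 (conj_eq_one_iff.mp e))] at hd2
    omega
  haveI : Fact (Nat.Prime 2) := ⟨Nat.prime_two⟩
  obtain ⟨c, hc⟩ := Equiv.Perm.exists_fixed_point_of_prime (p := 2) (n := 1) hodd.not_two_dvd_nat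
    (σ := MulAction.toPerm s) (by
      rw [pow_one, pow_two]
      exact Equiv.ext fun x => by simp [smul_smul, hss])
  have hc' : s • c = c := hc
  have hca : c ≠ a := fun e => hab (by rw [← e, ← hc', e, hsa])
  have hcb : c ≠ b := fun e => hab (by rw [← e, ← hc', e, hsb])
  have hconjH : ∀ x ∈ H, s * x * s ∈ H := fun x hx =>
    ⟨show (s * x * s) • a = a by rw [mul_smul, mul_smul, hsa, show x • b = b from hx.2, hsb],
     show (s * x * s) • b = b by rw [mul_smul, mul_smul, hsb, show x • a = a from hx.1, hsa]⟩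
  let φ : H → H := fun x => ⟨(x : G)⁻¹ * (s * x * s), mul_mem (inv_mem x.2) (hconjH x x.2)⟩
  have hφ : Function.Injective φ := by
    intro x y e
    have e' : (x : G)⁻¹ * (s * x * s) = (y : G)⁻¹ * (s * y * s) := congrArg Subtype.val e
    have hcomm : s * ((y : G) * (x : G)⁻¹) = (y : G) * (x : G)⁻¹ * s := by
      calc s * ((y : G) * (x : G)⁻¹) = y * ((y : G)⁻¹ * (s * y * s)) * (s * (x : G)⁻¹) := by
            rw [mul_inv_cancel_left, mul_assoc (s * y) s, ← mul_assoc s s, hss, one_mul]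
            simp [mul_assoc]
        _ = _ := by
            rw [← e']; simp only [mul_assoc]
            rw [← mul_assoc s s, hss, one_mul, mul_inv_cancel, mul_one]
    have hfix : s • (((y : G) * (x : G)⁻¹) • c) = ((y : G) * (x : G)⁻¹) • c := by
      rw [smul_smul, hcomm, mul_smul, hc']
    by_cases hmove : ((y : G) * (x : G)⁻¹) • c = c
    · exact Subtype.ext (mul_inv_eq_one.mp (h.free hab (mul_mem y.2 (inv_mem x.2)) hca hcb hmove)).symm
    · exact (htwo _ _ hmove hfix hc').elim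
  have hinv : ∀ x ∈ H, s * x * s⁻¹ = x⁻¹ := by
    intro x hx
    obtain ⟨y, hy⟩ := (Finite.injective_iff_surjective.mp hφ) ⟨x, hx⟩
    have hy' : (y : G)⁻¹ * (s * y * s) = x := congrArg Subtype.val hy
    rw [← hy', hsinv]
    simp only [mul_inv_rev, inv_inv, hsinv, mul_assoc, hss, mul_one]
  exact pgl_of_inverted Nat.prime_two hf U hK hUc hpf
    (fun g hg x hxa hxb hx => h.free hab hg hxa hxb hx) hd s hsa hsb hinv

end Cfsg.Agent.Lib.Zass
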