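import Cfsg.Agent.Lib.Zass.SharpStab
import Mathlib.GroupTheory.Transfer

/-!
Sharply three times transitive groups of even degree have a subgroup of index two; simple
Zassenhaus groups with two-point stabilisers of even order `d` have degree `2 d + 2`.
-/

set_option autoImplicit false

namespace Cfsg.Agent.Lib.Zass

open MulAction Cfsg.Agent.Lib.ZassFrob

/-- The sign of a subgroup of index two. -/
theorem exists_sign {D : Type*} [Group D] (M : Subgroup D) (hM : M.index = 2) :
    ∃ ε : D →* ℤˣ, ∀ g, ε g = 1 ↔ g ∈ M := by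
  classical
  refine ⟨{ toFun := fun g => if g ∈ M then 1 else -1
            map_one' := if_pos (one_mem M)
            map_mul' := fun x y => ?_ }, fun g => ?_⟩
  · by_cases hx : x ∈ M <;> by_cases hy : y ∈ M <;> simp [Subgroup.mul_mem_iff_of_index_two hM, hx, hy]
  · show (if g ∈ M then (1 : ℤˣ) else -1) = 1 ↔ g ∈ M
    by_cases hg : g ∈ M
    · simp [hg]
    · simp only [hg, if_false, iff_false]
      exact fun e => absurd e (by decide)

/-- A sharply three times transitive group of even degree has a nontrivial map to `±1`. -/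
theorem sharp3_exists_sign {G Ω : Type*} [Group G] [Finite G] [MulAction G Ω] [FaithfulSMul G Ω]
    [Finite Ω] (h : Sharp3 G Ω) (heven : Even (Nat.card Ω)) : ∃ f : G →* ℤˣ, f ≠ 1 := by
  classical
  haveI := Fintype.ofFinite Ω
  obtain ⟨a, b, hab⟩ := Fintype.exists_pair_of_one_lt_card (α := Ω) (by
    have := h.three; rw [Nat.card_eq_fintype_card] at this; omega)
  obtain ⟨U, p, j, S⟩ := exists_sharpStab h heven hab
  obtain ⟨c, hca, hcb⟩ := h.exists_third a b
  obtain ⟨s, hsa, hsb, hsc⟩ := h.trans a b c b a c hab hcb.symm hca.symm hab.symm hca.symm hcb.symm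
  have hs2 := S.swap_sq hca hcb s hsa hsb hsc
  obtain ⟨N, hNle, hNn, hN2, hNs⟩ := S.exists_invariant hca hcb s hsa hsb hsc
  set H := stabilizer G a ⊓ stabilizer G b with hH
  have hNmul : ∀ x ∈ H, ∀ y ∈ H, (x * y ∈ N ↔ (x ∈ N ↔ y ∈ N)) := fun x hx y hy =>
    Subgroup.mul_mem_iff_of_index_two (a := (⟨x, hx⟩ : H)) (b := ⟨y, hy⟩) hN2
  let D : Subgroup G :=
    { carrier := {g | (g • a = a ∧ g • b = b) ∨ (g • a = b ∧ g • b = a)}
      one_mem' := Or.inl ⟨one_smul G a, one_smul G b⟩
      mul_mem' := fun {x y} hx hy => by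
        rcases hx with ⟨x1, x2⟩ | ⟨x1, x2⟩ <;> rcases hy with ⟨y1, y2⟩ | ⟨y1, y2⟩ <;>
          simp [mul_smul, x1, x2, y1, y2]
      inv_mem' := fun {x} hx => by
        rcases hx with ⟨x1, x2⟩ | ⟨x1, x2⟩
        · exact Or.inl ⟨inv_smul_eq_iff.mpr x1.symm, inv_smul_eq_iff.mpr x2.symm⟩
        · exact Or.inr ⟨inv_smul_eq_iff.mpr x2.symm, inv_smul_eq_iff.mpr x1.symm⟩ }
  have hDs : s ∈ D := Or.inr ⟨hsa, hsb⟩
  have hHs : ∀ g ∈ H, g * s ∉ H := fun g hg e => hab (by
    have h1 : (g * s) • a = a := e.1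
    rw [mul_smul, hsa, show g • b = b from hg.2] at h1
    exact h1.symm)
  have hcases : ∀ g ∈ D, g ∈ H ∨ g * s ∈ H := by
    rintro g (⟨g1, g2⟩ | ⟨g1, g2⟩)
    · exact Or.inl ⟨g1, g2⟩
    · exact Or.inr ⟨show (g * s) • a = a by rw [mul_smul, hsa, g2],
        show (g * s) • b = b by rw [mul_smul, hsb, g1]⟩
  have hsconj : ∀ x ∈ H, s * x * s ∈ H ∧ (s * x * s ∈ N ↔ x ∈ N) := by
    intro x hx
    have hsi : s⁻¹ = s := inv_eq_of_mul_eq_one_right hs2
    refine ⟨by have := S.swap_mem s hsa hsb hx; rwa [hsi] at this, fun h1 => ?_, fun h1 => ?_⟩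
    · have := hNs _ h1
      rw [hsi] at this
      simpa [mul_assoc, hs2, ← mul_assoc s s] using this
    · simpa [hsi] using hNs x h1
  obtain ⟨x₀, hx₀, hx₀N⟩ : ∃ x ∈ H, x ∉ N := by
    by_contra hc
    push Not at hc
    rw [Subgroup.relIndex_eq_one.mpr hc] at hN2
    exact absurd hN2 (by norm_num)
  let M : Subgroup D :=
    { carrier := {g | (g : G) ∈ N ∨ (g : G) * s ∈ N}
      one_mem' := Or.inl (one_mem N)
      mul_mem' := fun {x y} hx hy => by
        have hsi : s⁻¹ = s := inv_eq_of_mul_eq_one_right hs2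
        rcases hx with hx | hx <;> rcases hy with hy | hy
        · exact Or.inl (mul_mem hx hy)
        · exact Or.inr (by rw [Subgroup.coe_mul, mul_assoc]; exact mul_mem hx hy)
        · refine Or.inr ?_
          have h1 := mul_mem hx (hNs _ hy)
          rw [hsi] at h1
          rw [Subgroup.coe_mul]
          simpa [mul_assoc, ← mul_assoc s s, hs2] using h1
        · refine Or.inl ?_
          have h1 := mul_mem hx (hNs _ hy)
          rw [hsi] at h1
          rw [Subgroup.coe_mul]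
          simpa [mul_assoc, ← mul_assoc s s, hs2] using h1
      inv_mem' := fun {x} hx => by
        have hsi : s⁻¹ = s := inv_eq_of_mul_eq_one_right hs2
        rcases hx with hx | hx
        · exact Or.inl (by simpa using inv_mem hx)
        · refine Or.inr ?_
          have h1 := hNs _ (inv_mem hx)
          rw [hsi] at h1
          simpa [mul_assoc, ← mul_assoc s s, hs2, hsi] using h1 }
  have hMN : ∀ g : D, (g : G) ∈ H → (g ∈ M ↔ (g : G) ∈ N) := fun g hg =>
    ⟨fun hm => hm.resolve_right fun e => hHs _ hg (hNle e), Or.inl⟩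
  have hMN' : ∀ g : D, (g : G) * s ∈ H → (g ∈ M ↔ (g : G) * s ∈ N) := fun g hg =>
    ⟨fun hm => hm.resolve_left fun e => hHs _ (hNle e) hg, Or.inr⟩
  have hM2 : M.index = 2 := by
    rw [Subgroup.index_eq_two_iff]
    refine ⟨⟨x₀, Or.inl ⟨hx₀.1, hx₀.2⟩⟩, fun g => ?_⟩
    rcases hcases g g.2 with hg | hg
    · rw [hMN _ hg, hMN (g * _) (mul_mem hg hx₀), Subgroup.coe_mul, hNmul _ hg _ hx₀]
      by_cases hgN : (g : G) ∈ N <;> simp [hgN, hx₀N, Xor]
    · have h1 : (g : G) * x₀ * s = ((g : G) * s) * (s * x₀ * s) := by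
        simp only [mul_assoc]; rw [← mul_assoc s s, hs2, one_mul]
      have h2 : (g : G) * x₀ * s ∈ H := h1 ▸ mul_mem hg (hsconj _ hx₀).1
      rw [hMN' _ hg, hMN' (g * _) h2, Subgroup.coe_mul, h1, hNmul _ hg _ (hsconj _ hx₀).1,
        (hsconj _ hx₀).2]
      by_cases hgN : (g : G) * s ∈ N <;> simp [hgN, hx₀N, Xor]
  obtain ⟨ε, hε⟩ := exists_sign M hM2
  -- an involution swapping `a` and `b` and fixing a third point is in `M`
  have hswap : ∀ g : D, ∀ x, x ≠ a → x ≠ b → (g : G) • a = b → (g : G) • b = a →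
      (g : G) • x = x → g ∈ M := by
    intro g x hxa hxb ga gb gx
    obtain ⟨k, hka, hkb, hkx⟩ := h.trans a b c a b x hab hcb.symm hca.symm hab hxb.symm hxa.symm
    have hk : k ∈ D := Or.inl ⟨hka, hkb⟩
    have hgs : g = ⟨k, hk⟩ * ⟨s, hDs⟩ * ⟨k, hk⟩⁻¹ := Subtype.ext (by
      show (g : G) = k * s * k⁻¹
      refine (inv_mul_eq_one.mp (h.sharp ((k * s * k⁻¹)⁻¹ * g) a b x hab hxb.symm hxa.symm ?_ ?_ ?_)).symm
      · rw [mul_smul, inv_smul_eq_iff, ga, mul_smul, mul_smul, inv_smul_eq_iff.mpr hka.symm, hsa, hkb]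
      · rw [mul_smul, inv_smul_eq_iff, gb, mul_smul, mul_smul, inv_smul_eq_iff.mpr hkb.symm, hsb, hka]
      · rw [mul_smul, inv_smul_eq_iff, gx, mul_smul, mul_smul, inv_smul_eq_iff.mpr hkx.symm, hsc, hkx])
    have hs1 : ε ⟨s, hDs⟩ = 1 :=
      (hε _).mpr (Or.inr (show s * s ∈ N by rw [hs2]; exact one_mem N))
    rw [← hε, hgs, map_mul, map_mul, map_inv, hs1, mul_one, mul_inv_cancel]
  -- a 2-element of `H` outside `N`
  obtain ⟨m, k, hm, hk⟩ : ∃ m k : ℕ, Odd m ∧ orderOf x₀ = 2 ^ k * m := by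
    obtain ⟨k, m, hm, e⟩ := Nat.exists_eq_two_pow_mul_odd (orderOf_pos x₀).ne'
    exact ⟨m, k, hm, e⟩
  set y := x₀ ^ m with hy
  have hyH : y ∈ H := pow_mem hx₀ m
  have hyN : y ∉ N := by
    have hpow : ∀ i, (x₀ ^ (2 * i + 1) ∈ N) ↔ x₀ ∈ N := by
      intro i
      rw [pow_succ, hNmul _ (pow_mem hx₀ _) _ hx₀, two_mul, pow_add,
        hNmul _ (pow_mem hx₀ _) _ (pow_mem hx₀ _)]
      simp
    obtain ⟨i, rfl⟩ := hm
    exact fun e => hx₀N ((hpow i).mp e)
  refine ⟨MonoidHom.transfer ε, fun e => ?_⟩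
  haveI : Fintype (G ⧸ D) := Fintype.ofFinite _
  haveI := Fintype.ofFinite (Quotient (orbitRel (Subgroup.zpowers y) (G ⧸ D)))
  have hval := MonoidHom.transfer_eq_prod_quotient_orbitRel_zpowers_quot ε y
  rw [e, MonoidHom.one_apply] at hval
  have hyD : y ∈ D := Or.inl ⟨hyH.1, hyH.2⟩
  have hεy : ε ⟨y, hyD⟩ = -1 := by
    rcases Int.units_eq_one_or (ε ⟨y, hyD⟩) with e1 | e1
    · exact absurd ((hMN _ hyH).mp ((hε _).mp e1)) hyN
    · exact e1
  set q₀ : Quotient (orbitRel (Subgroup.zpowers y) (G ⧸ D)) := Quotient.mk'' ((1 : G) : G ⧸ D) with hq₀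
  have hfixbase : ∀ g : G, g ∈ Subgroup.zpowers y → g • ((1 : G) : G ⧸ D) = ((1 : G) : G ⧸ D) := by
    intro g hg
    show ((g * 1 : G) : G ⧸ D) = _
    rw [mul_one, QuotientGroup.eq, mul_one]
    exact inv_mem (Subgroup.zpowers_le.mpr hyD hg)
  have hout₀ : q₀.out = ((1 : G) : G ⧸ D) := by
    have h1 : orbitRel (Subgroup.zpowers y) (G ⧸ D) q₀.out ((1 : G) : G ⧸ D) := Quotient.mk_out' _
    obtain ⟨⟨g, hg⟩, hg'⟩ := orbitRel_apply.mp h1
    rw [← hg']
    exact hfixbase g hg
  rw [Finset.prod_eq_single q₀] at hval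
  · have hg0 : q₀.out.out ∈ D := by
      have := QuotientGroup.out_eq' q₀.out
      rw [hout₀, QuotientGroup.eq, mul_one] at this
      rw [hout₀]
      exact inv_mem_iff.mp this
    have hmin : Function.minimalPeriod (y • ·) q₀.out = 1 := by
      rw [Function.minimalPeriod_eq_one_iff_isFixedPt, hout₀]
      exact hfixbase y (Subgroup.mem_zpowers y)
    rw [show (⟨q₀.out.out⁻¹ * y ^ Function.minimalPeriod (y • ·) q₀.out * q₀.out.out,
        QuotientGroup.out_conj_pow_minimalPeriod_mem D y q₀.out⟩ : D)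
          = (⟨_, hg0⟩ : D)⁻¹ * ⟨y, hyD⟩ * ⟨_, hg0⟩ from Subtype.ext (by simp [hmin])] at hval
    rw [map_mul, map_mul, map_inv, mul_comm, mul_inv_cancel_left, hεy] at hval
    exact absurd hval (by decide)
  · intro q _ hq
    rw [hε]
    set g0 := q.out.out with hg0
    set z := y ^ Function.minimalPeriod (y • ·) q.out with hz
    have hzD : g0⁻¹ * z * g0 ∈ D := QuotientGroup.out_conj_pow_minimalPeriod_mem D y q.out
    by_cases hz1 : z = 1
    · rw [show (⟨g0⁻¹ * z * g0, hzD⟩ : D) = 1 from Subtype.ext (by simp [hz1])]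
      exact one_mem M
    have hzH : z ∈ H := pow_mem hyH _
    have hzfix : ∀ x : Ω, z • x = x → x = a ∨ x = b := fun x hx => by
      by_contra hc
      push Not at hc
      exact hz1 (h.free hab hzH hc.1 hc.2 hx)
    have hcf : ∀ x : Ω, z • x = x → (g0⁻¹ * z * g0) • (g0⁻¹ • x) = g0⁻¹ • x := fun x hx => by
      rw [mul_smul, mul_smul, smul_inv_smul, hx]
    rcases hzD with ⟨z1, z2⟩ | ⟨z1, z2⟩
    · exfalso
      have hfix : ∀ x : Ω, (g0⁻¹ * z * g0) • x = x → g0 • x = a ∨ g0 • x = b := fun x hx => hzfix _ (by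
        rwa [mul_smul, mul_smul, inv_smul_eq_iff] at hx)
      have hgD : g0 ∈ D := by
        rcases hfix a z1 with e1 | e1 <;> rcases hfix b z2 with e2 | e2
        · exact absurd (MulAction.injective g0 (e1.trans e2.symm)) hab
        · exact Or.inl ⟨e1, e2⟩
        · exact Or.inr ⟨e1, e2⟩
        · exact absurd (MulAction.injective g0 (e1.trans e2.symm)) hab
      refine hq ?_
      have h1 : q.out = ((1 : G) : G ⧸ D) := by
        rw [← QuotientGroup.out_eq' q.out, QuotientGroup.eq, ← hg0, mul_one]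
        exact inv_mem hgD
      rw [← Quotient.out_eq' q, h1]
    · refine hswap ⟨_, Or.inr ⟨z1, z2⟩⟩ (g0⁻¹ • a) (fun e1 => ?_) (fun e1 => ?_) z1 z2 (hcf a hzH.1)
      · have := hcf a hzH.1
        rw [e1, z1] at this
        exact hab this.symm
      · have := hcf a hzH.1
        rw [e1, z2] at this
        exact hab this
  · exact fun hh => absurd (Finset.mem_univ q₀) hh

/-- The Frobenius kernel of a point stabiliser is regular on the other points. -/
theorem exists_zass_kernel {G Ω : Type*} [Group G] [Finite G] [MulAction G Ω] [Finite Ω]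
    (hZ : Cfsg.IsZassenhausGroup G Ω) {a b : Ω} (hab : a ≠ b) :
    ∃ U : Subgroup G, IsKernel U a b := by
  classical
  haveI := Fintype.ofFinite Ω
  obtain ⟨K, hKle, hKn, -, hKb, -, hKc, -⟩ := exists_kernel hZ hab
  have hinj : ∀ u u' : K, (u : G) • b = (u' : G) • b → u = u' := fun u u' e => by
    have hm : (u' : G)⁻¹ * u ∈ K ⊓ stabilizer G b := ⟨(mul_mem (inv_mem u'.2) u.2 : (u' : G)⁻¹ * u ∈ K),
      show ((u' : G)⁻¹ * u) • b = b by rw [mul_smul, e, inv_smul_smul]⟩
    rw [hKb, Subgroup.mem_bot] at hm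
    exact Subtype.ext (inv_mul_eq_one.mp hm).symm
  haveI := Fintype.ofFinite K
  rw [Nat.card_eq_fintype_card (α := Ω)] at hKc
  have hbij : Function.Bijective (fun u : K => (⟨(u : G) • b, fun e => hab
      (MulAction.injective (u : G) ((hKle u.2 : _).trans e.symm))⟩ : {y : Ω // y ≠ a})) :=
    (Fintype.bijective_iff_injective_and_card _).mpr
      ⟨fun u u' e => hinj u u' (congrArg Subtype.val e), by
        rw [Fintype.card_subtype_compl, Fintype.card_subtype_eq, ← Nat.card_eq_fintype_card]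
        omega⟩
  refine ⟨K, hab, hKle, hKn, fun y hy => ?_⟩
  obtain ⟨u, hu⟩ := hbij.2 ⟨y, hy⟩
  exact ⟨u, congrArg Subtype.val hu, fun v hv => hinj v u (hv.trans (congrArg Subtype.val hu).symm)⟩

/-- In a simple Zassenhaus group of even `d`, the kernel is abelian of order `2 d + 1`. -/
theorem even_simple_half {G Ω : Type*} [Group G] [Finite G] [MulAction G Ω] [Fintype Ω]
    [IsSimpleGroup G] (hZ : Cfsg.IsZassenhausGroup G Ω) {a b : Ω} (hab : a ≠ b)
    (heven : Even (Nat.card ↥(stabilizer G a ⊓ stabilizer G b))) :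
    ∃ U : Subgroup G, IsKernel U a b ∧ IsMulCommutative U ∧
      Nat.card U - 1 = 2 * Nat.card ↥(stabilizer G a ⊓ stabilizer G b) := by
  classical
  haveI := hZ.1
  obtain ⟨U, hK⟩ := exists_zass_kernel hZ hab
  have hcard := hK.card_eq
  have hF : Fintype.card Ω = Nat.card Ω := Nat.card_eq_fintype_card.symm
  have h1 := S0741.result hZ hab heven
  have hUc := (prime_pow_kernel hZ hK (by omega)).1
  refine ⟨U, hK, hUc, ?_⟩
  have hdvd := card_twoPt_dvd hZ hab
  set d := Nat.card ↥(stabilizer G a ⊓ stabilizer G b) with hd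
  have hpos : 0 < d := Nat.card_pos
  have h2 := two_lt_card hZ hab
  obtain ⟨m, hm⟩ := hdvd
  have hm2 : m = 1 ∨ m = 2 := by
    have hle : m ≤ 2 := Nat.le_of_mul_le_mul_left
      (show d * m ≤ d * 2 by rw [← hm, mul_comm d 2]; omega) hpos
    have : m ≠ 0 := fun e => by rw [e, mul_zero] at hm; omega
    omega
  rcases hm2 with rfl | rfl
  swap
  · omega
  exfalso
  rw [mul_one] at hm
  have hS : Sharp3 G Ω :=
    { trans := fun x y z x' y' z' hxy hyz hxz hxy' hyz' hxz' => by
        obtain ⟨g, hga, hgb⟩ := exists_map_pair hZ hxy hab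
        obtain ⟨g', hga', hgb'⟩ := exists_map_pair hZ hxy' hab
        have hne : ∀ (g : G) (x y z : Ω), g • x = a → g • y = b → x ≠ z → y ≠ z →
            ¬ (g • z = a ∨ g • z = b) := by
          rintro g x y z gx gy hxz hyz (e | e)
          · exact hxz (MulAction.injective g (gx.trans e.symm))
          · exact hyz (MulAction.injective g (gy.trans e.symm))
        have hn1 := hne g x y z hga hgb hxz hyz
        let act : ↥(stabilizer G a ⊓ stabilizer G b) → {w : Ω // ¬(w = a ∨ w = b)} := fun k =>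
          ⟨(k : G) • (g • z), by
            rintro (e | e)
            · exact hn1 (Or.inl (MulAction.injective (k : G) (e.trans k.2.1.symm)))
            · exact hn1 (Or.inr (MulAction.injective (k : G) (e.trans k.2.2.symm)))⟩
        have hinj : Function.Injective act := fun k k' e => by
          obtain ⟨hna, hnb⟩ := not_or.mp hn1
          refine Subtype.ext (inv_mul_eq_one.mp (eq_one_of_fix3 hZ hab (Ne.symm hnb) (Ne.symm hna)
            (g := (k' : G)⁻¹ * k) ?_ ?_ ?_)).symm
          · exact (mul_mem (inv_mem k'.2) k.2).1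
          · exact (mul_mem (inv_mem k'.2) k.2).2
          · have e' : (k : G) • g • z = (k' : G) • g • z := congrArg Subtype.val e
            rw [mul_smul, e', inv_smul_smul]
        have hsurj : Function.Surjective act := by
          haveI := Fintype.ofFinite ↥(stabilizer G a ⊓ stabilizer G b)
          refine ((Fintype.bijective_iff_injective_and_card _).mpr ⟨hinj, ?_⟩).2
          rw [← Nat.card_eq_fintype_card, ← hd, Fintype.card_subtype_compl, Fintype.card_subtype,
            show (Finset.univ.filter fun x : Ω => x = a ∨ x = b) = {a, b} by ext x; simp,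
            Finset.card_pair hab]
          omega
        obtain ⟨k, hk⟩ := hsurj ⟨g' • z', hne g' x' y' z' hga' hgb' hxz' hyz'⟩
        refine ⟨g'⁻¹ * (k : G) * g, ?_, ?_, ?_⟩
        · rw [mul_smul, mul_smul, hga, show (k : G) • a = a from k.2.1, inv_smul_eq_iff, hga']
        · rw [mul_smul, mul_smul, hgb, show (k : G) • b = b from k.2.2, inv_smul_eq_iff, hgb']
        · rw [mul_smul, mul_smul, inv_smul_eq_iff]
          exact congrArg Subtype.val hk
      sharp := hZ.2.2.1
      three := by omega }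
  obtain ⟨k, hk⟩ := heven
  obtain ⟨f, hf⟩ := sharp3_exists_sign hS ⟨k + 1, by omega⟩
  rcases Subgroup.Normal.eq_bot_or_eq_top f.normal_ker with e | e
  · have h3 := Nat.card_le_card_of_injective f ((MonoidHom.ker_eq_bot_iff f).mp e)
    rw [Nat.card_eq_fintype_card (α := ℤˣ), Fintype.card_units_int] at h3
    have h4 := card_group hZ hab
    have h5 : 3 ≤ Nat.card G := by
      haveI := hZ.2.1
      haveI : IsPretransitive G Ω := isPretransitive_of_is_two_pretransitive
      have h6 := Nat.card_le_card_of_surjective (fun g : G => g • a) (MulAction.surjective_smul G a)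
      omega
    omega
  · exact hf (MonoidHom.ker_eq_top_iff.mp e)

end Cfsg.Agent.Lib.Zass
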