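import Mathlib.Data.Fintype.BigOperators
import Mathlib.Data.Finset.Powerset
import Mathlib.Algebra.Order.BigOperators.Ring.Finset
import Mathlib.Algebra.BigOperators.Group.Finset.Piecewise
import Mathlib.Algebra.Order.BigOperators.Group.Finset
import Mathlib.Tactic.LinearCombination
import Mathlib.Tactic.Ring
import Mathlib.Tactic.Linarith

/-!
Natural matrices `a` with `aᵀ a = I + e z zᵀ`: if many `z i` equal `1` and every further `z j`
is small against the sum of squares of the smaller ones, every row is either a unit vector or a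
multiple of `z`.
-/

set_option autoImplicit false

namespace Cfsg.Agent.Lib.Zass

open Finset

variable {ι κ : Type*}

/-- The columns in `S` are coherent: unit rows `ρ i`, every other row a multiple of `z`. -/
def CohOn (a : κ → ι → ℕ) (z : ι → ℕ) (l : ι) (S : Finset ι) : Prop :=
  ∃ ρ : ι → κ, (∀ i ∈ S, a (ρ i) i = 1 ∧ ∀ k ∈ S, k ≠ i → a (ρ i) k = 0) ∧
    ∀ r, (∀ i ∈ S, r ≠ ρ i) → ∀ k ∈ S, a r k = a r l * z k

/-- A pair of rows with squared differences summing to two. -/
theorem pair_rows [Fintype κ] [DecidableEq ι] (a : κ → ι → ℕ) (e : ℕ) {S : Finset ι}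
    (hgram : ∀ i ∈ S, ∀ j ∈ S, ∑ r, (a r i : ℤ) * a r j = (if i = j then 1 else 0) + e)
    {i j : ι} (hi : i ∈ S) (hj : j ∈ S) (hij : i ≠ j) {r : κ}
    (hr : a r j < a r i) :
    a r i = a r j + 1 ∧ ∃ r', r' ≠ r ∧ a r' j = a r' i + 1 ∧
      (∀ s, s ≠ r → s ≠ r' → a s i = a s j) ∧
      (∀ k ∈ S, k ≠ i → k ≠ j → a r' k = a r k) := by
  classical
  have h2 : ∑ s, ((a s i : ℤ) - a s j) ^ 2 = 2 := by
    have h1 := hgram i hi i hi; have h2 := hgram j hj j hj; have h3 := hgram i hi j hj
    rw [if_pos rfl] at h1 h2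
    rw [if_neg hij] at h3
    have : ∀ s, ((a s i : ℤ) - a s j) ^ 2
        = (a s i : ℤ) * a s i - 2 * ((a s i : ℤ) * a s j) + (a s j : ℤ) * a s j := fun s => by ring
    simp only [this, sum_add_distrib, sum_sub_distrib, ← mul_sum]
    rw [h1, h2, h3]; ring
  have h1 : ∑ s, (a s i : ℤ) * ((a s i : ℤ) - a s j) = 1 := by
    simp only [mul_sub, sum_sub_distrib, hgram i hi i hi, hgram i hi j hj, hij, ↓reduceIte]
    ring
  have hd : (a r i : ℤ) - a r j = 1 := by
    have hle := single_le_sum (s := univ) (f := fun s => ((a s i : ℤ) - a s j) ^ 2)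
      (fun s _ => sq_nonneg _) (mem_univ r)
    rw [h2] at hle
    have : (1 : ℤ) ≤ (a r i : ℤ) - a r j := by omega
    nlinarith
  have hrest : ∑ s ∈ univ.erase r, ((a s i : ℤ) - a s j) ^ 2 = 1 := by
    have := add_sum_erase univ (fun s => ((a s i : ℤ) - a s j) ^ 2) (mem_univ r)
    try simp only at this
    rw [h2, hd] at this
    linarith
  obtain ⟨r', hr', hne⟩ : ∃ s ∈ univ.erase r, ((a s i : ℤ) - a s j) ≠ 0 := by
    by_contra h
    push Not at h
    rw [sum_eq_zero fun s hs => by rw [h s hs]; ring] at hrest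
    exact absurd hrest (by norm_num)
  have hr'1 : ((a r' i : ℤ) - a r' j) ^ 2 = 1 ∧
      ∀ s ∈ (univ.erase r).erase r', ((a s i : ℤ) - a s j) ^ 2 = 0 := by
    have h := add_sum_erase (univ.erase r) (fun s => ((a s i : ℤ) - a s j) ^ 2) hr'
    try simp only at h
    rw [hrest] at h
    have h4 : (1 : ℤ) ≤ ((a r' i : ℤ) - a r' j) ^ 2 := by
      have := Int.one_le_abs hne
      nlinarith [sq_abs ((a r' i : ℤ) - a r' j)]
    have h5 : (0 : ℤ) ≤ ∑ s ∈ (univ.erase r).erase r', ((a s i : ℤ) - a s j) ^ 2 :=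
      sum_nonneg fun s _ => sq_nonneg _
    refine ⟨by linarith, fun s hs => ?_⟩
    exact (sum_eq_zero_iff_of_nonneg fun x _ => sq_nonneg _).mp
      (show ∑ s ∈ (univ.erase r).erase r', ((a s i : ℤ) - a s j) ^ 2 = 0 by linarith) s hs
  have hrne : r' ≠ r := (mem_erase.mp hr').1
  have hothers : ∀ s, s ≠ r → s ≠ r' → a s i = a s j := fun s h h' => by
    have := hr'1.2 s (mem_erase.mpr ⟨h', mem_erase.mpr ⟨h, mem_univ s⟩⟩)
    have := sub_eq_zero.mp (pow_eq_zero_iff two_ne_zero |>.mp this)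
    exact_mod_cast this
  have hsplit : ∀ g : κ → ℤ, (∀ s, s ≠ r → s ≠ r' → g s = 0) → ∑ s, g s = g r + g r' := by
    intro g hg
    rw [← sum_pair hrne.symm]
    refine (sum_subset (subset_univ _) fun s _ hs => ?_).symm
    simp only [mem_insert, mem_singleton, not_or] at hs
    exact hg s hs.1 hs.2
  rw [hsplit _ fun s h h' => by rw [hothers s h h']; ring, hd, mul_one] at h1
  have hd' : (a r' i : ℤ) - a r' j = -1 := by
    rcases sq_eq_one_iff.mp hr'1.1 with h | h
    · rw [h, mul_one] at h1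
      have h3 : ∑ s, (a s j : ℤ) * ((a s i : ℤ) - a s j) = -1 := by
        simp only [mul_sub, sum_sub_distrib, hgram j hj i hi, hgram j hj j hj, Ne.symm hij,
          ↓reduceIte]
        ring
      rw [hsplit _ fun s h h' => by rw [hothers s h h']; ring, hd, h, mul_one, mul_one] at h3
      omega
    · exact h
  rw [hd'] at h1
  refine ⟨by omega, r', hrne, by omega, hothers, fun k hk hki hkj => ?_⟩
  have h4 : ∑ s, (a s k : ℤ) * ((a s i : ℤ) - a s j) = 0 := by
    simp only [mul_sub, sum_sub_distrib, hgram k hk i hi, hgram k hk j hj, hki, hkj, ↓reduceIte]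
    ring
  rw [hsplit _ fun s h h' => by rw [hothers s h h']; ring, hd, hd'] at h4
  omega

/-- The columns of degree one are coherent. -/
theorem coh_base [Fintype κ] [DecidableEq ι] (a : κ → ι → ℕ) (z : ι → ℕ) (e : ℕ) (S : Finset ι)
    (hz : ∀ i ∈ S, z i = 1) (hS : 2 * e + 2 ≤ S.card) (he : 1 ≤ e)
    (hgram : ∀ i ∈ S, ∀ j ∈ S, ∑ r, (a r i : ℤ) * a r j = (if i = j then 1 else 0) + e)
    {l : ι} (hl : l ∈ S) : CohOn a z l S := by
  classical
  have hfull : ∀ i ∈ S, ∀ T : Finset κ, (∀ r ∈ T, 1 ≤ a r i) → T.card ≤ e + 1 := by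
    intro i hi T hT
    have h1 := hgram i hi i hi
    rw [if_pos rfl] at h1
    have h2 : (T.card : ℤ) ≤ ∑ r, (a r i : ℤ) * a r i := by
      refine le_trans ?_ (sum_le_univ_sum_of_nonneg (s := T) fun r => mul_self_nonneg _)
      rw [card_eq_sum_ones, Nat.cast_sum]
      refine sum_le_sum fun r hr => ?_
      have := hT r hr
      push_cast; nlinarith
    omega
  -- non-constant rows are unit vectors
  have hunit : ∀ r, ∀ i ∈ S, ∀ j ∈ S, a r j < a r i →
      a r i = 1 ∧ ∀ k ∈ S, k ≠ i → a r k = 0 := by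
    intro r i hi j hj hlt
    have hij : i ≠ j := fun h => by subst h; omega
    have hstep := (pair_rows a e hgram hi hj hij hlt).1
    set c := a r j with hc
    have hlevel : ∀ k ∈ S, a r k = c ∨ a r k = c + 1 := by
      intro k hk
      rcases lt_trichotomy (a r k) c with h | h | h
      · have hki : i ≠ k := fun e' => by rw [← e', hstep] at h; omega
        have := (pair_rows a e hgram hi hk hki (r := r) (by omega)).1
        omega
      · exact Or.inl h
      · have hkj : k ≠ j := fun e' => by subst e'; omega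
        exact Or.inr (pair_rows a e hgram hk hj hkj h).1
    set A := S.filter fun k => a r k = c + 1 with hA
    set B := S.filter fun k => a r k = c with hB
    have hAB : A.card + B.card = S.card := by
      rw [← card_union_of_disjoint (disjoint_filter.mpr fun k _ h h' => by omega)]
      congr 1; ext k
      simp only [A, B, mem_union, mem_filter]
      exact ⟨fun h => h.elim (·.1) (·.1), fun h => (hlevel k h).elim (fun e => Or.inr ⟨h, e⟩)
        fun e => Or.inl ⟨h, e⟩⟩
    have hiA : i ∈ A := mem_filter.mpr ⟨hi, hstep⟩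
    have hjB : j ∈ B := mem_filter.mpr ⟨hj, rfl⟩
    -- partner rows
    have hpart : ∀ x ∈ A, ∀ y ∈ B, ∃ s, s ≠ r ∧ a s x = c ∧ a s y = c + 1 ∧
        ∀ k ∈ S, k ≠ x → k ≠ y → a s k = a r k := by
      intro x hx y hy
      simp only [A, B, mem_filter] at hx hy
      have hxy : x ≠ y := fun e' => by subst e'; omega
      obtain ⟨-, s, hs, hsy, hoth, hk⟩ := pair_rows a e hgram hx.1 hy.1 hxy (r := r) (by omega)
      have h1 : ∑ t, (a t x : ℤ) * ((a t x : ℤ) - a t y) = 1 := by
        simp only [mul_sub, sum_sub_distrib, hgram x hx.1 x hx.1, hgram x hx.1 y hy.1, hxy,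
          ↓reduceIte]
        ring
      rw [← sum_subset (subset_univ {r, s}) fun t _ ht => by
        simp only [mem_insert, mem_singleton, not_or] at ht
        rw [hoth t ht.1 ht.2]; ring, sum_pair hs.symm] at h1
      have e1 : (a r x : ℤ) - a r y = 1 := by omega
      have e2 : (a s x : ℤ) - a s y = -1 := by omega
      rw [e1, e2] at h1
      exact ⟨s, hs, by omega, by omega, hk⟩
    haveI : Nonempty κ := ⟨r⟩
    choose! P hPne hPx hPy hPk using hpart
    have hPinjA : ∀ y ∈ B, ∀ x ∈ A, ∀ x' ∈ A, P x y = P x' y → x = x' := by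
      intro y hy x hx x' hx' h
      by_contra hne
      have h1 := hPx x hx y hy
      simp only [A, B, mem_filter] at hx hx' hy
      have h2 := hPk x' (mem_filter.mpr hx') y (mem_filter.mpr hy) x hx.1 hne
        (fun e' => by subst e'; omega)
      rw [← h] at h2
      omega
    have hPinjB : ∀ x ∈ A, ∀ y ∈ B, ∀ y' ∈ B, P x y = P x y' → y = y' := by
      intro x hx y hy y' hy' h
      by_contra hne
      have h1 := hPy x hx y hy
      simp only [A, B, mem_filter] at hx hy hy'
      have h2 := hPk x (mem_filter.mpr hx) y' (mem_filter.mpr hy') y hy.1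
        (fun e' => by subst e'; omega) hne
      rw [← h] at h2
      omega
    have hc0 : c = 0 := by
      by_contra hc0
      -- all partner rows are positive at `i`
      have hA1 : A.card ≤ e + 1 := by
        have hpos : ∀ s ∈ A.image fun x => P x j, 1 ≤ a s j := fun s hs => by
          obtain ⟨x, hx, rfl⟩ := mem_image.mp hs
          rw [hPy x hx j hjB]; omega
        rw [← card_image_of_injOn (fun x hx x' hx' h => hPinjA j hjB x hx x' hx' h)]
        exact hfull j hj _ hpos
      have hB1 : (insert r (B.image fun y => P i y)).card ≤ e + 1 := by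
        refine hfull i hi _ fun s hs => ?_
        rcases mem_insert.mp hs with rfl | hs
        · omega
        · obtain ⟨y, hy, rfl⟩ := mem_image.mp hs
          rw [hPx i hiA y hy]; omega
      rw [card_insert_of_notMem (fun h => by
        obtain ⟨y, hy, h'⟩ := mem_image.mp h
        exact hPne i hiA y hy h'), card_image_of_injOn
          (fun y hy y' hy' h => hPinjB i hiA y hy y' hy' h)] at hB1
      omega
    rw [hc0] at hstep hlevel
    refine ⟨hstep, fun k hk hki => ?_⟩
    by_contra hk0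
    have hkA : k ∈ A := mem_filter.mpr ⟨hk, by
      have := (hlevel k hk).resolve_left hk0
      omega⟩
    -- rows through `i` and `k`
    have hcol : ∀ x ∈ S, ∀ w ∈ S, x ≠ w → ∀ T : Finset κ, (∀ s ∈ T, 1 ≤ a s x ∧ 1 ≤ a s w) →
        T.card ≤ e := by
      intro x hx w hw hxw T hT
      have h1 := hgram x hx w hw
      rw [if_neg hxw, zero_add] at h1
      have h2 : (T.card : ℤ) ≤ ∑ s, (a s x : ℤ) * a s w := by
        refine le_trans ?_ (sum_le_univ_sum_of_nonneg (s := T) fun s =>
          mul_nonneg (Nat.cast_nonneg _) (Nat.cast_nonneg _))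
        rw [card_eq_sum_ones, Nat.cast_sum]
        refine sum_le_sum fun s hs => ?_
        have := hT s hs
        push_cast; nlinarith
      omega
    have hA1 : A.card ≤ e + 1 := by
      have hpos : ∀ s ∈ A.image fun x => P x j, 1 ≤ a s j := fun s hs => by
        obtain ⟨x, hx, rfl⟩ := mem_image.mp hs
        rw [hPy x hx j hjB]; omega
      rw [← card_image_of_injOn (fun x hx x' hx' h => hPinjA j hjB x hx x' hx' h)]
      exact hfull j hj _ hpos
    have hB1 : (insert r (B.image fun y => P i y)).card ≤ e + 1 := by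
      refine hfull k hk _ fun s hs => ?_
      rcases mem_insert.mp hs with rfl | hs
      · omega
      · obtain ⟨y, hy, rfl⟩ := mem_image.mp hs
        have hky : k ≠ y := fun e' => by
          subst e'
          have := (mem_filter.mp hy).2
          omega
        rw [hPk i hiA y hy k hk hki hky]; omega
    rw [card_insert_of_notMem (fun h => by
      obtain ⟨y, hy, h'⟩ := mem_image.mp h
      exact hPne i hiA y hy h'), card_image_of_injOn
        (fun y hy y' hy' h => hPinjB i hiA y hy y' hy' h)] at hB1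
    omega
  -- every column has its unit row
  have hex : ∀ i ∈ S, ∃ r, a r i = 1 ∧ ∀ k ∈ S, k ≠ i → a r k = 0 := by
    intro i hi
    obtain ⟨j, hj, hji⟩ := exists_mem_ne (s := S) (by omega) i
    by_contra hno
    have hle : ∀ r, a r i ≤ a r j := fun r => by
      by_contra h
      exact hno ⟨r, hunit r i hi j hj (by omega)⟩
    have h1 := hgram i hi i hi
    have h2 := hgram i hi j hj
    rw [if_pos rfl] at h1
    rw [if_neg (Ne.symm hji)] at h2
    have : ∑ r, (a r i : ℤ) * a r i ≤ ∑ r, (a r i : ℤ) * a r j :=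
      sum_le_sum fun r _ => mul_le_mul_of_nonneg_left (by exact_mod_cast hle r) (Nat.cast_nonneg _)
    omega
  obtain ⟨r₀, -⟩ := hex l hl
  haveI : Nonempty κ := ⟨r₀⟩
  choose! ρ hρ1 hρ0 using hex
  refine ⟨ρ, fun i hi => ⟨hρ1 i hi, hρ0 i hi⟩, fun r hr k hk => ?_⟩
  rw [hz k hk, mul_one]
  by_contra hne
  -- a non-constant row is some `ρ i`
  obtain ⟨i, hi, j, hj, hlt⟩ : ∃ i ∈ S, ∃ j ∈ S, a r j < a r i := by
    rcases Nat.lt_or_gt_of_ne hne with h | h
    · exact ⟨l, hl, k, hk, h⟩
    · exact ⟨k, hk, l, hl, h⟩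
  have hij : i ≠ j := fun h => by subst h; omega
  obtain ⟨hri, hrk⟩ := hunit r i hi j hj hlt
  obtain ⟨-, r', hr', hr'j, hoth, -⟩ := pair_rows a e hgram hi hj hij hlt
  have h := hoth (ρ i) (Ne.symm (hr i hi)) fun h => by
    rw [← h, hρ0 i hi j hj (Ne.symm hij)] at hr'j
    omega
  rw [hρ1 i hi, hρ0 i hi j hj (Ne.symm hij)] at h
  omega

/-- One more column. -/
theorem coh_step [Fintype κ] [DecidableEq ι] (a : κ → ι → ℕ) (z : ι → ℕ) (e : ℕ) (S : Finset ι)
    {l : ι} (hl : l ∈ S) (hzl : z l = 1) (hS : CohOn a z l S) (hz : ∀ i ∈ S, 1 ≤ z i)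
    {j : ι} (hj : j ∉ S)
    (hgram : ∀ i ∈ insert j S, ∀ k ∈ insert j S,
      ∑ r, (a r i : ℤ) * a r k = (if i = k then 1 else 0) + e * z i * z k)
    (hbig : 2 * z j + 1 ≤ ∑ i ∈ S, z i ^ 2) : CohOn a z l (insert j S) := by
  classical
  obtain ⟨ρ, hρ, hout⟩ := hS
  have hinj : ∀ i ∈ S, ∀ k ∈ S, ρ i = ρ k → i = k := fun i hi k hk h => by
    by_contra hne
    have h1 := (hρ i hi).2 k hk (Ne.symm hne)
    rw [h, (hρ k hk).1] at h1
    omega
  set O := univ.filter fun r => ∀ i ∈ S, r ≠ ρ i with hO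
  have hOout : ∀ r ∈ O, ∀ k ∈ S, a r k = a r l * z k := fun r hr =>
    hout r (mem_filter.mp hr).2
  have hsplit : ∀ g : κ → ℤ, ∑ r, g r = ∑ i ∈ S, g (ρ i) + ∑ r ∈ O, g r := by
    intro g
    rw [← sum_image (f := g) hinj]
    have hOc : O = (S.image ρ)ᶜ := by
      ext r; simp [O, eq_comm]
    rw [hOc, sum_add_sum_compl]
  have hmS : ∀ i ∈ S, i ∈ insert j S := fun i hi => mem_insert_of_mem hi
  have hlj : l ≠ j := fun h => hj (h ▸ hl)
  set β := ∑ r ∈ O, (a r l : ℤ) * a r j with hβ
  set B := ∑ r ∈ O, (a r l : ℤ) ^ 2 with hB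
  have hBe : B = e := by
    have h1 := hgram l (hmS l hl) l (hmS l hl)
    rw [if_pos rfl, hzl, hsplit, sum_eq_single_of_mem l hl fun i hi hne => by
      rw [(hρ i hi).2 l hl (Ne.symm hne)]; simp, (hρ l hl).1] at h1
    simp only [Nat.cast_one, mul_one] at h1
    rw [hB, sum_congr rfl fun r _ => sq (a r l : ℤ)]
    linarith
  set γ := (e : ℤ) * z j - β with hγ
  have hx : ∀ i ∈ S, (a (ρ i) j : ℤ) = z i * γ := by
    intro i hi
    have h1 := hgram i (hmS i hi) j (mem_insert_self j S)
    rw [if_neg (fun h => hj (by rw [← h]; exact hi)), hsplit, sum_eq_single_of_mem i hi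
      fun k hk hne => by rw [(hρ k hk).2 i hi (Ne.symm hne)]; simp, (hρ i hi).1,
      sum_congr rfl fun r hr => by
        rw [show (a r i : ℤ) * a r j = (z i : ℤ) * ((a r l : ℤ) * a r j) by
          rw [hOout r hr i hi]; push_cast; ring], ← mul_sum, ← hβ] at h1
    rw [hγ]
    push_cast at h1
    linarith [show (z i : ℤ) * ((e : ℤ) * z j - β) = e * z i * z j - z i * β by ring]
  have hγ0 : 0 ≤ γ := by
    have h1 := hx l hl
    rw [hzl, Nat.cast_one, one_mul] at h1
    rw [← h1]; exact Nat.cast_nonneg _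
  set S2 := ∑ i ∈ S, (z i : ℤ) ^ 2 with hS2
  have hS2b : 2 * (z j : ℤ) + 1 ≤ S2 := by rw [hS2]; exact_mod_cast hbig
  have hdiag := hgram j (mem_insert_self j S) j (mem_insert_self j S)
  rw [if_pos rfl, hsplit, sum_congr rfl fun i hi => by
    rw [hx i hi, show (z i : ℤ) * γ * (z i * γ) = (z i : ℤ) ^ 2 * (γ * γ) by ring],
    ← sum_mul, ← hS2] at hdiag
  have hdev : ∑ r ∈ O, ((a r j : ℤ) - z j * a r l) ^ 2 = 1 - γ * γ * S2 + 2 * z j * γ := by
    have h1 : ∀ r, ((a r j : ℤ) - z j * a r l) ^ 2 = (a r j : ℤ) * a r j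
        - 2 * z j * ((a r l : ℤ) * a r j) + (z j : ℤ) ^ 2 * (a r l : ℤ) ^ 2 := fun r => by ring
    simp only [h1, sum_add_distrib, sum_sub_distrib, ← mul_sum]
    rw [← hβ, ← hB, hBe, hγ]
    linear_combination hdiag
  have hlin : ∑ r ∈ O, (a r l : ℤ) * ((a r j : ℤ) - z j * a r l) = -γ := by
    have h1 : ∀ r, (a r l : ℤ) * ((a r j : ℤ) - z j * a r l) =
        (a r l : ℤ) * a r j - (z j : ℤ) * (a r l : ℤ) ^ 2 := fun r => by ring
    simp only [h1, sum_sub_distrib, ← mul_sum]
    rw [← hβ, ← hB, hBe, hγ]; ring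
  have hγz : γ = 0 := by
    by_contra hne
    have h1 : 0 ≤ ∑ r ∈ O, ((a r j : ℤ) - z j * a r l) ^ 2 := sum_nonneg fun r _ => sq_nonneg _
    have hγ1 : 1 ≤ γ := by omega
    have h0 : ∑ r ∈ O, ((a r j : ℤ) - z j * a r l) ^ 2 = 0 := by
      nlinarith [mul_nonneg (mul_nonneg hγ0 hγ0) (show (0 : ℤ) ≤ S2 - (2 * z j + 1) by linarith),
        mul_nonneg (show (0 : ℤ) ≤ γ - 1 by linarith) (show (0 : ℤ) ≤ γ + 1 by linarith),
        mul_nonneg (Nat.cast_nonneg (α := ℤ) (z j))
          (mul_nonneg (show (0 : ℤ) ≤ γ - 1 by linarith) hγ0)]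
    rw [sum_eq_zero fun r hr => by
      rw [pow_eq_zero_iff two_ne_zero |>.mp
        ((sum_eq_zero_iff_of_nonneg fun x _ => sq_nonneg _).mp h0 r hr), mul_zero]] at hlin
    omega
  rw [hγz] at hdev hlin hx
  simp only [zero_mul, mul_zero, sub_zero, add_zero, neg_zero] at hdev hlin hx
  obtain ⟨r₀, hr₀, hne⟩ : ∃ r ∈ O, (a r j : ℤ) - z j * a r l ≠ 0 := by
    by_contra h
    push Not at h
    rw [sum_eq_zero fun r hr => by rw [h r hr]; ring] at hdev
    exact absurd hdev (by norm_num)
  have h1 : ((a r₀ j : ℤ) - z j * a r₀ l) ^ 2 = 1 ∧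
      ∀ r ∈ O.erase r₀, (a r j : ℤ) - z j * a r l = 0 := by
    have h := add_sum_erase O (fun r => ((a r j : ℤ) - z j * a r l) ^ 2) hr₀
    try simp only at h
    rw [hdev] at h
    have h4 : (1 : ℤ) ≤ ((a r₀ j : ℤ) - z j * a r₀ l) ^ 2 := by
      have := Int.one_le_abs hne
      nlinarith [sq_abs ((a r₀ j : ℤ) - z j * a r₀ l)]
    have h5 : (0 : ℤ) ≤ ∑ r ∈ O.erase r₀, ((a r j : ℤ) - z j * a r l) ^ 2 :=
      sum_nonneg fun r _ => sq_nonneg _
    refine ⟨by linarith, fun r hr => pow_eq_zero_iff two_ne_zero |>.mp ?_⟩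
    exact (sum_eq_zero_iff_of_nonneg fun x _ => sq_nonneg _).mp
      (show ∑ r ∈ O.erase r₀, ((a r j : ℤ) - z j * a r l) ^ 2 = 0 by linarith) r hr
  have hl0 : a r₀ l = 0 := by
    rw [← add_sum_erase O _ hr₀, sum_eq_zero (s := O.erase r₀) (fun r hr => by
      rw [h1.2 r hr, mul_zero]), add_zero, mul_eq_zero] at hlin
    exact_mod_cast hlin.resolve_right hne
  have hj1 : a r₀ j = 1 := by
    rw [hl0] at h1
    have := h1.1
    push_cast at this
    have h2 : (a r₀ j : ℤ) = 1 := by
      rcases sq_eq_one_iff.mp this with h | h <;> omega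
    exact_mod_cast h2
  refine ⟨Function.update ρ j r₀, fun i hi => ?_, fun r hr k hk => ?_⟩
  · rcases mem_insert.mp hi with hij' | hi
    · subst hij'
      rw [Function.update_self]
      refine ⟨hj1, fun k hk hne => ?_⟩
      rw [hOout r₀ hr₀ k ((mem_insert.mp hk).resolve_left hne), hl0, zero_mul]
    · have hij : i ≠ j := fun h => hj (h ▸ hi)
      rw [Function.update_of_ne hij]
      refine ⟨(hρ i hi).1, fun k hk hne => ?_⟩
      rcases mem_insert.mp hk with hkj | hk
      · rw [hkj]; exact_mod_cast hx i hi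
      · exact (hρ i hi).2 k hk hne
  · have hrO : r ∈ O := mem_filter.mpr ⟨mem_univ r, fun i hi h => hr i (hmS i hi) (by
      rw [Function.update_of_ne (fun h' : i = j => hj (by rw [← h']; exact hi))]; exact h)⟩
    have hrne : r ≠ r₀ := fun h => hr j (mem_insert_self j S) (by rw [Function.update_self]; exact h)
    rcases mem_insert.mp hk with hkj | hk
    · subst hkj
      have := h1.2 r (mem_erase.mpr ⟨hrne, hrO⟩)
      have h2 : (a r k : ℤ) = (a r l : ℤ) * z k := by linarith
      exact_mod_cast h2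
    · exact hOout r hrO k hk

/-- Full coherence. -/
theorem coh_all [Fintype ι] [Fintype κ] [DecidableEq ι] (a : κ → ι → ℕ) (z : ι → ℕ) (e : ℕ)
    (he : 1 ≤ e) (hz : ∀ i, 1 ≤ z i)
    (hgram : ∀ i k, ∑ r, (a r i : ℤ) * a r k = (if i = k then 1 else 0) + e * z i * z k)
    (hlin : 2 * e + 2 ≤ (univ.filter fun i => z i = 1).card)
    (hbig : ∀ j, 1 < z j → 2 * z j + 1 ≤ ∑ i ∈ univ.filter (fun i => z i < z j), z i ^ 2) :
    ∃ (r : κ) (b : ℕ), b ≠ 0 ∧ ∀ i, a r i = b * z i := by
  classical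
  obtain ⟨l, hl⟩ := card_pos.mp (show 0 < (univ.filter fun i => z i = 1).card by omega)
  set L := univ.filter fun i => z i = 1 with hL
  have hbase : CohOn a z l L := coh_base a z e L (fun i hi => (mem_filter.mp hi).2) hlin he
    (fun i hi j hj => by
      have := hgram i j
      rwa [(mem_filter.mp hi).2, (mem_filter.mp hj).2, Nat.cast_one, mul_one, mul_one] at this) hl
  let Good := (univ : Finset ι).powerset.filter fun S =>
    L ⊆ S ∧ (∀ i ∈ S, ∀ k, z k < z i → k ∈ S) ∧ CohOn a z l S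
  have hLgood : L ∈ Good := mem_filter.mpr ⟨mem_powerset.mpr (subset_univ _), Subset.refl _,
    fun i hi k hk => by
      have := hz k
      rw [(mem_filter.mp hi).2] at hk
      omega, hbase⟩
  obtain ⟨S, hSG, hmax⟩ := exists_max_image Good Finset.card ⟨L, hLgood⟩
  obtain ⟨-, hLS, hdown, hcoh⟩ := mem_filter.mp hSG
  have hlS : l ∈ S := hLS hl
  have hzl : z l = 1 := (mem_filter.mp hl).2
  have hSu : S = univ := by
    by_contra hne
    obtain ⟨j, hj, hjmin⟩ := exists_min_image Sᶜ z (by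
      rw [nonempty_iff_ne_empty, ne_eq, compl_eq_empty_iff]; exact hne)
    rw [mem_compl] at hj
    have hzj : 1 < z j := by
      have := hz j
      by_contra h
      exact hj (hLS (mem_filter.mpr ⟨mem_univ j, by omega⟩))
    have hsub : univ.filter (fun i => z i < z j) ⊆ S := fun i hi => by
      by_contra h
      have := hjmin i (mem_compl.mpr h)
      have := (mem_filter.mp hi).2
      omega
    have hnew := coh_step a z e S hlS hzl hcoh (fun i _ => hz i) hj (fun i _ k _ => hgram i k)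
      ((hbig j hzj).trans (sum_le_sum_of_subset hsub))
    have hmem : insert j S ∈ Good := mem_filter.mpr ⟨mem_powerset.mpr (subset_univ _),
      hLS.trans (subset_insert _ _), fun i hi k hk => by
        rcases mem_insert.mp hi with rfl | hi
        · exact mem_insert_of_mem (hsub (mem_filter.mpr ⟨mem_univ k, hk⟩))
        · exact mem_insert_of_mem (hdown i hi k hk), hnew⟩
    have := hmax _ hmem
    rw [card_insert_of_notMem hj] at this
    omega
  subst hSu
  obtain ⟨ρ, hρ, hout⟩ := hcoh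
  by_contra hno
  push Not at hno
  have hz0 : ∀ r, (∀ i, r ≠ ρ i) → a r l = 0 := fun r hr => by
    by_contra h
    obtain ⟨i, hi⟩ := hno r _ h
    exact hi (hout r (fun i _ => hr i) i (mem_univ i))
  have h1 := hgram l l
  rw [if_pos rfl, sum_eq_single (ρ l) (fun r _ hne => ?_) (fun h => absurd (mem_univ _) h),
    (hρ l (mem_univ l)).1, hzl] at h1
  · simp at h1; omega
  · by_cases h : ∀ i, r ≠ ρ i
    · rw [hz0 r h]; simp
    · push Not at h
      obtain ⟨i, rfl⟩ := h
      rw [(hρ i (mem_univ i)).2 l (mem_univ l) (fun h => hne (by rw [h]))]; simp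

end Cfsg.Agent.Lib.Zass
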