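import Mathlib.LinearAlgebra.Dimension.Constructions
import Mathlib.LinearAlgebra.Dimension.Finite
import Mathlib.LinearAlgebra.FiniteDimensional.Lemmas
import Mathlib.Algebra.IsPrimePow
import Mathlib.Data.Fintype.BigOperators
import Mathlib.Tactic.LinearCombination
import Mathlib.Tactic.Ring
import Mathlib.Tactic.Linarith

/-!
Integer matrices `a` with `aᵀ a = I + e J` and no non-zero constant row: they are square, every
row deviates from a constant in a single place, and all row sums `k` satisfy `k² = 1 + t e`.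
-/

set_option autoImplicit false

namespace Cfsg.Agent.Lib.Zass

open Finset

variable {ι κ : Type*} [Fintype ι] [DecidableEq ι] [Fintype κ]

/-- The sum of the squares of all differences of entries is large for a non-constant vector. -/
theorem pair_sum_split (f : ι → ℤ) (i0 : ι) :
    2 * ((univ.filter fun i => f i = f i0).card : ℤ) * ((univ.filter fun i => ¬ f i = f i0).card : ℤ)
      ≤ ∑ i, ∑ j, (f i - f j) ^ 2 := by
  set A := univ.filter fun i => f i = f i0
  set B := univ.filter fun i => ¬ f i = f i0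
  have h1 : ∀ i ∈ A, ∀ j ∈ B, (1 : ℤ) ≤ (f i - f j) ^ 2 := by
    intro i hi j hj
    simp only [A, B, mem_filter, mem_univ, true_and] at hi hj
    have : f i - f j ≠ 0 := sub_ne_zero.mpr fun h => hj (h.symm.trans hi)
    have := Int.one_le_abs this
    nlinarith [sq_abs (f i - f j), abs_nonneg (f i - f j)]
  have hsplit : ∀ g : ι → ℤ, ∑ i, g i = ∑ i ∈ A, g i + ∑ i ∈ B, g i := fun g =>
    (sum_filter_add_sum_filter_not univ (fun i => f i = f i0) g).symm
  calc 2 * (A.card : ℤ) * (B.card : ℤ)
      = ∑ _i ∈ A, ∑ _j ∈ B, (1 : ℤ) + ∑ _i ∈ B, ∑ _j ∈ A, (1 : ℤ) := by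
        simp only [sum_const, nsmul_eq_mul, mul_one]; ring
    _ ≤ ∑ i ∈ A, ∑ j, (f i - f j) ^ 2 + ∑ i ∈ B, ∑ j, (f i - f j) ^ 2 := by
        refine add_le_add (sum_le_sum fun i hi => ?_) (sum_le_sum fun i hi => ?_)
        · exact (sum_le_sum fun j hj => h1 i hi j hj).trans
            (sum_le_univ_sum_of_nonneg fun j => sq_nonneg _)
        · refine (sum_le_sum fun j hj => ?_).trans (sum_le_univ_sum_of_nonneg fun j => sq_nonneg _)
          rw [← neg_sub, neg_sq]; exact h1 j hj i hi
    _ = _ := (hsplit _).symm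

theorem rows_structure (ht : 3 ≤ Fintype.card ι) (a : κ → ι → ℕ) (e : ℕ) (he : 1 ≤ e)
    (hgram : ∀ i j, ∑ r, (a r i : ℤ) * a r j = (if i = j then 1 else 0) + e)
    (hnc : ∀ r, (∀ i j, a r i = a r j) → ∀ i, a r i = 0) :
    ∃ (r : κ) (c : ℕ), 1 ≤ c ∧
      (∑ i, a r i = Fintype.card ι * c + 1 ∨ ∑ i, a r i + 1 = Fintype.card ι * c) ∧
      (∑ i, a r i) ^ 2 = 1 + Fintype.card ι * e := by
  classical
  set t := Fintype.card ι with htdef
  have hne : Nonempty ι := Fintype.card_pos_iff.mp (by omega)
  obtain ⟨i0⟩ := id hne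
  have hdiff : ∀ i j : ι, ∑ r, ((a r i : ℤ) - a r j) ^ 2 = 2 - 2 * (if i = j then 1 else 0) := by
    intro i j
    have h1 := hgram i i; have h2 := hgram j j; have h3 := hgram i j
    rw [if_pos rfl] at h1 h2
    have e1 : ∀ r, ((a r i : ℤ) - a r j) ^ 2
        = (a r i : ℤ) * a r i - 2 * ((a r i : ℤ) * a r j) + (a r j : ℤ) * a r j := fun r => by ring
    simp only [e1, sum_add_distrib, sum_sub_distrib, ← mul_sum]
    rw [h1, h2, h3]; ring
  set R := univ.filter fun r : κ => ∃ i, a r i ≠ 0 with hR
  have hout : ∀ r, r ∉ R → ∀ i, a r i = 0 := fun r hr i => by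
    by_contra h; exact hr (by simp only [hR, mem_filter, mem_univ, true_and]; exact ⟨i, h⟩)
  let D : κ → ℤ := fun r => ∑ i, ∑ j, ((a r i : ℤ) - a r j) ^ 2
  have htotal : ∑ r, D r = 2 * t * (t - 1) := by
    simp only [D]
    rw [sum_comm]
    simp only [sum_comm (s := (univ : Finset κ)), hdiff, sum_sub_distrib, ← mul_sum, sum_ite_eq,
      mem_univ, if_true, sum_const, card_univ, nsmul_eq_mul, ← htdef]
    ring
  have hlow : ∀ r ∈ R, 2 * ((t : ℤ) - 1) ≤ D r := by
    intro r hr
    have h1 := pair_sum_split (fun i => (a r i : ℤ)) i0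
    have hA : i0 ∈ univ.filter fun i => (a r i : ℤ) = a r i0 := by simp
    have hA1 : 1 ≤ (univ.filter fun i => (a r i : ℤ) = a r i0).card := card_pos.mpr ⟨i0, hA⟩
    have hB1 : 1 ≤ (univ.filter fun i => ¬ (a r i : ℤ) = a r i0).card := by
      rw [Finset.one_le_card]
      by_contra h
      rw [not_nonempty_iff_eq_empty, filter_eq_empty_iff] at h
      simp only [mem_univ, not_not, true_implies, Nat.cast_inj] at h
      simp only [hR, mem_filter, mem_univ, true_and] at hr
      obtain ⟨i, hi⟩ := hr
      exact hi (hnc r (fun i j => (h (x := i)).trans (h (x := j)).symm) i)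
    have hsum := card_filter_add_card_filter_not (s := (univ : Finset ι))
      (fun i => (a r i : ℤ) = a r i0)
    rw [card_univ, ← htdef] at hsum
    refine le_trans ?_ h1
    obtain ⟨x, hx⟩ := Nat.exists_eq_add_of_le hA1
    obtain ⟨y, hy⟩ := Nat.exists_eq_add_of_le hB1
    rw [hx, hy] at hsum ⊢
    rw [← hsum]; push_cast; nlinarith
  have hRt : R.card ≤ t := by
    have h1 : (R.card : ℤ) * (2 * ((t : ℤ) - 1)) ≤ 2 * t * (t - 1) := by
      rw [← htotal, ← nsmul_eq_mul, ← sum_const]
      exact (sum_le_sum hlow).trans (sum_le_univ_sum_of_nonneg fun r =>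
        sum_nonneg fun i _ => sum_nonneg fun j _ => sq_nonneg _)
    have h2 : (R.card : ℤ) ≤ t := le_of_mul_le_mul_right (by linarith) (show (0 : ℤ) < 2 * ((t : ℤ) - 1) by omega)
    exact_mod_cast h2
  -- the Gram matrix is invertible, so `R` has at least `t` members
  have hge : t ≤ R.card := by
    let L : (ι → ℚ) →ₗ[ℚ] (R → ℚ) :=
      { toFun := fun v r => ∑ i, (a r i : ℚ) * v i
        map_add' := fun v w => by ext r; simp [mul_add, sum_add_distrib]
        map_smul' := fun c v => by ext r; simp [mul_sum, mul_left_comm] }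
    have hinj : Function.Injective L := by
      rw [injective_iff_map_eq_zero]
      intro v hv
      have hrow : ∀ r : κ, ∑ i, (a r i : ℚ) * v i = 0 := by
        intro r
        by_cases hr : r ∈ R
        · exact congrFun hv ⟨r, hr⟩
        · simp [hout r hr]
      have hcol : ∀ j, v j + e * ∑ i, v i = 0 := by
        intro j
        have h1 : ∑ r, (a r j : ℚ) * ∑ i, (a r i : ℚ) * v i = 0 := by simp [hrow]
        simp only [mul_sum, ← mul_assoc] at h1
        rw [sum_comm] at h1
        have h2 : ∀ i, ∑ r, (a r j : ℚ) * (a r i : ℚ) * v i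
            = ((if j = i then 1 else 0) + (e : ℚ)) * v i := by
          intro i
          rw [← sum_mul]
          congr 1
          have := congrArg (fun z : ℤ => (z : ℚ)) (hgram j i)
          push_cast at this
          exact this
        simp only [h2, add_mul, sum_add_distrib, ite_mul, one_mul, zero_mul, sum_ite_eq, mem_univ,
          if_true, ← mul_sum] at h1
        exact h1
      have hs : ∑ i, v i = 0 := by
        have h1 : ∑ j, (v j + e * ∑ i, v i) = 0 := sum_eq_zero fun j _ => hcol j
        rw [sum_add_distrib, sum_const, card_univ, nsmul_eq_mul] at h1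
        have h2 : (1 + (t : ℚ) * e) * ∑ i, v i = 0 := by rw [← h1, ← htdef]; ring
        exact (mul_eq_zero.mp h2).resolve_left (by positivity)
      funext j
      have := hcol j
      rw [hs, mul_zero, add_zero] at this
      exact this
    have := LinearMap.finrank_le_finrank_of_injective hinj
    simpa [Module.finrank_pi, Fintype.card_coe] using this
  have hcard : R.card = t := le_antisymm hRt hge
  have hDeq : ∀ r ∈ R, D r = 2 * ((t : ℤ) - 1) := by
    have hs : ∑ r ∈ R, 2 * ((t : ℤ) - 1) = ∑ r ∈ R, D r := by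
      refine le_antisymm (sum_le_sum hlow) ?_
      rw [sum_const, nsmul_eq_mul, hcard]
      refine (sum_le_univ_sum_of_nonneg fun r => ?_).trans (by rw [htotal]; ring_nf; rfl)
      exact sum_nonneg fun i _ => sum_nonneg fun j _ => sq_nonneg _
    intro r hr
    exact (((sum_eq_sum_iff_of_le hlow).mp hs) r hr).symm
  -- each row deviates in a single place
  have hrow : ∀ r ∈ R, ∃ (p : ι) (c : ℕ) (σ : ℤ), (σ = 1 ∨ σ = -1) ∧
      (∀ i, (a r i : ℤ) = c + (if i = p then σ else 0)) := by
    intro r hr
    have key : ∀ i₁ : ι, let f := fun i => (a r i : ℤ)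
        (univ.filter fun i => f i = f i₁).card = 1 ∨
          (univ.filter fun i => ¬ f i = f i₁).card ≤ 1 := by
      intro i₁ f
      by_contra h
      push Not at h
      have h1 : 2 * ((univ.filter fun i => f i = f i₁).card : ℤ) *
          ((univ.filter fun i => ¬ f i = f i₁).card : ℤ) ≤ D r := pair_sum_split f i₁
      rw [hDeq r hr] at h1
      have hsum := card_filter_add_card_filter_not (s := (univ : Finset ι))
        (fun i => f i = f i₁)
      rw [card_univ, ← htdef] at hsum
      have hA1 : 1 ≤ (univ.filter fun i => f i = f i₁).card := card_pos.mpr ⟨i₁, by simp⟩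
      obtain ⟨x, hx⟩ := Nat.exists_eq_add_of_le (Nat.lt_of_le_of_ne hA1 (Ne.symm h.1))
      obtain ⟨y, hy⟩ := Nat.exists_eq_add_of_le h.2
      rw [hx, hy] at h1 hsum
      rw [← hsum] at h1
      push_cast at h1
      nlinarith
    -- a value taken by all but one entry
    obtain ⟨p, i₁, hp, hval⟩ : ∃ p i₁ : ι, i₁ ≠ p ∧ ∀ i, i ≠ p → a r i = a r i₁ := by
      by_cases hex : ∃ i₁, (univ.filter fun i => ¬ (a r i : ℤ) = a r i₁).card ≤ 1
      rotate_left
      · exfalso
        push Not at hex
        have hall : ∀ i j : ι, (a r j : ℤ) = a r i → j = i := fun i j hj =>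
          Finset.card_le_one.mp (le_of_eq ((key i).resolve_right (not_le.mpr (hex i)))) j (by simpa using hj) i
            (by simp)
        have hS : ∀ i, ((t : ℤ) - 1) ≤ ∑ j, ((a r i : ℤ) - a r j) ^ 2 := by
          intro i
          have hh := sum_le_sum (s := univ.erase i) (f := fun _ => (1 : ℤ))
            (g := fun j => ((a r i : ℤ) - a r j) ^ 2) fun j hj => by
              have : (a r i : ℤ) - a r j ≠ 0 :=
                sub_ne_zero.mpr fun hh => ne_of_mem_erase hj (hall i j hh.symm)
              have := Int.one_le_abs this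
              nlinarith [sq_abs ((a r i : ℤ) - a r j), abs_nonneg ((a r i : ℤ) - a r j)]
          rw [sum_const, card_erase_of_mem (mem_univ _), card_univ, nsmul_eq_mul, mul_one, ← htdef] at hh
          push_cast [Nat.cast_sub (show 1 ≤ t by omega)] at hh
          exact hh.trans (sum_le_univ_sum_of_nonneg fun j => sq_nonneg _)
        have hsum : (t : ℤ) * (t - 1) ≤ D r := by
          have hh := sum_le_sum (s := (univ : Finset ι)) fun i _ => hS i
          rw [sum_const, card_univ, nsmul_eq_mul, ← htdef] at hh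
          exact hh
        rw [hDeq r hr] at hsum
        have : (3 : ℤ) ≤ t := by exact_mod_cast ht
        nlinarith
      · obtain ⟨i₁, h⟩ := hex
        have hB1 : (univ.filter fun i => ¬ (a r i : ℤ) = a r i₁).Nonempty := by
          by_contra hh
          rw [not_nonempty_iff_eq_empty, filter_eq_empty_iff] at hh
          simp only [mem_univ, not_not, true_implies, Nat.cast_inj] at hh
          simp only [hR, mem_filter, mem_univ, true_and] at hr
          obtain ⟨i, hi⟩ := hr
          exact hi (hnc r (fun i j => (hh (x := i)).trans (hh (x := j)).symm) i)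
        obtain ⟨p, hp⟩ := hB1
        refine ⟨p, i₁, fun e => ?_, fun i hi => ?_⟩
        · subst e; simp at hp
        · by_contra hne
          have : i ∈ univ.filter fun j => ¬ (a r j : ℤ) = a r i₁ := by
            simp only [mem_filter, mem_univ, true_and]; exact_mod_cast hne
          exact hi (card_le_one.mp h i this p hp)
    refine ⟨p, a r i₁, (a r p : ℤ) - a r i₁, ?_, fun i => ?_⟩
    · have hD : D r = 2 * ((t : ℤ) - 1) * ((a r p : ℤ) - a r i₁) ^ 2 := by
        have hv : ∀ i, (a r i : ℤ) = a r i₁ + (if i = p then (a r p : ℤ) - a r i₁ else 0) := fun i => by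
          split_ifs with hi
          · rw [hi]; ring
          · rw [hval i hi, add_zero]
        show ∑ i, ∑ j, ((a r i : ℤ) - a r j) ^ 2 = _
        rw [sum_congr rfl fun i _ => sum_congr rfl fun j _ => by rw [hv i, hv j]]
        simp only [add_sub_add_left_eq_sub, sub_sq, ite_pow, zero_pow two_ne_zero, mul_ite, ite_mul,
          mul_zero, zero_mul, sum_add_distrib, sum_sub_distrib, sum_ite_eq', mem_univ, if_true,
          sum_const, card_univ, nsmul_eq_mul, ← htdef, sum_ite_irrel, sum_const_zero]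
        ring
      rw [hDeq r hr] at hD
      have : ((a r p : ℤ) - a r i₁) ^ 2 = 1 := by
        have := mul_left_cancel₀ (show (2 * ((t : ℤ) - 1)) ≠ 0 by omega)
          (show 2 * ((t : ℤ) - 1) * 1 = 2 * ((t : ℤ) - 1) * ((a r p : ℤ) - a r i₁) ^ 2 by rw [← hD, mul_one])
        exact this.symm
      exact sq_eq_one_iff.mp this
    · split_ifs with hi
      · rw [hi]; ring
      · rw [hval i hi, add_zero]
  choose! π c σ hσ hform using hrow
  -- every place occurs exactly once
  have hsumR : ∀ g : κ → ℤ, (∀ r, r ∉ R → g r = 0) → ∑ r, g r = ∑ r ∈ R, g r := fun g hg =>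
    (sum_subset (subset_univ R) fun r _ hr => hg r hr).symm
  let n : ι → ℤ := fun i => ((R.filter fun r => π r = i).card : ℤ)
  have hn2 : ∀ i j, i ≠ j → n i + n j = 2 := by
    intro i j hij
    have h4 : ∑ r, ((a r i : ℤ) - a r j) ^ 2 = 2 := by rw [hdiff, if_neg hij]; ring
    rw [hsumR _ (fun r hr => by simp [hout r hr])] at h4
    rw [← h4]
    simp only [n, card_filter, Nat.cast_sum, ← sum_add_distrib]
    refine sum_congr rfl fun r hr => ?_
    rw [hform r hr i, hform r hr j]
    rcases hσ r hr with e' | e' <;> rw [e'] <;>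
      by_cases hi : π r = i <;> by_cases hj : π r = j <;>
      first
        | exact absurd (hi.symm.trans hj) hij
        | simp [hi, hj, hij, Ne.symm hij, Ne.symm (a := π r), eq_comm (a := i), eq_comm (a := j)]
  have hn1 : ∀ i, n i = 1 := by
    intro i
    obtain ⟨j, hj⟩ := Fintype.exists_ne_of_one_lt_card (by omega : 1 < Fintype.card ι) i
    obtain ⟨k, -, hk⟩ := exists_mem_notMem_of_card_lt_card
      (show ({i, j} : Finset ι).card < (univ : Finset ι).card by
        rw [card_univ]; exact lt_of_le_of_lt card_le_two (by omega))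
    simp only [mem_insert, mem_singleton, not_or] at hk
    have := hn2 i j hj.symm; have := hn2 i k (Ne.symm hk.1); have := hn2 j k (Ne.symm hk.2)
    omega
  have hone : ∀ i, ∃ r ∈ R, π r = i ∧ ∀ r' ∈ R, π r' = i → r' = r := by
    intro i
    obtain ⟨r, hr⟩ := card_eq_one.mp (show (R.filter fun r => π r = i).card = 1 by
      have := hn1 i
      simp only [n] at this
      exact_mod_cast this)
    have hmem : r ∈ R.filter fun r => π r = i := by rw [hr]; simp
    refine ⟨r, (mem_filter.mp hmem).1, (mem_filter.mp hmem).2, fun r' h1 h2 => ?_⟩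
    have : r' ∈ R.filter fun r => π r = i := mem_filter.mpr ⟨h1, h2⟩
    rw [hr, mem_singleton] at this
    exact this
  choose ρ hρR hρπ hρu using hone
  set C := ∑ r ∈ R, (c r : ℤ) ^ 2 with hC
  have hsel : ∀ i (g : κ → ℤ), ∑ r ∈ R, g r * (if i = π r then σ r else 0) = g (ρ i) * σ (ρ i) := by
    intro i g
    rw [sum_eq_single_of_mem (ρ i) (hρR i) fun r hr hne => by
      rw [if_neg fun h => hne (hρu i r hr h.symm), mul_zero], if_pos (hρπ i).symm]
  have hdiag : ∀ i, C + 2 * ((c (ρ i) : ℤ) * σ (ρ i)) + 1 = 1 + e := by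
    intro i
    have h1 := hgram i i
    rw [if_pos rfl, hsumR _ (fun r hr => by simp [hout r hr])] at h1
    rw [← h1, ← sum_congr rfl fun r hr => by rw [← sq, hform r hr i]]
    simp only [add_sq, sum_add_distrib, ← hC]
    have e1 := hsel i (fun r => 2 * (c r : ℤ))
    have e2 : ∑ r ∈ R, (if i = π r then σ r else 0) ^ 2 = 1 := by
      rw [sum_eq_single_of_mem (ρ i) (hρR i) fun r hr hne => by
        rw [if_neg fun h => hne (hρu i r hr h.symm)]; rfl, if_pos (hρπ i).symm]
      rcases hσ _ (hρR i) with h | h <;> rw [h] <;> rfl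
    rw [e2, show ∑ r ∈ R, 2 * (c r : ℤ) * (if i = π r then σ r else 0) = _ from e1]
    ring
  have hsame : ∀ i j, (c (ρ i) : ℤ) * σ (ρ i) = (c (ρ j) : ℤ) * σ (ρ j) := fun i j => by
    have := hdiag i; have := hdiag j; linarith
  have hRim : ∀ r ∈ R, ρ (π r) = r := fun r hr => (hρu (π r) r hr rfl).symm
  set r0 := ρ i0
  have hc1 : 1 ≤ c r0 := by
    by_contra h
    have hc0 : c r0 = 0 := by omega
    have hg : ∀ r ∈ R, c r = 0 := fun r hr => by
      have h2 := hsame (π r) i0
      rw [hRim r hr, hc0, Nat.cast_zero, zero_mul, mul_eq_zero] at h2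
      rcases h2 with h2 | h2
      · exact_mod_cast h2
      · rcases hσ r hr with h3 | h3 <;> rw [h3] at h2 <;> norm_num at h2
    have := hdiag i0
    have hC0 : C = 0 := by
      rw [hC]; exact sum_eq_zero fun r hr => by rw [hg r hr]; rfl
    rw [hC0, hc0] at this
    omega
  have hceq : ∀ r ∈ R, c r = c r0 := by
    intro r hr
    have h2 := hsame (π r) i0
    rw [hRim r hr] at h2
    rcases hσ r hr with h3 | h3 <;> rcases hσ r0 (hρR i0) with h4 | h4 <;>
      change _ = (c r0 : ℤ) * σ r0 at h2 <;> rw [h3, h4] at h2 <;>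
      simp only [mul_one, mul_neg] at h2 <;> omega
  have hk : ((∑ i, a r0 i : ℕ) : ℤ) = t * c r0 + σ r0 := by
    push_cast
    rw [sum_congr rfl fun i _ => hform r0 (hρR i0) i, sum_add_distrib, sum_const, card_univ,
      nsmul_eq_mul, sum_ite_eq', if_pos (mem_univ _), ← htdef]
  refine ⟨r0, c r0, hc1, ?_, ?_⟩
  · rcases hσ r0 (hρR i0) with h | h <;> rw [h] at hk
    · left; exact_mod_cast hk
    · right
      have : ((∑ i, a r0 i : ℕ) : ℤ) + 1 = ((t * c r0 : ℕ) : ℤ) := by rw [hk]; push_cast; ring
      exact_mod_cast this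
  · have h1 := hdiag i0
    have hC' : C = t * (c r0 : ℤ) ^ 2 := by
      rw [hC, sum_congr rfl fun r hr => by rw [hceq r hr], sum_const, nsmul_eq_mul, hcard]
    have h2 : ((∑ i, a r0 i : ℕ) : ℤ) ^ 2 = 1 + t * e := by
      rw [hk]
      have hs2 : σ r0 ^ 2 = 1 := by rcases hσ r0 (hρR i0) with h | h <;> rw [h] <;> rfl
      rw [hC'] at h1
      linear_combination (t : ℤ) * h1 + hs2
    exact_mod_cast h2

/-- The divisibility contradiction. -/
theorem arith_false {t c k q e d : ℕ} (ht : 3 ≤ t) (hc : 1 ≤ c) (hd : d = 2 * e + 1)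
    (hk : k = t * c + 1 ∨ k + 1 = t * c) (hk2 : k ^ 2 = 1 + t * e) (hq : q = t * d + 1)
    (hcop : ∀ k m : ℕ, q = k * m → Nat.Coprime k m → d ∣ k - 1) (hdvd : k ∣ (q + 1) * q) : False := by
  have hkt : Nat.Coprime k t := by
    rcases hk with h | h
    · rw [h, add_comm, mul_comm, Nat.coprime_add_mul_right_left]
      exact Nat.coprime_one_left t
    · have hg1 : Nat.gcd k t ∣ t * c := Dvd.dvd.mul_right (Nat.gcd_dvd_right _ _) c
      rw [← h] at hg1
      exact Nat.dvd_one.mp ((Nat.dvd_add_right (Nat.gcd_dvd_left k t)).mp hg1)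
  have hq1 : q + 1 = 2 * k ^ 2 + t := by rw [hq, hd, hk2]; ring
  have hkq : k ∣ q := by
    rw [hq1, add_mul] at hdvd
    have h1 : k ∣ 2 * k ^ 2 * q := Dvd.dvd.mul_right (Dvd.dvd.mul_left (dvd_pow_self k two_ne_zero) 2) q
    exact hkt.dvd_of_dvd_mul_left ((Nat.dvd_add_right h1).mp hdvd)
  have hkt1 : k ∣ t - 1 := by
    have h1 : k ∣ 2 * k ^ 2 := Dvd.dvd.mul_left (dvd_pow_self k two_ne_zero) 2
    have h2 : q = 2 * k ^ 2 + (t - 1) := by omega
    rw [h2] at hkq
    exact (Nat.dvd_add_right h1).mp hkq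
  have hle : k ≤ t - 1 := Nat.le_of_dvd (by omega) hkt1
  have htc : t ≤ t * c := Nat.le_mul_of_pos_right t hc
  have hkeq : k + 1 = t := by rcases hk with h | h <;> omega
  have hk0 : k ≠ 0 := fun h => by rw [h, zero_pow two_ne_zero] at hk2; omega
  have hdk : d + 1 = 2 * k := by
    have h1 : q = k * (2 * k + 1) := by
      have : q + 1 = 2 * k ^ 2 + (k + 1) := by rw [hkeq]; exact hq1
      have e : k * (2 * k + 1) = 2 * k ^ 2 + k := by ring
      omega
    refine Nat.eq_of_mul_eq_mul_left (show 0 < k + 1 by omega) ?_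
    have h2 : t * d + 1 = k * (2 * k + 1) := hq.symm.trans h1
    rw [← hkeq] at h2
    linarith [show (k + 1) * (2 * k) = k * (2 * k + 1) + k by ring,
      show (k + 1) * (d + 1) = (k + 1) * d + k + 1 by ring]
  have hfac : q = k * (2 * k + 1) := by
    have : q + 1 = 2 * k ^ 2 + (k + 1) := by rw [hkeq]; exact hq1
    have e : k * (2 * k + 1) = 2 * k ^ 2 + k := by ring
    omega
  have hd1 := hcop k (2 * k + 1) hfac
    ((Nat.coprime_mul_right_add_right k 1 2).mpr (Nat.coprime_one_right k))
  have hk2' : 2 ≤ k := by omega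
  have := Nat.le_of_dvd (by omega) hd1
  omega

end Cfsg.Agent.Lib.Zass
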