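import Cfsg.Agent.Lib.Zass.Line
import Mathlib.FieldTheory.Finite.GaloisField
import Mathlib.Data.ZMod.Basic
import Mathlib.Algebra.Ring.Subring.Basic
import Mathlib.Algebra.Module.ZMod
import Mathlib.Algebra.Module.LinearMap.End


/-!
Field coordinates for a permutation group whose point stabiliser has an elementary abelian regular
normal subgroup `U` and an abelian, semiregular group `H` of order at least `(|U| - 1) / 2` of
automorphisms of `U`.
-/

set_option autoImplicit false

namespace Cfsg.Agent.Lib.Zass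

open MulAction

/-- Conjugation by elements normalising `U`, on `Additive U`. -/
def conjEnd {G : Type*} [Group G] (U : Subgroup G) [IsMulCommutative U] (g : G)
    (hg : ∀ u ∈ U, g * u * g⁻¹ ∈ U) : Additive U →+ Additive U where
  toFun v := Additive.ofMul ⟨g * (v.toMul : G) * g⁻¹, hg _ v.toMul.2⟩
  map_zero' := by apply Additive.toMul.injective; ext; simp
  map_add' v w := by apply Additive.toMul.injective; ext; simp [mul_assoc]

theorem exists_coords {G Ω : Type*} [Group G] [MulAction G Ω] [FaithfulSMul G Ω] [Finite G]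
    [Finite Ω] {p f : ℕ} (hp : p.Prime) (hf : f ≠ 0) {a b : Ω} (hab : a ≠ b) (U H : Subgroup G)
    (hUa : U ≤ stabilizer G a) (hUn : ∀ g ∈ stabilizer G a, ∀ u ∈ U, g * u * g⁻¹ ∈ U)
    (hUc : IsMulCommutative U) (hcard : Nat.card U = p ^ f)
    (hreg : ∀ y : Ω, y ≠ a → ∃! u : U, (u : G) • b = y)
    (hH : H ≤ stabilizer G a ⊓ stabilizer G b) (hHc : IsMulCommutative H)
    (hfree : ∀ h ∈ H, ∀ x, x ≠ a → x ≠ b → h • x = x → h = 1)
    (hd : p ^ f - 1 ≤ 2 * Nat.card H) :
    ∃ (K : Type) (_ : Field K) (_ : Fintype K) (e : Option K ≃ Ω), Fintype.card K = p ^ f ∧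
      e none = a ∧ e (some 0) = b ∧ (∀ u ∈ U, ∃ z : K, ActsAs e u (affine 1 z)) ∧
      (∀ z : K, ∃ u ∈ U, ActsAs e u (affine 1 z)) ∧
      ∀ x : G, x • a = a → x • b = b → (∀ h ∈ H, x * h = h * x) →
        ∃ c : K, c ≠ 0 ∧ ActsAs e x (affine c 0) := by
  classical
  have := Fact.mk hp
  let _ : AddCommGroup (Additive U) :=
    { (inferInstance : AddGroup (Additive U)) with
      add_comm := fun u v => Additive.toMul.injective (hUc.is_comm.comm u.toMul v.toMul) }
  have : Finite (Additive U) := inferInstanceAs (Finite U)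
  let ρ : stabilizer G a → AddMonoid.End (Additive U) := fun x => conjEnd U x.1 (hUn x.1 x.2)
  let u2Ω : Additive U → Ω := fun v => (v.toMul : G) • b
  have hne : ∀ v, u2Ω v ≠ a := fun v h =>
    hab (MulAction.injective (v.toMul : G) (((hUa v.toMul.2 : _).trans h.symm)))
  have hinj : ∀ v w, u2Ω v = u2Ω w → v = w := fun v w h =>
    Additive.toMul.injective ((hreg _ (hne v)).unique rfl h.symm)
  have hρact : ∀ (x : stabilizer G a), (x : G) • b = b → ∀ v : Additive U,
      u2Ω (ρ x v) = (x : G) • u2Ω v := by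
    rintro ⟨g, hg⟩ hgb v
    show (g * (v.toMul : G) * g⁻¹) • b = g • ((v.toMul : G) • b)
    rw [mul_smul, mul_smul, inv_smul_eq_iff.mpr hgb.symm]
  have hρH : ∀ (h : H) (v : Additive U),
      u2Ω (ρ ⟨(h : G), (hH h.2).1⟩ v) = (h : G) • u2Ω v := fun h v =>
    hρact ⟨(h : G), (hH h.2).1⟩ (hH h.2).2 v
  let S : Set (AddMonoid.End (Additive U)) := Set.range fun h : H => ρ ⟨h, (hH h.2).1⟩
  let A := Subring.closure S
  have hScomm : ∀ x ∈ S, ∀ y ∈ S, x * y = y * x := by
    rintro _ ⟨h, rfl⟩ _ ⟨k, rfl⟩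
    refine AddMonoidHom.ext fun v => hinj _ _ ?_
    show u2Ω (ρ ⟨h, (hH h.2).1⟩ (ρ ⟨k, (hH k.2).1⟩ v)) = u2Ω (ρ ⟨k, (hH k.2).1⟩ (ρ ⟨h, (hH h.2).1⟩ v))
    rw [hρH, hρH, hρH, hρH,
      smul_smul (h : G) (k : G), smul_smul (k : G) (h : G), ← Subgroup.coe_mul, ← Subgroup.coe_mul,
      hHc.is_comm.comm h k]
  have hAS : ∀ y, (∀ x ∈ S, x * y = y * x) → ∀ z ∈ A, z * y = y * z := by
    intro y hy z hz
    have : A ≤ Subring.centralizer {y} :=
      Subring.closure_le.mpr fun x hx => by
        rw [SetLike.mem_coe, Subring.mem_centralizer_iff]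
        rintro _ rfl
        exact (hy x hx).symm
    exact (Subring.mem_centralizer_iff.mp (this hz) y rfl).symm
  have hAcomm : ∀ x ∈ A, ∀ y ∈ A, x * y = y * x := fun x hx y hy =>
    hAS y (fun s hs => (hAS s (fun t ht => hScomm t ht s hs) y hy).symm) x hx
  -- irreducibility
  have hirr : ∀ W : AddSubgroup (Additive U), (∀ h : H, ∀ w ∈ W, ρ ⟨h, (hH h.2).1⟩ w ∈ W) →
      W ≠ ⊥ → W = ⊤ := by
    intro W hW hW0
    by_contra hW1
    obtain ⟨w, hwW, hw0⟩ := (AddSubgroup.bot_or_exists_ne_zero W).resolve_left hW0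
    have hwa : u2Ω w ≠ b := fun h => hw0 (hinj w 0 (h.trans (one_smul G b).symm))
    have hinjH : Function.Injective fun h : H =>
        (⟨⟨ρ ⟨h, (hH h.2).1⟩ w, hW h w hwW⟩, fun e => by
          have := congrArg u2Ω (congrArg Subtype.val e)
          rw [hρH] at this
          exact hwa (smul_left_cancel (h : G) ((this.trans (one_smul G b)).trans (hH h.2).2.symm))⟩ :
          {x : W // x ≠ 0}) := by
      intro h k e
      have := congrArg u2Ω (congrArg Subtype.val (congrArg Subtype.val e))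
      simp only [hρH] at this
      have h1 := hfree _ (mul_mem (inv_mem k.2) h.2) (u2Ω w) (hne w) hwa
        (by rw [mul_smul, this, inv_smul_smul])
      exact Subtype.ext (inv_mul_eq_one.mp h1).symm
    have h1 := Nat.card_le_card_of_injective _ hinjH
    have : Fintype W := Fintype.ofFinite W
    rw [Nat.card_eq_fintype_card (α := {x : W // x ≠ 0}), Fintype.card_subtype_compl,
      Fintype.card_subtype_eq, ← Nat.card_eq_fintype_card] at h1
    have hmul := W.card_mul_index
    have hidx1 : W.index ≠ 1 := fun h => hW1 (AddSubgroup.index_eq_one.mp h)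
    have hVc : Nat.card (Additive U) = p ^ f := hcard
    rw [hVc] at hmul
    obtain ⟨i, hi, hidx⟩ := (Nat.dvd_prime_pow hp).mp (Dvd.intro_left _ hmul)
    rw [hidx] at hmul hidx1
    have hpi : p ≤ p ^ i := Nat.le_self_pow (by rintro rfl; exact hidx1 (pow_zero p)) p
    have hWp : 0 < Nat.card W := Nat.card_pos
    have : Nat.card W * p ≤ p ^ f := hmul ▸ Nat.mul_le_mul_left _ hpi
    have : Nat.card W * 2 ≤ p ^ f := le_trans (Nat.mul_le_mul_left _ hp.two_le) this
    omega
  have hkerinv : ∀ z ∈ A, ∀ h : H, ∀ w ∈ AddMonoidHom.ker (G := Additive U) (M := Additive U) z,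
      ρ ⟨h, (hH h.2).1⟩ w ∈ AddMonoidHom.ker (G := Additive U) (M := Additive U) z := by
    intro z hz h w hw
    have := DFunLike.congr_fun (hAcomm z hz _ (Subring.subset_closure ⟨h, rfl⟩)) w
    rw [AddMonoid.End.coe_mul, AddMonoid.End.coe_mul, Function.comp_apply, Function.comp_apply] at this
    have hw' : z w = 0 := hw
    show z (ρ ⟨h, (hH h.2).1⟩ w) = 0
    rw [this, hw', map_zero]
  have hkinj : ∀ z ∈ A, z ≠ 0 → z.ker = ⊥ := by
    intro z hz hz0
    by_contra h
    exact hz0 (AddMonoidHom.ext fun v => AddMonoidHom.mem_ker.mp ((hirr _ (hkerinv z hz) h).ge (AddSubgroup.mem_top v)))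
  obtain ⟨u1, hu1⟩ : ∃ v : Additive U, v ≠ 0 := by
    have : Nontrivial (Additive U) := Finite.one_lt_card_iff_nontrivial.mp (by
      rw [show Nat.card (Additive U) = p ^ f from hcard]; exact Nat.one_lt_pow hf hp.one_lt)
    exact exists_ne 0
  let _ : CommRing A := { (inferInstance : Ring A) with
    mul_comm := fun x y => Subtype.ext (hAcomm _ x.2 _ y.2) }
  let ev : A →+ Additive U :=
    { toFun := fun z => (z : AddMonoid.End (Additive U)) u1, map_zero' := rfl, map_add' := fun _ _ => rfl }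
  have hev : Function.Injective ev := by
    rw [injective_iff_map_eq_zero]
    intro z hz
    by_contra h0
    have := hkinj z.1 z.2 (fun h => h0 (Subtype.ext h))
    exact hu1 (AddSubgroup.mem_bot.mp (this ▸ (AddMonoidHom.mem_ker.mpr hz)))
  have hevs : Function.Surjective ev := by
    rw [← AddMonoidHom.range_eq_top]
    refine hirr _ ?_ ?_
    · rintro h _ ⟨z, rfl⟩
      exact ⟨⟨ρ ⟨h, (hH h.2).1⟩, Subring.subset_closure ⟨h, rfl⟩⟩ * z, rfl⟩
    · intro hb
      have h1 : ev 1 ∈ ev.range := ⟨1, rfl⟩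
      rw [hb, AddSubgroup.mem_bot] at h1
      exact hu1 h1
  have hAfin : Finite A := Finite.of_injective ev hev
  have hAcard : Nat.card A = p ^ f := by
    rw [← hcard]; exact Nat.card_congr (Equiv.ofBijective ev ⟨hev, hevs⟩)
  have hAnt : Nontrivial A := Finite.one_lt_card_iff_nontrivial.mp (by
    rw [hAcard]; exact Nat.one_lt_pow hf hp.one_lt)
  have hAfield : IsField A := by
    have : IsDomain A := by
      have : NoZeroDivisors A := ⟨fun {x y} hxy => by
        by_contra hh
        push Not at hh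
        have hk := hkinj x.1 x.2 (fun h => hh.1 (Subtype.ext h))
        apply hh.2
        apply hev
        rw [map_zero]
        have : (x.1) (ev y) = 0 := by
          show (x * y : A).1 u1 = 0
          rw [hxy]; rfl
        exact AddSubgroup.mem_bot.mp (hk ▸ AddMonoidHom.mem_ker.mpr this)⟩
      exact NoZeroDivisors.to_isDomain A
    exact Finite.isField_of_domain A
  let _ : Field A := hAfield.toField
  have : Fintype A := Fintype.ofFinite A
  let K := GaloisField p f
  have : Fintype K := Fintype.ofFinite K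
  have hKcard : Fintype.card K = p ^ f := by
    rw [← Nat.card_eq_fintype_card]; exact GaloisField.card p f hf
  let ψ : K ≃+* A := FiniteField.ringEquivOfCardEq (by
    rw [hKcard, ← Nat.card_eq_fintype_card, hAcard])
  let E : Option K → Ω := fun o => o.elim a fun z => u2Ω (ev (ψ z))
  have hE : Function.Bijective E := by
    constructor
    · rintro (_ | z) (_ | w) h
      · rfl
      · exact absurd h.symm (hne _)
      · exact absurd h (hne _)
      · exact congrArg some (ψ.injective (hev (hinj _ _ h)))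
    · intro y
      by_cases hy : y = a
      · exact ⟨none, hy.symm⟩
      · obtain ⟨u, hu, -⟩ := hreg y hy
        obtain ⟨z, hz⟩ := hevs (Additive.ofMul u)
        refine ⟨some (ψ.symm z), ?_⟩
        show u2Ω (ev (ψ (ψ.symm z))) = y
        rw [ψ.apply_symm_apply, hz]
        exact hu
  let e := Equiv.ofBijective E hE
  have hs : ∀ z, e (some z) = u2Ω (ev (ψ z)) := fun z => rfl
  have hn : e none = a := rfl
  have htrans : ∀ (u : U) (z : K), ev (ψ z) = Additive.ofMul u → ActsAs e (u : G) (affine 1 z) := by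
    intro u z hz
    rintro (_ | w)
    · exact hUa u.2
    · simp only [affine, hs, one_mul, map_add, hz]
      show (u : G) • (((ev (ψ w)).toMul : G) • b) = (((ev (ψ w)).toMul * u : U) : G) • b
      rw [hUc.is_comm.comm, Subgroup.coe_mul, mul_smul]
  refine ⟨K, inferInstance, this, e, hKcard, hn, ?_, fun u hu => ?_, fun z => ?_, fun x hxa hxb hxH => ?_⟩
  · rw [hs, map_zero, map_zero]
    exact one_smul G b
  · obtain ⟨z, hz⟩ := hevs (Additive.ofMul ⟨u, hu⟩)
    exact ⟨ψ.symm z, htrans ⟨u, hu⟩ _ (by rw [ψ.apply_symm_apply, hz])⟩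
  · exact ⟨_, ((ev (ψ z)).toMul).2, htrans _ z rfl⟩
  · have hρx : ∀ v : Additive U, u2Ω (ρ ⟨x, hxa⟩ v) = x • u2Ω v := hρact ⟨x, hxa⟩ hxb
    have hxA : ∀ z ∈ A, z * ρ ⟨x, hxa⟩ = ρ ⟨x, hxa⟩ * z := by
      refine hAS _ ?_
      rintro _ ⟨h, rfl⟩
      refine AddMonoidHom.ext fun v => hinj _ _ ?_
      show u2Ω (ρ ⟨h, (hH h.2).1⟩ (ρ ⟨x, hxa⟩ v)) = u2Ω (ρ ⟨x, hxa⟩ (ρ ⟨h, (hH h.2).1⟩ v))
      rw [hρH, hρx, hρx, hρH,
        smul_smul (h : G) x, smul_smul x (h : G), hxH h h.2]
    obtain ⟨c, hc⟩ := hevs (ρ ⟨x, hxa⟩ u1)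
    have key : ∀ z : A, ρ ⟨x, hxa⟩ (ev z) = ev (c * z) := by
      intro z
      show ρ ⟨x, hxa⟩ (z.1 u1) = (c * z).1 u1
      have hzx := DFunLike.congr_fun (hxA z.1 z.2) u1
      rw [show (c * z).1 = z.1 * c.1 from hAcomm _ c.2 _ z.2]
      rw [AddMonoid.End.coe_mul, AddMonoid.End.coe_mul, Function.comp_apply, Function.comp_apply] at hzx
      rw [AddMonoid.End.coe_mul, Function.comp_apply, ← hzx, ← hc]
      rfl
    refine ⟨ψ.symm c, fun h0 => hu1 ?_, ?_⟩
    · rw [RingEquiv.map_eq_zero_iff] at h0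
      rw [h0, map_zero] at hc
      apply hinj
      apply smul_left_cancel x
      rw [← hρact ⟨x, hxa⟩ hxb, ← hρact ⟨x, hxa⟩ hxb, ← hc, map_zero]
    · rintro (_ | z)
      · exact hxa
      · simp only [affine, hs, add_zero, map_mul, RingEquiv.apply_symm_apply]
        rw [← key, hρact _ hxb]

end Cfsg.Agent.Lib.Zass
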