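import Cfsg.Agent.Lib.Zass.Struct
import Cfsg.Agent.Lib.Zass.Coherence
import Cfsg.Agent.Lib.Char.BrauerPerm
import Cfsg.Agent.Lib.Char.Degree
import Cfsg.Agent.Lib.Char.AbelianTI

/-!
Feit's coherence argument for a Zassenhaus group with two-point stabilisers of odd order: if the
characters of the kernel `U` satisfy the coherence condition then `|U| - 1 ≤ 2 d`.
-/

set_option autoImplicit false

open scoped ComplexConjugate

namespace Cfsg.Agent.Lib.Zass

open MulAction Cfsg.Agent.Lib.Char Cfsg.Agent.Lib.ZassFrob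
open Cfsg.Agent.Lib.Char.ATI (lin lin_apply lin_bijective)

universe u v

variable {G : Type u} {Ω : Type v} [Group G] [MulAction G Ω] {U : Subgroup G} {a b : Ω}

namespace IsKernel

variable (hK : IsKernel U a b)
include hK

theorem conjH_mem {h : G} (hh : h ∈ stabilizer G a ⊓ stabilizer G b) {u : G} (hu : u ∈ U) :
    h⁻¹ * u * h ∈ U := by
  simpa using hK.conj h⁻¹ (inv_mem hh.1) u hu

theorem disj {x : G} (hxU : x ∈ U) (hxb : x • b = b) : x = 1 := by
  by_contra h1
  exact hK.ne (hK.fix_only hxU h1 hxb).symm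

theorem exists_conj_eq [Finite G] (hZ : IsZassenhausGroup G Ω) {h : G}
    (hh : h ∈ stabilizer G a ⊓ stabilizer G b) (h1 : h ≠ 1) {v : G} (hv : v ∈ U) :
    ∃ w ∈ U, w * h * w⁻¹ = v * h := by
  let c : U → U := fun w => ⟨(w : G) * (h * (w : G)⁻¹ * h⁻¹),
    mul_mem w.2 (hK.conj h hh.1 _ (inv_mem w.2))⟩
  have hc : Function.Injective c := by
    intro x y e
    have e' : (x : G) * (h * (x : G)⁻¹ * h⁻¹) = (y : G) * (h * (y : G)⁻¹ * h⁻¹) :=
      congrArg Subtype.val e
    have e2 : h * ((y : G)⁻¹ * x) * h⁻¹ = (y : G)⁻¹ * x := by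
      have e3 : (y : G)⁻¹ * x = h * (y : G)⁻¹ * h⁻¹ * (h * (x : G)⁻¹ * h⁻¹)⁻¹ := by
        rw [eq_mul_inv_iff_mul_eq, mul_assoc, e', inv_mul_cancel_left]
      exact Eq.trans (by simp [mul_assoc]) e3.symm
    exact (Subtype.ext (inv_mul_eq_one.mp (kernel_free hK hZ hh h1
      (mul_mem (inv_mem y.2) x.2) e2))).symm
  obtain ⟨w, hw⟩ := (Finite.injective_iff_surjective.mp hc) ⟨v, hv⟩
  refine ⟨w, w.2, ?_⟩
  have hw' : (w : G) * (h * (w : G)⁻¹ * h⁻¹) = v := congrArg Subtype.val hw
  rw [← hw']; group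

/-- Conjugation by an element of the two-point stabiliser, on `U`. -/
def conjU (h : ↥(stabilizer G a ⊓ stabilizer G b)) : U →* U where
  toFun u := ⟨(h : G)⁻¹ * u * h, hK.conjH_mem h.2 u.2⟩
  map_one' := Subtype.ext (by simp)
  map_mul' x y := Subtype.ext (by simp [mul_assoc])

theorem conjU_conjU (g h : ↥(stabilizer G a ⊓ stabilizer G b)) (u : U) :
    hK.conjU h (hK.conjU g u) = hK.conjU (g * h) u :=
  Subtype.ext (by simp [conjU, mul_assoc])

theorem conjU_one (u : U) : hK.conjU 1 u = u := Subtype.ext (by simp [conjU])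

theorem conjU_surjective (h : ↥(stabilizer G a ⊓ stabilizer G b)) :
    Function.Surjective (hK.conjU h) := fun u =>
  ⟨hK.conjU h⁻¹ u, by rw [hK.conjU_conjU, inv_mul_cancel, hK.conjU_one]⟩

/-- `H` acts freely on the nontrivial irreducible characters of `U`. -/
theorem irr_free [Finite G] (hZ : IsZassenhausGroup G Ω)
    {h : ↥(stabilizer G a ⊓ stabilizer G b)} (h1 : h ≠ 1) (χ : IrrCharacter U)
    (hfix : (χ : U → ℂ) ∘ hK.conjU h = (χ : U → ℂ)) : (χ : U → ℂ) = fun _ => 1 := by
  classical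
  have hcount := card_fixed_irr_eq_card_fixed_classes (G := U) (hK.conjU h)
    (fun x y hxy => by
      obtain ⟨c, hc⟩ := isConj_iff.mp hxy
      exact isConj_iff.mpr ⟨hK.conjU h c, by rw [← map_inv, ← map_mul, ← map_mul, hc]⟩)
    (fun ξ => isIrrCharacter_comp ξ.2 (hK.conjU h) (hK.conjU_surjective h))
  have hone : ∀ u : U, IsConj (hK.conjU h u) u → u = 1 := by
    intro u hu
    obtain ⟨v, hv⟩ := isConj_iff.mp hu
    have hv' : (v : G) * ((h : G)⁻¹ * u * h) * (v : G)⁻¹ = u := congrArg Subtype.val hv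
    have hi1 : (h : G)⁻¹ ≠ 1 := fun e => h1 (Subtype.ext (inv_eq_one.mp e))
    obtain ⟨w, hw, hwe⟩ := hK.exists_conj_eq hZ (inv_mem h.2) hi1 v.2
    have hfree : (h : G)⁻¹ * (w⁻¹ * (u : G) * w) * (h : G) = w⁻¹ * (u : G) * w := by
      conv_rhs => rw [← hv']
      calc (h : G)⁻¹ * (w⁻¹ * (u : G) * w) * (h : G)
          = w⁻¹ * ((w * (h : G)⁻¹ * w⁻¹) * u * (w * (h : G)⁻¹ * w⁻¹)⁻¹) * w := by group
        _ = _ := by rw [hwe]; group
    have h2 := kernel_free hK hZ (inv_mem h.2) hi1
      (mul_mem (mul_mem (inv_mem hw) u.2) hw) (by rw [inv_inv]; exact hfree)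
    refine Subtype.ext ?_
    have : (u : G) = w * (w⁻¹ * u * w) * w⁻¹ := by group
    rw [this, h2]; simp
  have hcls : Nat.card {C : ConjClasses U // ∀ g, ConjClasses.mk g = C → IsConj (hK.conjU h g) g} = 1 := by
    rw [Nat.card_eq_one_iff_exists]
    refine ⟨⟨ConjClasses.mk 1, fun g hg => ?_⟩, fun C => ?_⟩
    · rw [ConjClasses.mk_eq_mk_iff_isConj, isConj_comm, isConj_one_right] at hg
      rw [hg, map_one]
    · obtain ⟨g, hg⟩ := ConjClasses.mk_surjective C.1
      exact Subtype.ext (by rw [← hg, hone g (C.2 g hg)])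
  rw [hcls, Nat.card_eq_one_iff_exists] at hcount
  obtain ⟨⟨ξ, hξ⟩, hu⟩ := hcount
  have e1 := hu ⟨χ, hfix⟩
  have e2 := hu ⟨⟨_, isIrrCharacter_one⟩, rfl⟩
  exact congrArg Subtype.val (congrArg Subtype.val (e1.trans e2.symm))

end IsKernel

open scoped _root_.Classical in
/-- Sum over the irreducible characters of `U` along the orbits. -/
theorem sum_irr_orbits {X ι H R : Type*} [Fintype X] [Fintype ι] [Fintype H] [AddCommMonoid R]
    (x₀ : X) (rep : ι × H → X) (hinj : Function.Injective rep) (hne : ∀ y, rep y ≠ x₀)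
    (hsurj : ∀ x, x ≠ x₀ → ∃ y, rep y = x) (g : X → R) :
    ∑ x, g x = g x₀ + ∑ i, ∑ h, g (rep (i, h)) := by
  rw [← Fintype.sum_prod_type (f := fun y => g (rep y)),
    ← Finset.add_sum_erase _ _ (Finset.mem_univ x₀)]
  congr 1
  symm
  refine Finset.sum_nbij rep (fun y _ => Finset.mem_erase.mpr ⟨hne y, Finset.mem_univ _⟩)
    (fun x _ y _ h => hinj h) (fun x hx => ?_) fun _ _ => rfl
  obtain ⟨y, hy⟩ := hsurj x (Finset.ne_of_mem_erase (Finset.mem_coe.mp hx))
  exact ⟨y, Finset.mem_coe.mpr (Finset.mem_univ _), hy⟩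

open scoped _root_.Classical in
/-- Feit's coherence bound. -/
theorem feit_bound [Finite G] [Fintype Ω] (hZ : IsZassenhausGroup G Ω) (hK : IsKernel U a b)
    (hHc : IsMulCommutative ↥(stabilizer G a ⊓ stabilizer G b)) (s : G) (hsa : s • a = b)
    (hinv : ∀ h ∈ stabilizer G a ⊓ stabilizer G b, s * h * s⁻¹ = h⁻¹)
    {d : ℕ} (hd : Nat.card ↥(stabilizer G a ⊓ stabilizer G b) = d) (hodd : Odd d)
    (hlin : d * d + d + 1 ≤ (commutator U).index)
    (hbig : ∀ χ : IrrCharacter U, 1 < charDegree (χ : U → ℂ) →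
      2 * d * charDegree (χ : U → ℂ) + 2 ≤
        ∑ ξ : IrrCharacter U, if charDegree (ξ : U → ℂ) < charDegree (χ : U → ℂ)
          then charDegree (ξ : U → ℂ) ^ 2 else 0) :
    Nat.card U - 1 ≤ 2 * d := by
  have hdone : d ≠ 1 := fun e =>
    twoPt_ne_bot hZ hK.ne (Subgroup.card_eq_one.mp (hd.trans e))
  haveI : IsPretransitive G Ω := by
    haveI := hZ.2.1
    exact isPretransitive_of_is_two_pretransitive
  haveI := Fintype.ofFinite G
  haveI := Fintype.ofFinite U
  set H := stabilizer G a ⊓ stabilizer G b with hH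
  haveI := Fintype.ofFinite H
  set N := stabilizer G a with hN
  haveI := Fintype.ofFinite N
  set q := Nat.card U with hqdef
  have hUN : U ≤ N := hK.le
  have hHN : ∀ h : H, (h : G) ∈ N := fun h => h.2.1
  -- coordinates on `N`
  let φ : U × H → N := fun x => ⟨(x.1 : G) * x.2, mul_mem (hUN x.1.2) (hHN x.2)⟩
  have hφ : Function.Bijective φ := by
    refine ⟨?_, fun n => ?_⟩
    · rintro ⟨u, h⟩ ⟨u', h'⟩ e
      have e' : (u : G) * h = (u' : G) * h' := congrArg Subtype.val e
      have hu' : u = u' := by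
        refine (hK.reg _ (hK.smul_ne u)).unique rfl ?_
        have := congrArg (· • b) e'
        simpa [mul_smul, show (h : G) • b = b from h.2.2, show (h' : G) • b = b from h'.2.2]
          using this.symm
      subst hu'
      exact Prod.ext rfl (Subtype.ext (mul_left_cancel e'))
    · obtain ⟨u, hu, -⟩ := hK.reg ((n : G) • b) fun e =>
        hK.ne (MulAction.injective (n : G) ((n.2 : _).trans e.symm))
      refine ⟨(u, ⟨(u : G)⁻¹ * n, (mul_mem (inv_mem (hUN u.2)) n.2 : (u : G)⁻¹ * n ∈ N), ?_⟩),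
        Subtype.ext (mul_inv_cancel_left _ _)⟩
      show ((u : G)⁻¹ * n) • b = b
      rw [mul_smul, inv_smul_eq_iff, hu]
  let ψ := Equiv.ofBijective φ hφ
  have hψ : ∀ u h, ((ψ (u, h) : N) : G) = (u : G) * h := fun _ _ => rfl
  have sumN : ∀ g : N → ℂ, ∑ n, g n = ∑ h : H, ∑ u : U, g (ψ (u, h)) := fun g => by
    rw [← Equiv.sum_comp ψ, Fintype.sum_prod_type_right]
  have hcN : (Nat.card N : ℂ) = (q : ℂ) * d := by
    rw [← Nat.card_congr ψ, Nat.card_prod, hd]; push_cast; rfl
  have hq0 : (q : ℂ) ≠ 0 := card_ne_zero_complex U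
  have hd0 : (d : ℂ) ≠ 0 := hd ▸ card_ne_zero_complex H
  have hidx : N.index = q + 1 := by
    rw [hN, index_stabilizer_of_transitive, hK.card_eq]
  have hproj : ∀ n m : N, (ψ.symm (n * m)).2 = (ψ.symm n).2 * (ψ.symm m).2 := by
    intro n m
    obtain ⟨⟨u, h⟩, rfl⟩ := ψ.surjective n
    obtain ⟨⟨u', h'⟩, rfl⟩ := ψ.surjective m
    have hu : (h : G) * u' * (h : G)⁻¹ ∈ U := hK.conj _ (hHN h) _ u'.2
    have e : ψ (u, h) * ψ (u', h') = ψ (⟨(u : G) * ((h : G) * u' * (h : G)⁻¹),
        mul_mem u.2 hu⟩, h * h') := Subtype.ext (by simp [hψ, mul_assoc])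
    simp [e]
  let π : N →* H := MonoidHom.mk' (fun n => (ψ.symm n).2) hproj
  have hπ : ∀ u h, π (ψ (u, h)) = h := fun u h => by simp [π]
  have hπU : ∀ n : N, (n : G) ∈ U → π n = 1 := fun n hn => by
    have e : ψ (⟨(n : G), hn⟩, 1) = n := Subtype.ext (by simp [hψ])
    rw [← e, hπ]
  have hπH : ∀ k : H, π ⟨(k : G), hHN k⟩ = k := fun k => by
    rw [show (⟨(k : G), hHN k⟩ : N) = ψ (1, k) from Subtype.ext (by simp [hψ]), hπ]
  have hfix : ∀ (u : U), u ≠ 1 → ∀ x : G, x⁻¹ * (u : G) * x ∈ N → x ∈ N := by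
    intro u hu x hm
    have h1 : (x⁻¹ * (u : G) * x) • a = a := hm
    rw [mul_smul, mul_smul, inv_smul_eq_iff] at h1
    exact hK.fix_only u.2 (fun e => hu (Subtype.ext e)) h1
  have hswap : ∀ (h : H), h ≠ 1 → ∀ x : G, x ∉ N → x⁻¹ * (h : G) * x ∈ N → s⁻¹ * x ∈ N := by
    intro h hh x hx hm
    have h1 : (x⁻¹ * (h : G) * x) • a = a := hm
    rw [mul_smul, mul_smul, inv_smul_eq_iff] at h1
    rcases eq_or_eq_of_fix hZ (fun e => hh (Subtype.ext e)) hK.ne h.2.1 h.2.2 h1 with e | e
    · exact absurd e hx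
    · show (s⁻¹ * x) • a = a
      rw [mul_smul, e, inv_smul_eq_iff, hsa]
  have hsN : s ∉ N := fun e => hK.ne ((e : s • a = a).symm.trans hsa)
  have hcf : ∀ (θ : G → ℂ), IsClassFunction G θ → ∀ (u : U) (h : H), h ≠ 1 →
      θ ((u : G) * h) = θ h := by
    intro θ hθ u h hh
    obtain ⟨w, -, hwe⟩ := hK.exists_conj_eq hZ h.2 (fun e => hh (Subtype.ext e)) u.2
    rw [← hwe]; exact hθ _ _
  have hHcomm : ∀ g h : H, (g : G) * h = h * g := fun g h =>
    congrArg Subtype.val (hHc.is_comm.comm g h)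
  -- orbits on the nontrivial characters of `U`
  let X := {χ : IrrCharacter U // (χ : U → ℂ) ≠ fun _ => 1}
  let act : MulAction H X :=
    { smul := fun h χ => ⟨⟨(χ.1 : U → ℂ) ∘ hK.conjU h,
        isIrrCharacter_comp χ.1.2 _ (hK.conjU_surjective h)⟩, fun e => χ.2 (funext fun u => by
          have := congrFun e (hK.conjU h⁻¹ u)
          simp only [Function.comp_apply, hK.conjU_conjU, inv_mul_cancel, hK.conjU_one] at this
          exact this)⟩
      one_smul := fun χ => Subtype.ext (Subtype.ext (funext fun u => by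
        show (χ.1 : U → ℂ) (hK.conjU 1 u) = _
        rw [hK.conjU_one]))
      mul_smul := fun g h χ => Subtype.ext (Subtype.ext (funext fun u => by
        show (χ.1 : U → ℂ) (hK.conjU (g * h) u) = (χ.1 : U → ℂ) (hK.conjU h (hK.conjU g u))
        rw [hK.conjU_conjU])) }
  let ι := Quotient (MulAction.orbitRel H X)
  haveI : Fintype ι := Fintype.ofFinite ι
  have hfreeA : ∀ (h : H) (χ : X), h • χ = χ → h = 1 := fun h χ e => by
    by_contra h1
    exact χ.2 (hK.irr_free hZ h1 χ.1 (congrArg (fun y : X => (y.1 : U → ℂ)) e))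
  have horb : Function.Bijective fun x : ι × H => x.2 • x.1.out := by
    refine ⟨?_, fun ν => ?_⟩
    · rintro ⟨i, h⟩ ⟨j, k⟩ e
      simp only at e
      have hij : i = j := by
        rw [← Quotient.out_eq i, ← Quotient.out_eq j]
        exact Quotient.sound ⟨h⁻¹ * k, by
          show (h⁻¹ * k) • j.out = i.out
          rw [mul_smul, ← e, inv_smul_smul]⟩
      subst hij
      exact Prod.ext rfl (inv_mul_eq_one.mp (hfreeA (k⁻¹ * h) i.out
        (by rw [mul_smul, e, inv_smul_smul]))).symm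
    · obtain ⟨h, hh⟩ := Quotient.exact (Quotient.out_eq
        (Quotient.mk (MulAction.orbitRel H X) ν))
      refine ⟨(Quotient.mk (MulAction.orbitRel H X) ν, h⁻¹), ?_⟩
      show h⁻¹ • _ = ν
      rw [← hh]; exact inv_smul_smul h ν
  let rep : ι × H → IrrCharacter U := fun x => (x.2 • x.1.out).1
  have hrepapp : ∀ i h (u : U), (rep (i, h) : U → ℂ) u = (i.out.1 : U → ℂ) (hK.conjU h u) :=
    fun _ _ _ => rfl
  have hrepinj : Function.Injective rep := fun _ _ e => horb.1 (Subtype.ext e)
  let one1 : IrrCharacter U := ⟨fun _ => 1, isIrrCharacter_one⟩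
  have hrepne : ∀ y, rep y ≠ one1 := fun y e => (y.2 • y.1.out).2 (congrArg Subtype.val e)
  have hrepsurj : ∀ χ : IrrCharacter U, χ ≠ one1 → ∃ y, rep y = χ := fun χ hχ => by
    obtain ⟨y, hy⟩ := horb.2 ⟨χ, fun e => hχ (Subtype.ext e)⟩
    exact ⟨y, congrArg Subtype.val hy⟩
  let z : ι → ℕ := fun i => charDegree (i.out.1 : U → ℂ)
  have hzone : ∀ i, (i.out.1 : U → ℂ) 1 = (z i : ℂ) := fun i =>
    apply_one_eq_charDegree (isCharacter_of_isIrr i.out.1.2)
  have hdeg1 : ∀ y, charDegree (rep y : U → ℂ) = z y.1 := fun y => by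
    refine charDegree_eq_of_apply_one ?_
    rw [hrepapp y.1 y.2, map_one, hzone]
  have hone1 : charDegree (one1 : U → ℂ) = 1 := charDegree_one
  have hsumU : ∀ g : IrrCharacter U → ℕ,
      ∑ χ, g χ = g one1 + ∑ i, ∑ h, g (rep (i, h)) := fun g =>
    sum_irr_orbits one1 rep hrepinj hrepne hrepsurj g
  -- degrees and sums
  have hT2 : q = 1 + d * ∑ i, z i ^ 2 := by
    rw [hqdef, ← sum_charDegree_sq (G := U), hsumU, hone1, one_pow]
    simp only [hdeg1, Finset.sum_const, Finset.card_univ, ← Nat.card_eq_fintype_card, hd,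
      smul_eq_mul, ← Finset.mul_sum]
  by_contra hlt
  obtain ⟨e, he⟩ := hodd
  have he1 : 1 ≤ e := by omega
  have hlin' : 2 * e + 2 ≤ (Finset.univ.filter fun i => z i = 1).card := by
    have h1 : (commutator U).index = 1 + (Finset.univ.filter fun i => z i = 1).card * d := by
      rw [← card_linear, Nat.card_eq_fintype_card, Fintype.card_subtype, Finset.card_filter,
        hsumU, Finset.card_filter, Finset.sum_mul]
      simp only [← charDegree_eq_one_iff one1.2, hone1, if_true,
        fun y => (charDegree_eq_one_iff (rep y).2).symm, hdeg1, Finset.sum_const, Finset.card_univ,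
        ← Nat.card_eq_fintype_card, hd, smul_eq_mul]
      congr 1
      exact Finset.sum_congr rfl fun i _ => mul_comm _ _
    rw [h1] at hlin
    have h2 : (d + 1) * d ≤ (Finset.univ.filter fun i => z i = 1).card * d := by
      rw [add_mul, one_mul]; omega
    have := Nat.le_of_mul_le_mul_right h2 (by omega)
    omega
  have hbig' : ∀ j, 1 < z j → 2 * z j + 1 ≤
      ∑ i ∈ Finset.univ.filter (fun i => z i < z j), z i ^ 2 := by
    intro j hj
    have h1 := hbig j.out.1 hj
    rw [hsumU, hone1, if_pos hj, one_pow] at h1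
    simp only [hdeg1, Finset.sum_const, Finset.card_univ, ← Nat.card_eq_fintype_card, hd,
      smul_eq_mul, ← Finset.mul_sum] at h1
    rw [Finset.sum_filter]
    change 2 * d * z j + 2 ≤ 1 + d * ∑ i, if z i < z j then z i ^ 2 else 0 at h1
    have h2 : d * (2 * z j) < d * ∑ i, if z i < z j then z i ^ 2 else 0 := by
      rw [show d * (2 * z j) = 2 * d * z j by ring]; omega
    have := Nat.lt_of_mul_lt_mul_left h2
    omega
  -- induced functions
  let F : ι → G → ℂ := fun i => indFun U (i.out.1 : U → ℂ)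
  have hFcf : ∀ i, IsClassFunction G (F i) := fun i => isClassFunction_indFun _ _
  have hFch : ∀ i, IsCharacter G (F i) := fun i =>
    isCharacter_indFun _ (isCharacter_of_isIrr i.out.1.2)
  have hcG : Nat.card G = (q + 1) * q * d := by
    rw [← Subgroup.index_mul_card N, hidx, ← Nat.card_congr ψ, Nat.card_prod, hd, mul_assoc]
  have hUidx : (U.index : ℂ) = ((q : ℂ) + 1) * d := by
    have h1 := U.index_mul_card
    rw [hcG, ← hqdef] at h1
    have h2 : U.index = (q + 1) * d := by
      have hqpos : 0 < q := Nat.card_pos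
      exact Nat.eq_of_mul_eq_mul_right hqpos (h1.trans (by ring))
    rw [h2]; push_cast; rfl
  have hFone : ∀ i, F i 1 = ((q : ℂ) + 1) * d * z i := fun i => by
    show indFun U _ 1 = _
    rw [indFun_one, hUidx, hzone]
  have hFU : ∀ i (u : U), u ≠ 1 → F i u = ∑ h : H, (rep (i, h) : U → ℂ) u := by
    intro i u hu
    have hclass := isClassFunction_of_isIrr i.out.1.2
    have h0 : ∀ x : G, x ∉ N → extendByZero U (i.out.1 : U → ℂ) (x⁻¹ * u * x) = 0 := fun x hx =>
      extendByZero_not_mem _ _ fun hm => hx (hfix u hu x (hUN hm))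
    show (Nat.card U : ℂ)⁻¹ * ∑ x : G, _ = _
    rw [← Finset.sum_subset (Finset.subset_univ (Finset.univ.filter fun x => x ∈ N))
      (fun x _ hx => h0 x fun h => hx (Finset.mem_filter.mpr ⟨Finset.mem_univ x, h⟩)),
      Finset.sum_subtype (p := (· ∈ N)) _ (by simp), sumN]
    have hval : ∀ (v : U) (h : H), extendByZero U (i.out.1 : U → ℂ)
        (((ψ (v, h) : N) : G)⁻¹ * u * ((ψ (v, h) : N) : G)) = (rep (i, h) : U → ℂ) u := by
      intro v h
      have hm : ((v⁻¹ * u * v : U) : G) ∈ U := (v⁻¹ * u * v).2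
      have e1 : (((ψ (v, h) : N) : G)⁻¹ * u * ((ψ (v, h) : N) : G))
          = ((hK.conjU h (v⁻¹ * u * v) : U) : G) := by
        simp [hψ, IsKernel.conjU, mul_assoc]
      rw [e1, extendByZero_coe, hrepapp, map_mul, map_mul, map_inv]
      have := hclass (hK.conjU h u) (hK.conjU h v)⁻¹
      simpa using this
    simp only [hval, Finset.sum_const, Finset.card_univ, ← Nat.card_eq_fintype_card, nsmul_eq_mul,
      ← Finset.mul_sum, ← hqdef]
    rw [← mul_assoc, inv_mul_cancel₀ hq0, one_mul]
  have hsum0 : ∀ χ : IrrCharacter U, χ ≠ one1 → ∑ u : U, conj ((χ : U → ℂ) u) = 0 := by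
    intro χ hχ
    have h1 := classInner_irr_ne isIrrCharacter_one χ.2 (fun e => hχ (Subtype.ext e.symm))
    rw [classInner, mul_eq_zero, or_iff_right (inv_ne_zero (card_ne_zero_complex U))] at h1
    simpa using h1
  have hout : ∀ i : ι, i.out.1 ≠ one1 := fun i e => i.out.2 (congrArg Subtype.val e)
  have hrep1 : ∀ i : ι, rep (i, 1) = i.out.1 := fun i =>
    Subtype.ext (funext fun u => by rw [hrepapp, hK.conjU_one])
  have hFF : ∀ i j, classInner (F i) (F j) = (if i = j then 1 else 0) + (d : ℂ) * z i * z j := by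
    intro i j
    rw [classInner_indFun_right U _ (hFcf i), classInner, ← hqdef]
    have h3 : ∀ u : U, F i u * conj ((j.out.1 : U → ℂ) u) =
        (∑ h : H, (rep (i, h) : U → ℂ) u * conj ((j.out.1 : U → ℂ) u))
          + if u = 1 then (q : ℂ) * d * z i * z j else 0 := by
      intro u
      rw [← Finset.sum_mul]
      split_ifs with hu
      · subst hu
        rw [OneMemClass.coe_one, hFone, hzone, map_natCast]
        simp only [hrepapp, map_one, hzone, Finset.sum_const, Finset.card_univ,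
          ← Nat.card_eq_fintype_card, hd, nsmul_eq_mul]
        ring
      · rw [hFU i u hu, add_zero]
    rw [Finset.sum_congr rfl fun u _ => h3 u, Finset.sum_add_distrib, Finset.sum_ite_eq',
      if_pos (Finset.mem_univ _), Finset.sum_comm, mul_add, Finset.mul_sum]
    congr 1
    · rw [Finset.sum_congr rfl fun h _ => show (q : ℂ)⁻¹ * _ =
        classInner (rep (i, h) : U → ℂ) (j.out.1 : U → ℂ) from rfl]
      simp only [classInner_irrCharacter, ← hrep1 j, hrepinj.eq_iff, Prod.mk.injEq]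
      rw [Finset.sum_eq_single (1 : H) (fun h _ hh => if_neg fun hc => hh hc.2) (by simp)]
      simp
    · rw [← mul_assoc, ← mul_assoc, ← mul_assoc, inv_mul_cancel₀ hq0, one_mul]
  let L : (H →* ℂˣ) → G → ℂ := fun l => indFun N fun n => (l (π n) : ℂ)
  have hLcf : ∀ l, IsClassFunction G (L l) := fun l => isClassFunction_indFun _ _
  have hLch : ∀ l, IsCharacter G (L l) := fun l =>
    isCharacter_indFun _ (isCharacter_of_isIrr (isIrrCharacter_linear (l.comp π)))
  have hLone : ∀ l, L l 1 = (q : ℂ) + 1 := fun l => by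
    show indFun N _ 1 = _
    rw [indFun_one, hidx]; simp
  have hLU : ∀ l (u : U), u ≠ 1 → L l u = 1 := by
    intro l u hu
    have hval : ∀ x : G, extendByZero N (fun n => (l (π n) : ℂ)) (x⁻¹ * u * x) =
        if x ∈ N then 1 else 0 := by
      intro x
      by_cases hx : x ∈ N
      · have hm : x⁻¹ * (u : G) * x ∈ U := by simpa using hK.conj _ (inv_mem hx) _ u.2
        rw [if_pos hx, extendByZero_mem _ _ (hUN hm), hπU _ hm, map_one, Units.val_one]
      · rw [if_neg hx, extendByZero_not_mem _ _ fun hm => hx (hfix u hu x hm)]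
    show (Nat.card N : ℂ)⁻¹ * _ = 1
    rw [Finset.sum_congr rfl fun x _ => hval x, Finset.sum_boole, ← Fintype.card_subtype,
      ← Nat.card_eq_fintype_card]
    exact inv_mul_cancel₀ (card_ne_zero_complex N)
  have hLH : ∀ l (h : H), h ≠ 1 → L l h = (l h : ℂ) + conj (l h : ℂ) := by
    intro l h hh
    have hconj : conj (l h : ℂ) = (l h⁻¹ : ℂ) := by
      have := linear_conj_mul l h
      rw [map_inv, Units.val_inv_eq_inv_val]
      exact eq_inv_of_mul_eq_one_right this
    have hsh : s⁻¹ * (h : G) * s = (h : G)⁻¹ := by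
      have := hinv _ (inv_mem h.2)
      rw [inv_inv] at this
      nth_rewrite 1 [← this]
      simp [mul_assoc]
    have hπconj : ∀ (n : N) (k : H), π (n⁻¹ * ⟨(k : G), hHN k⟩ * n) = k := fun n k => by
      rw [map_mul, map_mul, map_inv, hπH]
      exact Subtype.ext (by
        simp only [Subgroup.coe_mul, Subgroup.coe_inv]
        rw [mul_assoc, hHcomm k (π n), inv_mul_cancel_left])
    have hval : ∀ x : G, extendByZero N (fun n => (l (π n) : ℂ)) (x⁻¹ * h * x) =
        (if x ∈ N then (l h : ℂ) else 0) + if s⁻¹ * x ∈ N then (l h⁻¹ : ℂ) else 0 := by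
      intro x
      by_cases hx : x ∈ N
      · have hnot : ¬ s⁻¹ * x ∈ N := fun hm => hsN (inv_mem_iff.mp (by
          simpa using mul_mem hm (inv_mem hx)))
        rw [if_pos hx, if_neg hnot, add_zero,
          extendByZero_mem _ _ (mul_mem (mul_mem (inv_mem hx) (hHN h)) hx)]
        exact congrArg (fun k => ((l k : ℂˣ) : ℂ)) (hπconj ⟨x, hx⟩ h)
      · rw [if_neg hx, zero_add]
        by_cases hm : s⁻¹ * x ∈ N
        · have hxe : x⁻¹ * (h : G) * x = (s⁻¹ * x)⁻¹ * (h⁻¹ : H) * (s⁻¹ * x) := by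
            rw [Subgroup.coe_inv, ← hsh]; simp [mul_assoc]
          rw [if_pos hm, hxe, extendByZero_mem _ _
            (mul_mem (mul_mem (inv_mem hm) (hHN h⁻¹)) hm)]
          exact congrArg (fun k => ((l k : ℂˣ) : ℂ)) (hπconj ⟨_, hm⟩ h⁻¹)
        · rw [if_neg hm, extendByZero_not_mem _ _ fun hm' => hm (hswap h hh x hx hm')]
    have hcard2 : (Finset.univ.filter fun x : G => s⁻¹ * x ∈ N).card = Nat.card N := by
      rw [← Fintype.card_subtype, ← Nat.card_eq_fintype_card]
      exact Nat.card_congr (Equiv.subtypeEquiv (Equiv.mulLeft s⁻¹) fun x => Iff.rfl)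
    show (Nat.card N : ℂ)⁻¹ * _ = _
    rw [Finset.sum_congr rfl fun x _ => hval x, Finset.sum_add_distrib, ← Finset.sum_filter,
      ← Finset.sum_filter, Finset.sum_const, Finset.sum_const, hcard2, ← Fintype.card_subtype,
      ← Nat.card_eq_fintype_card, nsmul_eq_mul, nsmul_eq_mul, ← mul_add, hconj]
    exact inv_mul_cancel_left₀ (card_ne_zero_complex N) _
  -- inner products
  have hinnerL : ∀ l (θ : G → ℂ), IsClassFunction G θ → classInner (L l) θ =
      ((q : ℂ) * d)⁻¹ * ∑ h : H, (l h : ℂ) * ∑ u : U, conj (θ ((u : G) * h)) := by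
    intro l θ hθ
    rw [show classInner (L l) θ = _ from classInner_indFun N _ hθ, classInner, hcN, sumN]
    simp only [hπ, hψ, Finset.mul_sum]
  have hLsum : ∀ m (h : H), ∑ u : U, conj (L m ((u : G) * h))
      = (q : ℂ) * ((m h : ℂ) + conj (m h : ℂ)) := by
    intro m h
    by_cases hh : h = 1
    · subst hh
      rw [← Finset.add_sum_erase _ _ (Finset.mem_univ (1 : U)), Finset.sum_congr rfl
        (fun u hu => by
          rw [OneMemClass.coe_one, mul_one, hLU m u (Finset.ne_of_mem_erase hu), map_one])]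
      simp [hLone, hqdef, Nat.card_eq_fintype_card, Finset.card_erase_of_mem,
        Nat.cast_sub (Fintype.card_pos (α := U))]
      ring
    · rw [Finset.sum_congr rfl fun u _ => by rw [hcf _ (hLcf m) u h hh, hLH m h hh, map_add,
        Complex.conj_conj]]
      rw [Finset.sum_const, Finset.card_univ, nsmul_eq_mul, ← Nat.card_eq_fintype_card, add_comm]
  haveI : Finite (H →* ℂˣ) := Finite.of_injective (lin (H := H)) fun a b e =>
    MonoidHom.ext fun g => Units.ext (congrFun (congrArg Subtype.val e) g)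
  haveI := Fintype.ofFinite (H →* ℂˣ)
  have hLL : ∀ l m, classInner (L l) (L m) =
      (if l = m then 1 else 0) + if l = m⁻¹ then 1 else 0 := by
    intro l m
    rw [hinnerL l _ (hLcf m)]
    simp only [hLsum, mul_add, Finset.sum_add_distrib, mul_left_comm (_ : ℂ) (q : ℂ),
      ← Finset.mul_sum, sum_hom_mul, sum_hom_mul_conj, hd]
    split_ifs <;> field_simp <;> norm_num
  have hlinv : ∀ l : H →* ℂˣ, l = l⁻¹ → l = 1 := fun l e => MonoidHom.ext fun h => by
    have h1 : l h * l h = 1 := by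
      nth_rewrite 1 [e]; rw [MonoidHom.inv_apply, inv_mul_cancel]
    have h2 : l h ^ d = 1 := by rw [← hd, ← map_pow, pow_card_eq_one', map_one]
    rwa [he, pow_succ, pow_mul, pow_two, h1, one_pow, one_mul] at h2
  have hi1 : (1 : H →* ℂˣ)⁻¹ = 1 := MonoidHom.ext fun _ => inv_one
  have hii : ∀ l : H →* ℂˣ, l⁻¹⁻¹ = l := fun l => MonoidHom.ext fun _ => inv_inv _
  let one : G → ℂ := fun _ => 1
  have h1irr : IsIrrCharacter G one := isIrrCharacter_one
  have hL1 : ∀ l, classInner (L l) one = if l = 1 then 1 else 0 := by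
    intro l
    rw [hinnerL l _ (fun _ _ => rfl)]
    have h0 := sum_hom_mul_conj l (1 : H →* ℂˣ)
    simp only [MonoidHom.one_apply, Units.val_one, map_one, mul_one] at h0
    simp only [one, map_one, Finset.sum_const, Finset.card_univ, nsmul_eq_mul, mul_one,
      ← Nat.card_eq_fintype_card, ← hqdef, ← Finset.sum_mul, h0, hd]
    split_ifs <;> field_simp <;> norm_num
  have hLirr : ∀ l, l ≠ 1 → IsIrrCharacter G (L l) := fun l hl =>
    isIrrCharacter_of_norm_one (hLch l) (by
      rw [hLL, if_pos rfl, if_neg fun e => hl (hlinv l e), add_zero])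
  have hLF : ∀ l i, classInner (L l) (F i) = (z i : ℂ) := by
    intro l i
    rw [classInner_indFun_right U _ (hLcf l), classInner, ← hqdef]
    have h3 : ∀ u : U, L l u * conj ((i.out.1 : U → ℂ) u) =
        conj ((i.out.1 : U → ℂ) u) + if u = 1 then (q : ℂ) * z i else 0 := by
      intro u
      split_ifs with hu
      · subst hu
        rw [OneMemClass.coe_one, hLone, hzone, map_natCast]; ring
      · rw [hLU l u hu, one_mul, add_zero]
    rw [Finset.sum_congr rfl fun u _ => h3 u, Finset.sum_add_distrib, hsum0 _ (hout i), zero_add,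
      Finset.sum_ite_eq', if_pos (Finset.mem_univ _), inv_mul_cancel_left₀ hq0]
  have h1F : ∀ i, classInner one (F i) = 0 := by
    intro i
    rw [classInner_indFun_right U _ (isClassFunction_of_isIrr h1irr), classInner]
    simp only [one, one_mul, hsum0 _ (hout i), mul_zero]
  choose nat hnat using fun (θ : IrrCharacter G) (i : ι) =>
    classInner_natCast (isCharacter_of_isIrr θ.2) (hFch i)
  let inR : IrrCharacter G → Prop := fun θ => ∀ l, classInner (θ : G → ℂ) (L l) = 0
  let A : IrrCharacter G → ι → ℕ := fun θ i => if inR θ then nat θ i else 0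
  let θone : IrrCharacter G := ⟨one, h1irr⟩
  have hn1 : ∀ i, nat θone i = 0 := fun i =>
    Nat.cast_injective (R := ℂ) ((hnat θone i).symm.trans ((h1F i).trans Nat.cast_zero.symm))
  -- the second constituent of `L 1`
  choose m hm using fun θ : IrrCharacter G =>
    classInner_natCast (isCharacter_of_isIrr θ.2) (hLch 1)
  have hm1 : m θone = 1 := by
    apply Nat.cast_injective (R := ℂ)
    rw [← hm, classInner_conj_symm, show classInner (L 1) (θone : G → ℂ) = _ from hL1 1, if_pos rfl,
      map_one, Nat.cast_one]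
  have hmsq : ∑ θ : IrrCharacter G, m θ * m θ = 2 := by
    apply Nat.cast_injective (R := ℂ)
    have h1 := classInner_eq_sum (φ := L 1) (hLcf 1)
    rw [hLL, if_pos rfl, hi1, if_pos rfl] at h1
    push_cast
    rw [show (2 : ℂ) = 1 + 1 by norm_num, h1]
    refine Finset.sum_congr rfl fun θ _ => ?_
    rw [classInner_conj_symm (θ : G → ℂ) (L 1), hm]
    simp
  obtain ⟨θ₀, hθ₀ne, hθ₀, hother⟩ : ∃ θ₀, θ₀ ≠ θone ∧ m θ₀ = 1 ∧
      ∀ θ, θ ≠ θone → θ ≠ θ₀ → m θ = 0 := by
    rw [← Finset.add_sum_erase _ _ (Finset.mem_univ θone), hm1] at hmsq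
    obtain ⟨θ₀, hθ₀, hne⟩ := Finset.exists_ne_zero_of_sum_ne_zero
      (show ∑ θ ∈ Finset.univ.erase θone, m θ * m θ ≠ 0 by omega)
    rw [← Finset.add_sum_erase _ _ hθ₀] at hmsq
    have h0 : m θ₀ ≠ 0 := fun h => hne (by simp [h])
    have h1 : m θ₀ = 1 := by
      by_contra h
      have : 2 * 2 ≤ m θ₀ * m θ₀ := Nat.mul_le_mul (by omega) (by omega)
      omega
    rw [h1] at hmsq
    refine ⟨θ₀, Finset.ne_of_mem_erase hθ₀, h1, fun θ hθ hθ' => ?_⟩
    have hz := Finset.sum_eq_zero_iff.mp (show ∑ θ ∈ (Finset.univ.erase θone).erase θ₀,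
      m θ * m θ = 0 by omega) θ (Finset.mem_erase.mpr ⟨hθ', Finset.mem_erase.mpr ⟨hθ, Finset.mem_univ _⟩⟩)
    exact (mul_self_eq_zero.mp hz)
  have hnθ₀ : ∀ i, nat θ₀ i = z i := by
    intro i
    apply Nat.cast_injective (R := ℂ)
    have h1 := classInner_eq_sum (φ := L 1) (hFcf i)
    rw [hLF, Finset.sum_eq_single θ₀] at h1
    · rw [classInner_conj_symm (θ₀ : G → ℂ) (L 1), hm, hθ₀, ← classInner_conj_symm (F i)
        (θ₀ : G → ℂ), hnat] at h1
      simpa using h1.symm
    · intro θ _ hne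
      by_cases h : θ = θone
      · subst h
        rw [← classInner_conj_symm (F i) (θone : G → ℂ), hnat, hn1, Nat.cast_zero, mul_zero]
      · rw [classInner_conj_symm (θ : G → ℂ) (L 1), hm, hother θ h hne, Nat.cast_zero, map_zero,
          zero_mul]
    · exact fun h => absurd (Finset.mem_univ _) h
  -- the characters outside the span of the exceptional ones
  let S : G → ℂ := ∑ l : H →* ℂˣ, L l
  have hScf : IsClassFunction G S := isClassFunction_sum _ _ fun l _ => hLcf l
  have hSL : ∀ l, classInner (L l) S = 2 := fun l => by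
    rw [classInner_sum_right, Finset.sum_congr rfl fun k _ => hLL l k, Finset.sum_add_distrib,
      Finset.sum_ite_eq, if_pos (Finset.mem_univ _)]
    rw [Finset.sum_congr rfl fun (k : H →* ℂˣ) _ => show (if l = k⁻¹ then (1 : ℂ) else 0) =
      if k = l⁻¹ then (1 : ℂ) else 0 from if_congr ⟨fun e => by rw [e, hii],
        fun e => by rw [e, hii]⟩ rfl rfl, Finset.sum_ite_eq', if_pos (Finset.mem_univ _)]
    norm_num
  have hcardH : (Fintype.card (H →* ℂˣ) : ℂ) = d := by
    letI : CommGroup H := { (inferInstance : Group H) with mul_comm := hHc.is_comm.comm }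
    have : NeZero (Monoid.exponent H) := ⟨Monoid.exponent_ne_zero_of_finite⟩
    have : NeZero (Monoid.exponent H : ℂ) := NeZero.charZero
    rw [← Nat.card_eq_fintype_card, CommGroup.card_monoidHom_of_hasEnoughRootsOfUnity, hd]
  have hLtheta : ∀ θ : IrrCharacter G, ¬ inR θ → θ ≠ θone → θ ≠ θ₀ →
      ∃ l, l ≠ 1 ∧ (θ : G → ℂ) = L l := by
    intro θ hR h1 h0
    obtain ⟨l, hl⟩ := not_forall.mp hR
    refine ⟨l, fun e => hl ?_, ?_⟩
    · subst e; rw [hm, hother θ h1 h0, Nat.cast_zero]
    · by_contra h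
      by_cases hl1 : l = 1
      · subst hl1; exact hl (by rw [hm, hother θ h1 h0, Nat.cast_zero])
      · exact hl (classInner_irr_ne θ.2 (hLirr l hl1) h)
  have hθ₀R : ¬ inR θ₀ := fun h => by
    have := h 1
    rw [hm, hθ₀, Nat.cast_one] at this
    exact one_ne_zero this
  have hθ1R : ¬ inR θone := fun h => by
    have := h 1
    rw [hm, hm1, Nat.cast_one] at this
    exact one_ne_zero this
  let W := Finset.univ.filter fun θ : IrrCharacter G => ¬ inR θ ∧ θ ≠ θone
  have hθ₀W : θ₀ ∈ W := Finset.mem_filter.mpr ⟨Finset.mem_univ _, hθ₀R, hθ₀ne⟩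
  have hWn : ∀ θ ∈ W, ∀ i, nat θ i = z i := by
    intro θ hθ i
    obtain ⟨-, hR, h1⟩ := Finset.mem_filter.mp hθ
    by_cases h0 : θ = θ₀
    · rw [h0]; exact hnθ₀ i
    obtain ⟨l, -, hl⟩ := hLtheta θ hR h1 h0
    apply Nat.cast_injective (R := ℂ)
    rw [← hnat, hl, hLF]
  have hWcard : W.card = e + 1 := by
    have hSS : classInner S S = 2 * (d : ℂ) := by
      rw [classInner_sum_left, Finset.sum_congr rfl fun l _ => hSL l, Finset.sum_const,
        Finset.card_univ, nsmul_eq_mul, hcardH, mul_comm]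
    have hc0 : classInner (θ₀ : G → ℂ) S = 1 := by
      rw [classInner_sum_right, Finset.sum_eq_single (1 : H →* ℂˣ) (fun l _ hl => ?_) (by simp),
        hm, hθ₀, Nat.cast_one]
      refine classInner_irr_ne θ₀.2 (hLirr l hl) fun h => ?_
      have h2 := hm θ₀
      rw [h, hLL, if_neg hl, if_neg (by rwa [hi1]), hθ₀, add_zero, Nat.cast_one] at h2
      exact zero_ne_one h2
    have hc1 : classInner (θone : G → ℂ) S = 1 := by
      rw [classInner_sum_right, Finset.sum_congr rfl fun l _ => by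
        rw [classInner_conj_symm (L l) (θone : G → ℂ),
          show classInner (L l) (θone : G → ℂ) = _ from hL1 l]]
      simp [apply_ite (starRingEnd ℂ)]
    have h1 := classInner_eq_sum (φ := S) hScf
    rw [hSS, ← Finset.add_sum_erase _ _ (Finset.mem_univ θone),
      ← Finset.sum_subset (show W ⊆ Finset.univ.erase θone from fun θ hθ =>
        Finset.mem_erase.mpr ⟨(Finset.mem_filter.mp hθ).2.2, Finset.mem_univ _⟩) (fun θ hθ hW => by
        have hR : inR θ := by
          by_contra h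
          exact hW (Finset.mem_filter.mpr ⟨Finset.mem_univ _, h, Finset.ne_of_mem_erase hθ⟩)
        rw [classInner_conj_symm (θ : G → ℂ) S, classInner_sum_right,
          Finset.sum_eq_zero fun l _ => hR l, map_zero, zero_mul]),
      ← Finset.add_sum_erase _ _ hθ₀W, Finset.sum_congr rfl (s₁ := W.erase θ₀) fun θ hθ => by
        obtain ⟨-, hR, hθ1⟩ := Finset.mem_filter.mp (Finset.mem_of_mem_erase hθ)
        obtain ⟨l, -, hl⟩ := hLtheta θ hR hθ1 (Finset.ne_of_mem_erase hθ)
        rw [classInner_conj_symm (θ : G → ℂ) S, hl, hSL],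
      classInner_conj_symm (θone : G → ℂ) S, classInner_conj_symm (θ₀ : G → ℂ) S, hc0, hc1] at h1
    simp only [map_one, map_ofNat, mul_one, Finset.sum_const, nsmul_eq_mul] at h1
    have h2 : 2 * d = 1 + (1 + (W.erase θ₀).card * (2 * 2)) := by exact_mod_cast h1
    rw [Finset.card_erase_of_mem hθ₀W] at h2
    have := Finset.card_pos.mpr ⟨θ₀, hθ₀W⟩
    omega
  have hgram : ∀ i j : ι, ∑ θ : IrrCharacter G, (A θ i : ℤ) * A θ j =
      (if i = j then 1 else 0) + e * z i * z j := by
    intro i j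
    have h1 := classInner_eq_sum (φ := F i) (hFcf j)
    rw [hFF, Finset.sum_congr rfl fun θ _ => by
      rw [classInner_conj_symm (θ : G → ℂ) (F i), hnat, ← classInner_conj_symm (F j) (θ : G → ℂ),
        hnat, map_natCast, ← Nat.cast_mul]] at h1
    have h2 : ∀ θ : IrrCharacter G, nat θ i * nat θ j =
        A θ i * A θ j + if θ ∈ W then z i * z j else 0 := by
      intro θ
      by_cases hW : θ ∈ W
      · rw [if_pos hW, hWn θ hW, hWn θ hW]
        simp [A, (Finset.mem_filter.mp hW).2.1]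
      · rw [if_neg hW, add_zero]
        by_cases hR : inR θ
        · simp [A, hR]
        · rw [show θ = θone by
            by_contra h; exact hW (Finset.mem_filter.mpr ⟨Finset.mem_univ _, hR, h⟩)]
          simp [A, hθ1R, hn1]
    have h3 : (((if i = j then 1 else 0) + d * z i * z j : ℕ) : ℂ) =
        ((∑ θ : IrrCharacter G, A θ i * A θ j) + W.card * (z i * z j) : ℕ) := by
      have h4 : ∑ θ : IrrCharacter G, nat θ i * nat θ j =
          (∑ θ : IrrCharacter G, A θ i * A θ j) + W.card * (z i * z j) := by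
        rw [Finset.sum_congr rfl fun θ _ => h2 θ, Finset.sum_add_distrib, Finset.sum_ite_mem,
          Finset.univ_inter, Finset.sum_const, smul_eq_mul]
      rw [← h4]
      push_cast
      rw [h1]
      push_cast
      rfl
    have h5 := congrArg (fun x : ℕ => (x : ℤ)) (Nat.cast_injective (R := ℂ) h3)
    push_cast at h5
    rw [hWcard, he] at h5
    push_cast at h5
    linarith [show ((2 : ℤ) * e + 1) * z i * z j = e * z i * z j + (e + 1) * (z i * z j) by ring]
  obtain ⟨θ, c, hc, hrow⟩ := coh_all A z e he1 (fun i => charDegree_pos i.out.1.2) hgram hlin' hbig'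
  -- the degree of that character
  have hne : Nonempty ι := by
    obtain ⟨i, -⟩ := Finset.card_pos.mp (show 0 < (Finset.univ.filter fun i => z i = 1).card by omega)
    exact ⟨i⟩
  have hR : inR θ := by
    by_contra h
    obtain ⟨i⟩ := hne
    have h1 := hrow i
    simp only [A, if_neg h] at h1
    exact Nat.mul_ne_zero hc (charDegree_pos i.out.1.2).ne' h1.symm
  have hf0 : ∑ u : U, (θ : G → ℂ) u = 0 := by
    have hθcf := isClassFunction_of_isIrr θ.2
    have hz : (fun h : H => conj (∑ u : U, conj ((θ : G → ℂ) ((u : G) * h)))) = 0 := by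
      refine eq_zero_of_forall_classInner_eq_zero (fun g h => ?_) fun χ' hχ' => ?_
      · have : h * g * h⁻¹ = g := by rw [hHc.is_comm.comm h g, mul_inv_cancel_right]
        rw [this]
      · obtain ⟨l, hl⟩ := (lin_bijective fun a b : H => hHc.is_comm.comm a b).2 ⟨χ', hχ'⟩
        have hl' : χ' = fun h : H => (l h : ℂ) := (congrArg Subtype.val hl).symm
        have h1 := hR l
        rw [classInner_conj_symm, hinnerL l _ hθcf, map_eq_zero,
          mul_eq_zero, or_iff_right (inv_ne_zero (mul_ne_zero hq0 hd0))] at h1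
        rw [classInner_conj_symm, hl', classInner, map_eq_zero, mul_eq_zero]
        right
        rw [← h1]
        exact Finset.sum_congr rfl fun h _ => by rw [Complex.conj_conj]
    have := congrFun hz 1
    simpa [map_sum] using this
  have hdegθ : (θ : G → ℂ) 1 = (d : ℂ) * c * ∑ i, ((z i : ℂ)) ^ 2 := by
    have hθcf := isClassFunction_of_isIrr θ.2
    have hres := congrFun (eq_sum_classInner_smul (G := U) (φ := fun u : U => (θ : G → ℂ) u)
      (fun g h => by
        show (θ : G → ℂ) _ = (θ : G → ℂ) g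
        simp only [Subgroup.coe_mul, Subgroup.coe_inv]
        exact hθcf _ _)) 1
    simp only [Finset.sum_apply, Pi.smul_apply, smul_eq_mul, OneMemClass.coe_one] at hres
    rw [sum_irr_orbits one1 rep hrepinj hrepne hrepsurj] at hres
    have h0 : classInner (fun u : U => (θ : G → ℂ) u) (one1 : U → ℂ) = 0 := by
      simp [classInner, one1, hf0]
    have hgi : ∀ i h, classInner (fun u : U => (θ : G → ℂ) u) (rep (i, h) : U → ℂ) = (nat θ i : ℂ) := by
      intro i h
      rw [← hnat, classInner_indFun_right U _ hθcf]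
      simp only [classInner]
      congr 1
      refine Fintype.sum_bijective (hK.conjU h)
        (Finite.surjective_iff_bijective.mp (hK.conjU_surjective h)) _ _ fun u => ?_
      rw [hrepapp]
      congr 1
      have := hθcf (u : G) (h : G)⁻¹
      simpa [IsKernel.conjU] using this.symm
    rw [hres, h0, zero_mul, zero_add, Finset.mul_sum]
    refine Finset.sum_congr rfl fun i _ => ?_
    have hA : (nat θ i : ℂ) = (c : ℂ) * z i := by
      have := hrow i
      simp only [A, if_pos hR] at this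
      rw [this]; push_cast; rfl
    simp only [hgi, hA, hrepapp, map_one, hzone, Finset.sum_const, Finset.card_univ,
      ← Nat.card_eq_fintype_card, hd, nsmul_eq_mul]
    ring
  set T2 := ∑ i, z i ^ 2 with hT2def
  have h1 := charDegree_dvd_card θ.2
  have h2 : charDegree (θ : G → ℂ) = d * c * T2 := by
    apply Nat.cast_injective (R := ℂ)
    rw [← apply_one_eq_charDegree (isCharacter_of_isIrr θ.2), hdegθ, hT2def]
    push_cast; rfl
  rw [h2, hcG, mul_assoc d, mul_comm ((q + 1) * q)] at h1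
  have h3 : T2 ∣ (q + 1) * q :=
    (Dvd.intro_left _ rfl).trans (Nat.dvd_of_mul_dvd_mul_left (by omega) h1)
  have h4 : Nat.Coprime T2 q := by
    rw [hT2, mul_comm]
    exact ((Nat.coprime_add_mul_left_right T2 1 d).mpr (Nat.coprime_one_right _))
  have h5 : T2 ∣ q + 1 := h4.dvd_of_dvd_mul_right h3
  rw [hT2, add_comm 1 (d * T2), add_assoc] at h5
  have h6 : T2 ∣ 2 := (Nat.dvd_add_right (dvd_mul_left T2 d)).mp h5
  have h7 := Nat.le_of_dvd two_pos h6
  have h8 : d * T2 ≤ d * 2 := Nat.mul_le_mul_left d h7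
  omega

end Cfsg.Agent.Lib.Zass
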