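import Cfsg.Agent.Lib.Classical.PGLTwo
import Cfsg.Agent.Lib.Classical.Order
import Mathlib.Logic.Equiv.Option

/-!
Recognising `PGL(2, K)` and `PSL(2, K)` from a generating set of a permutation group of degree
`|K| + 1` which, in suitable coordinates, consists of Möbius maps.
-/

set_option autoImplicit false

namespace Cfsg.Agent.Lib.Zass

open Matrix Projectivization
open scoped LinearAlgebra.Projectivization MatrixGroups

variable {K : Type*} [Field K]

/-- The point with affine coordinate `x` (`none` is the point at infinity). -/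
def pt : Option K → ℙ K (Fin 2 → K)
  | none => Projectivization.mk K ![1, 0] (fun h => one_ne_zero (congrFun h 0))
  | some x => Projectivization.mk K ![x, 1] (fun h => one_ne_zero (congrFun h 1))

theorem pt_injective : Function.Injective (pt (K := K)) := by
  rintro (_ | x) (_ | y) h
  · rfl
  all_goals
    simp only [pt, Projectivization.mk_eq_mk_iff'] at h
    obtain ⟨c, hc⟩ := h
    have h0 := congrFun hc 0
    have h1 := congrFun hc 1
    simp at h0 h1 <;> simp_all

variable [Fintype K]

theorem pt_bijective : Function.Bijective (pt (K := K)) := by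
  refine (Nat.bijective_iff_injective_and_card _).mpr ⟨pt_injective, ?_⟩
  rw [Projectivization.card_of_finrank_two K (Fin 2 → K) (Module.finrank_fin_fun K),
    Finite.card_option]

/-- The line `K ∪ {∞}` as the projective line. -/
noncomputable def ptEquiv : Option K ≃ ℙ K (Fin 2 → K) := Equiv.ofBijective pt pt_bijective

/-- A permutation of the projective line carried to coordinates. -/
noncomputable def toLine {M : Type*} [Group M] [MulAction M (ℙ K (Fin 2 → K))] :
    M →* Equiv.Perm (Option K) :=
  (ptEquiv (K := K)).symm.permCongrHom.toMonoidHom.comp (MulAction.toPermHom M _)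

theorem toLine_apply {M : Type*} [Group M] [MulAction M (ℙ K (Fin 2 → K))] (m : M)
    {x y : Option K} (h : m • pt x = pt y) : toLine m x = y := by
  show (ptEquiv (K := K)).symm (m • ptEquiv x) = y
  rw [Equiv.symm_apply_eq]
  exact h

theorem pgl_faithful :
    Function.Injective (toLine (K := K) (M := PGL(Fin 2, K))) := by
  rw [injective_iff_map_eq_one]
  intro g hg
  have hfix : ∀ p : ℙ K (Fin 2 → K), g • p = p := by
    intro p
    obtain ⟨x, rfl⟩ := (ptEquiv (K := K)).surjective p
    have h1 : (ptEquiv (K := K)).symm (g • ptEquiv x) = x := Equiv.ext_iff.mp hg x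
    exact (Equiv.symm_apply_eq _).mp h1
  obtain ⟨h1, h2, h3⟩ := Classical.frame_ne (F := K)
  exact Classical.PGL_two_eq_one_of_three_fixed g _ _ _ h1 h2 h3 (hfix _) (hfix _) (hfix _)

theorem psl_faithful :
    Function.Injective (toLine (K := K) (M := ProjectiveSpecialLinearGroup (Fin 2) K)) := by
  intro g h hgh
  refine Matrix.ProjectiveSpecialLinearGroup.toPermHom_injective (Equiv.ext fun p => ?_)
  obtain ⟨x, rfl⟩ := (ptEquiv (K := K)).surjective p
  exact (ptEquiv (K := K)).symm.injective (Equiv.ext_iff.mp hgh x)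

/-- `x ↦ a x + b` on `K ∪ {∞}`. -/
def affine (a b : K) : Option K → Option K
  | none => none
  | some x => some (a * x + b)

/-- `x ↦ e / x` on `K ∪ {∞}`. -/
noncomputable def recip (e : K) : Option K → Option K
  | none => some 0
  | some x => open scoped _root_.Classical in if x = 0 then none else some (e / x)

theorem mk_eq {v w : Fin 2 → K} (hv : v ≠ 0) (hw : w ≠ 0) (c : K) (h0 : c * w 0 = v 0)
    (h1 : c * w 1 = v 1) : Projectivization.mk K v hv = Projectivization.mk K w hw :=
  Classical.proj_mk_eq hv hw c (funext (Fin.forall_fin_two.mpr ⟨h0, h1⟩))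

theorem pgl_affine {a : K} (ha : a ≠ 0) (b : K) :
    ∃ g : PGL(Fin 2, K), ∀ x, toLine g x = affine a b x := by
  refine ⟨.mk (GeneralLinearGroup.mkOfDetNeZero !![a, b; 0, 1] (by simp [det_fin_two_of, ha])),
    fun x => toLine_apply _ ?_⟩
  rcases x with _ | x <;> simp only [affine, pt, Projectivization.PGL.mk_smul_mk]
  · exact mk_eq _ _ a (by simp [Matrix.mulVec, dotProduct, Fin.sum_univ_two, Matrix.SpecialLinearGroup.smul_def])
      (by simp [Matrix.mulVec, dotProduct, Fin.sum_univ_two, Matrix.SpecialLinearGroup.smul_def])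
  · exact mk_eq _ _ 1 (by simp [Matrix.mulVec, dotProduct, Fin.sum_univ_two, Matrix.SpecialLinearGroup.smul_def])
      (by simp [Matrix.mulVec, dotProduct, Fin.sum_univ_two, Matrix.SpecialLinearGroup.smul_def])

theorem pgl_recip {e : K} (he : e ≠ 0) :
    ∃ g : PGL(Fin 2, K), ∀ x, toLine g x = recip e x := by
  classical
  refine ⟨.mk (GeneralLinearGroup.mkOfDetNeZero !![0, e; 1, 0] (by simp [det_fin_two_of, he])),
    fun x => toLine_apply _ ?_⟩
  rcases x with _ | x <;> simp only [recip]
  · simp only [pt, Projectivization.PGL.mk_smul_mk]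
    exact mk_eq _ _ 1 (by simp [Matrix.mulVec, dotProduct, Fin.sum_univ_two, Matrix.SpecialLinearGroup.smul_def])
      (by simp [Matrix.mulVec, dotProduct, Fin.sum_univ_two, Matrix.SpecialLinearGroup.smul_def])
  · split_ifs with hx
    · subst hx
      simp only [pt, Projectivization.PGL.mk_smul_mk]
      exact mk_eq _ _ e (by simp [Matrix.mulVec, dotProduct, Fin.sum_univ_two, Matrix.SpecialLinearGroup.smul_def])
        (by simp [Matrix.mulVec, dotProduct, Fin.sum_univ_two, Matrix.SpecialLinearGroup.smul_def])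
    · simp only [pt, Projectivization.PGL.mk_smul_mk]
      exact mk_eq _ _ x (by simp [Matrix.mulVec, dotProduct, Fin.sum_univ_two, Matrix.SpecialLinearGroup.smul_def]; field_simp)
        (by simp [Matrix.mulVec, dotProduct, Fin.sum_univ_two, Matrix.SpecialLinearGroup.smul_def])

theorem psl_smul (g : SpecialLinearGroup (Fin 2) K) {v : Fin 2 → K} (hv : v ≠ 0)
    (hgv : (g : Matrix (Fin 2) (Fin 2) K) *ᵥ v ≠ 0) :
    (g : ProjectiveSpecialLinearGroup (Fin 2) K) • Projectivization.mk K v hv =
      Projectivization.mk K ((g : Matrix (Fin 2) (Fin 2) K) *ᵥ v) hgv := rfl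

theorem psl_ne (g : SpecialLinearGroup (Fin 2) K) {v : Fin 2 → K} (hv : v ≠ 0) :
    (g : Matrix (Fin 2) (Fin 2) K) *ᵥ v ≠ 0 := fun h => hv (by
  by_contra hne
  have h1 := Matrix.exists_mulVec_eq_zero_iff.mp ⟨v, hne, h⟩
  rw [g.det_coe] at h1
  exact one_ne_zero h1)

theorem psl_affine {c : K} (hc : c ≠ 0) (b : K) :
    ∃ g : ProjectiveSpecialLinearGroup (Fin 2) K, ∀ x, toLine g x = affine (c * c) b x := by
  refine ⟨QuotientGroup.mk (⟨!![c, b / c; 0, c⁻¹], by simp [det_fin_two_of, hc]⟩ :
    SpecialLinearGroup (Fin 2) K), fun x => toLine_apply _ ?_⟩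
  rcases x with _ | x <;>
    simp only [affine, pt] <;> refine (psl_smul _ _ (psl_ne _ (by simp))).trans ?_
  · exact mk_eq _ _ c (by simp [Matrix.mulVec, dotProduct, Fin.sum_univ_two, Matrix.SpecialLinearGroup.smul_def])
      (by simp [Matrix.mulVec, dotProduct, Fin.sum_univ_two, Matrix.SpecialLinearGroup.smul_def])
  · exact mk_eq _ _ c⁻¹ (by simp [Matrix.mulVec, dotProduct, Fin.sum_univ_two, Matrix.SpecialLinearGroup.smul_def]; field_simp)
      (by simp [Matrix.mulVec, dotProduct, Fin.sum_univ_two, Matrix.SpecialLinearGroup.smul_def])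

theorem psl_recip :
    ∃ g : ProjectiveSpecialLinearGroup (Fin 2) K, ∀ x, toLine g x = recip (-1 : K) x := by
  classical
  refine ⟨QuotientGroup.mk (⟨!![0, -1; 1, 0], by simp [det_fin_two_of]⟩ :
    SpecialLinearGroup (Fin 2) K), fun x => toLine_apply _ ?_⟩
  rcases x with _ | x <;> simp only [recip]
  · simp only [pt]; refine (psl_smul _ _ (psl_ne _ (by simp))).trans ?_
    exact mk_eq _ _ 1 (by simp [Matrix.mulVec, dotProduct, Fin.sum_univ_two, Matrix.SpecialLinearGroup.smul_def])
      (by simp [Matrix.mulVec, dotProduct, Fin.sum_univ_two, Matrix.SpecialLinearGroup.smul_def])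
  · split_ifs with hx
    · subst hx
      simp only [pt]; refine (psl_smul _ _ (psl_ne _ (by simp))).trans ?_
      exact mk_eq _ _ (-1) (by simp [Matrix.mulVec, dotProduct, Fin.sum_univ_two, Matrix.SpecialLinearGroup.smul_def])
        (by simp [Matrix.mulVec, dotProduct, Fin.sum_univ_two, Matrix.SpecialLinearGroup.smul_def])
    · simp only [pt]; refine (psl_smul _ _ (psl_ne _ (by simp))).trans ?_
      exact mk_eq _ _ x (by simp [Matrix.mulVec, dotProduct, Fin.sum_univ_two, Matrix.SpecialLinearGroup.smul_def]; field_simp)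
        (by simp [Matrix.mulVec, dotProduct, Fin.sum_univ_two, Matrix.SpecialLinearGroup.smul_def])

variable {G Ω : Type*} [Group G] [MulAction G Ω] [FaithfulSMul G Ω]

omit [Fintype K] in
/-- `g` acts as `f` in the coordinates `e`. -/
def ActsAs (e : Option K ≃ Ω) (g : G) (f : Option K → Option K) : Prop :=
  ∀ x, g • e x = e (f x)

/-- If generators act as maps induced by a faithful group `M` of the same order, then `G ≃* M`. -/
theorem nonempty_iso {M : Type*} [Group M] [MulAction M (ℙ K (Fin 2 → K))] [Finite M]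
    (hM : Function.Injective (toLine (K := K) (M := M))) (e : Option K ≃ Ω) (S : Set G)
    (hS : Subgroup.closure S = ⊤) (hact : ∀ g ∈ S, ∃ m : M, ActsAs e g (toLine m))
    (hcard : Nat.card M ≤ Nat.card G) : Nonempty (G ≃* M) := by
  classical
  let φ : G →* Equiv.Perm (Option K) := e.symm.permCongrHom.toMonoidHom.comp (MulAction.toPermHom G Ω)
  have hφ : Function.Injective φ := e.symm.permCongrHom.injective.comp MulAction.toPerm_injective
  let T : Subgroup (Equiv.Perm (Option K)) := (toLine (K := K) (M := M)).range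
  have hle : φ.range ≤ T := by
    rw [MonoidHom.range_eq_map, ← hS, MonoidHom.map_closure]
    refine (Subgroup.closure_le _).mpr ?_
    rintro _ ⟨g, hg, rfl⟩
    obtain ⟨m, hm⟩ := hact g hg
    refine ⟨m, Equiv.ext fun x => ?_⟩
    show toLine m x = e.symm (g • e x)
    rw [hm x, Equiv.symm_apply_apply]
  have heq : φ.range = T := Subgroup.eq_of_le_of_card_ge hle (by
    rw [← Nat.card_congr (MonoidHom.ofInjective hM).toEquiv,
      ← Nat.card_congr (MonoidHom.ofInjective hφ).toEquiv]
    exact hcard)
  exact ⟨((MonoidHom.ofInjective hφ).trans (MulEquiv.subgroupCongr heq)).trans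
    (MonoidHom.ofInjective hM).symm⟩

theorem iso_pgl (e : Option K ≃ Ω) (S : Set G) (hS : Subgroup.closure S = ⊤)
    (hact : ∀ g ∈ S, (∃ a b : K, a ≠ 0 ∧ ActsAs e g (affine a b)) ∨
      ∃ d : K, d ≠ 0 ∧ ActsAs e g (recip d))
    (hcard : Fintype.card K * (Fintype.card K ^ 2 - 1) ≤ Nat.card G) :
    Nonempty (G ≃* PGL(Fin 2, K)) := by
  classical
  have : Finite (PGL(Fin 2, K)) := Finite.of_injective _ pgl_faithful
  refine nonempty_iso pgl_faithful e S hS (fun g hg => ?_) (Classical.card_PGL_two.trans_le hcard)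
  rcases hact g hg with ⟨a, b, ha, h⟩ | ⟨d, hd, h⟩
  · obtain ⟨m, hm⟩ := pgl_affine ha b
    exact ⟨m, fun x => by rw [h x, hm x]⟩
  · obtain ⟨m, hm⟩ := pgl_recip hd
    exact ⟨m, fun x => by rw [h x, hm x]⟩

theorem iso_psl (e : Option K ≃ Ω) (S : Set G) (hS : Subgroup.closure S = ⊤)
    (hact : ∀ g ∈ S, (∃ c b : K, c ≠ 0 ∧ ActsAs e g (affine (c * c) b)) ∨
      ActsAs e g (recip (-1 : K)))
    (hcard : Fintype.card K * (Fintype.card K ^ 2 - 1) ≤
      Nat.gcd 2 (Fintype.card K - 1) * Nat.card G) :
    Nonempty (G ≃* ProjectiveSpecialLinearGroup (Fin 2) K) := by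
  classical
  refine nonempty_iso psl_faithful e S hS (fun g hg => ?_) ?_
  · rcases hact g hg with ⟨c, b, hc, h⟩ | h
    · obtain ⟨m, hm⟩ := psl_affine hc b
      exact ⟨m, fun x => by rw [h x, hm x]⟩
    · obtain ⟨m, hm⟩ := psl_recip (K := K)
      exact ⟨m, fun x => by rw [h x, hm x]⟩
  · refine Nat.le_of_mul_le_mul_left ?_ (Nat.gcd_pos_of_pos_left (Fintype.card K - 1) two_pos)
    rw [Classical.card_PSL_two]
    exact hcard

end Cfsg.Agent.Lib.Zass
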