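import Cfsg.Agent.Lib.Zass.Coord
import Mathlib.FieldTheory.Finite.Basic

/-!
`PSL(2, q)` from a two-point stabiliser of order `(q - 1) / 2` inverted by a swapping involution.
-/

set_option autoImplicit false

namespace Cfsg.Agent.Lib.Zass

open MulAction

variable {K : Type*} [Field K] {G Ω : Type*} [Group G] [MulAction G Ω]

theorem actsAs_mul {e : Option K ≃ Ω} {g h : G} {φ ψ : Option K → Option K} (hg : ActsAs e g φ)
    (hh : ActsAs e h ψ) : ActsAs e (g * h) (φ ∘ ψ) := fun x => by
  rw [mul_smul, hh x, hg (ψ x)]; rfl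

theorem actsAs_congr {e : Option K ≃ Ω} {g : G} {φ ψ : Option K → Option K} (hg : ActsAs e g φ)
    (h : ∀ x, φ x = ψ x) : ActsAs e g ψ := fun x => by rw [hg x, h x]

theorem recip_some {d x : K} (hx : x ≠ 0) : recip d (some x) = some (d / x) := by
  simp [recip, hx]

theorem recip_zero (d : K) : recip d (some 0) = none := by
  simp [recip]

theorem exists_nonsquare_one_sub [Fintype K] (hK : ringChar K ≠ 2) (hm : IsSquare (-1 : K)) :
    ∃ x : K, x ≠ 0 ∧ ¬ IsSquare x ∧ x ≠ 1 ∧ IsSquare (1 - x) := by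
  classical
  by_contra hcon
  push Not at hcon
  obtain ⟨y, hy⟩ := FiniteField.exists_nonsquare hK
  have hy0 : y ≠ 0 := fun h => hy (h ▸ IsSquare.zero)
  let N : Finset K := Finset.univ.filter fun z => ¬ IsSquare z
  -- differences of squares and `y` are non-squares
  have hclosed : ∀ c : K, c ≠ 0 → ¬ IsSquare (c * c - y) := by
    intro c hc
    have h1 : ¬ IsSquare (y / (c * c)) := fun h => hy (by
      have := h.mul (show IsSquare (c * c) from ⟨c, rfl⟩)
      rwa [div_mul_cancel₀ _ (mul_ne_zero hc hc)] at this)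
    have h2 := hcon (y / (c * c)) (fun h => h1 (h ▸ IsSquare.zero)) h1
      (fun h => h1 (h ▸ IsSquare.one))
    intro h3
    apply h2
    have := h3.div (show IsSquare (c * c) from ⟨c, rfl⟩)
    rwa [sub_div, div_self (mul_ne_zero hc hc)] at this
  have hy2 : ∀ c : K, c ≠ 0 → ¬ IsSquare (y * (c * c)) := fun c hc h => hy (by
    have := h.div (show IsSquare (c * c) from ⟨c, rfl⟩)
    rwa [mul_div_cancel_right₀ _ (mul_ne_zero hc hc)] at this)
  -- compare `{y c²}` with `{c² - y}`: both lie in `N`, have the same size, and `-y` is extra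
  let S : Finset K := (Finset.univ.filter fun c : K => c ≠ 0).image fun c => c * c
  have hS1 : S.image (fun z => z - y) ⊆ N := by
    intro z hz
    simp only [S, Finset.mem_image, Finset.mem_filter, Finset.mem_univ, true_and] at hz
    obtain ⟨_, ⟨c, hc, rfl⟩, rfl⟩ := hz
    simpa [N] using hclosed c hc
  have hnegy : -y ∈ N := by
    simp only [N, Finset.mem_filter, Finset.mem_univ, true_and]
    exact fun h => hy (by simpa using h.mul hm)
  have hN : N ⊆ S.image (fun z => y * z) := by
    intro z hz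
    simp only [N, Finset.mem_filter, Finset.mem_univ, true_and] at hz
    have hz0 : z ≠ 0 := fun h => hz (h ▸ IsSquare.zero)
    obtain ⟨c, hc⟩ : IsSquare (z / y) := by
      rw [← quadraticChar_one_iff_isSquare (div_ne_zero hz0 hy0), div_eq_mul_inv, map_mul,
        quadraticChar_neg_one_iff_not_isSquare.mpr hz,
        quadraticChar_neg_one_iff_not_isSquare.mpr (show ¬ IsSquare y⁻¹ from fun h => hy (by
          simpa using h.inv))]
      norm_num
    simp only [S, Finset.mem_image, Finset.mem_filter, Finset.mem_univ, true_and]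
    refine ⟨c * c, ⟨c, fun h => ?_, rfl⟩, ?_⟩
    · rw [h, mul_zero] at hc; exact (div_ne_zero hz0 hy0) hc
    · rw [← hc, mul_div_cancel₀ _ hy0]
  have h1 : (insert (-y) (S.image fun z => z - y)).card ≤ N.card :=
    Finset.card_le_card (Finset.insert_subset hnegy hS1)
  have h2 : N.card ≤ S.card := (Finset.card_le_card hN).trans Finset.card_image_le
  rw [Finset.card_insert_of_notMem, Finset.card_image_of_injective _ (sub_left_injective)] at h1
  · omega
  · intro h
    simp only [S, Finset.mem_image, Finset.mem_filter, Finset.mem_univ, true_and] at h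
    obtain ⟨_, ⟨c, hc, rfl⟩, he⟩ := h
    exact hc (mul_self_eq_zero.mp (by linear_combination he))

variable [FaithfulSMul G Ω] [Finite G] [Finite Ω]

/-- The order of a transitive group with a regular subgroup in a point stabiliser. -/
theorem card_of_regular {a b : Ω} (hab : a ≠ b) [IsPretransitive G Ω] (U : Subgroup G)
    (hUa : U ≤ stabilizer G a) (hreg : ∀ y : Ω, y ≠ a → ∃! u : U, (u : G) • b = y) :
    Nat.card G =
      Nat.card Ω * (Nat.card U * Nat.card ↥(stabilizer G a ⊓ stabilizer G b)) := by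
  rw [← Subgroup.card_mul_index (stabilizer G a), index_stabilizer_of_transitive, mul_comm]
  congr 1
  set H := stabilizer G a ⊓ stabilizer G b
  rw [← Nat.card_prod]
  refine (Nat.card_congr (Equiv.ofBijective
    (fun q : U × H => (⟨q.1 * q.2, mul_mem (hUa q.1.2) q.2.2.1⟩ : stabilizer G a)) ?_)).symm
  constructor
  · rintro ⟨u, h⟩ ⟨u', h'⟩ hq
    have hq' : (u : G) * h = (u' : G) * h' := congrArg Subtype.val hq
    have hu : u = u' := by
      refine (hreg ((u : G) • b) fun hh => hab ?_).unique rfl ?_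
      · exact MulAction.injective (u : G) ((hUa u.2 : _).trans hh.symm)
      · have := congrArg (· • b) hq'
        simpa [mul_smul, show (h : G) • b = b from h.2.2, show (h' : G) • b = b from h'.2.2]
          using this.symm
    subst hu
    exact Prod.ext rfl (Subtype.ext (mul_left_cancel hq'))
  · rintro ⟨g, hg⟩
    obtain ⟨u, hu, -⟩ := hreg (g • b) fun hh => hab (MulAction.injective g (hh.trans hg.symm)).symm
    refine ⟨(u, ⟨(u : G)⁻¹ * g, (mul_mem (inv_mem (hUa u.2)) hg : (u : G)⁻¹ * g ∈ stabilizer G a), ?_⟩), Subtype.ext (mul_inv_cancel_left _ _)⟩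
    show ((u : G)⁻¹ * g) • b = b
    rw [mul_smul, inv_smul_eq_iff, hu]

/-- Coordinates for a group inverted by a swap. -/
theorem coords_of_inverted {p f : ℕ} (hp : p.Prime) (hf : f ≠ 0) {a b : Ω} (hab : a ≠ b)
    (hfix : ∀ g : G, g • a = a → g • b = b → ∀ x, x ≠ a → x ≠ b → g • x = x → g = 1)
    [IsPretransitive G Ω] (U : Subgroup G) (hUa : U ≤ stabilizer G a)
    (hUn : ∀ g ∈ stabilizer G a, ∀ u ∈ U, g * u * g⁻¹ ∈ U) (hUc : IsMulCommutative U)
    (hcard : Nat.card U = p ^ f)
    (hreg : ∀ y : Ω, y ≠ a → ∃! u : U, (u : G) • b = y)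
    (hd : 2 * Nat.card ↥(stabilizer G a ⊓ stabilizer G b) = p ^ f - 1)
    (s : G) (hsa : s • a = b) (hsb : s • b = a) (hs2 : s * s = 1)
    (hinv : ∀ h ∈ stabilizer G a ⊓ stabilizer G b, s * h * s⁻¹ = h⁻¹) :
    ∃ (K : Type) (_ : Field K) (_ : Fintype K) (e : Option K ≃ Ω), Fintype.card K = p ^ f ∧
      ringChar K ≠ 2 ∧ e none = a ∧ e (some 0) = b ∧
      (∀ u ∈ U, ∃ z : K, ActsAs e u (affine 1 z)) ∧ (∀ z : K, ∃ u ∈ U, ActsAs e u (affine 1 z)) ∧
      (∀ h ∈ stabilizer G a ⊓ stabilizer G b, ∃ c : K, c ≠ 0 ∧ ActsAs e h (affine (c * c) 0)) ∧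
      (∀ c : K, c ≠ 0 →
        ∃ h ∈ stabilizer G a ⊓ stabilizer G b, ActsAs e h (affine (c * c) 0)) ∧
      ∃ s' : G, s' • a = b ∧ ActsAs e s' (recip (-1 : K)) := by
  classical
  set H := stabilizer G a ⊓ stabilizer G b with hH
  have hHc : IsMulCommutative H := ⟨⟨fun h k => Subtype.ext (inv_injective (by
    have e : s * ((h : G) * k) * s⁻¹ = (h : G)⁻¹ * (k : G)⁻¹ := by
      rw [← hinv _ h.2, ← hinv _ k.2]; group
    rw [Subgroup.coe_mul, Subgroup.coe_mul, ← hinv _ (mul_mem h.2 k.2), e, mul_inv_rev]))⟩⟩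
  have hHfree : ∀ h ∈ H, ∀ x, x ≠ a → x ≠ b → h • x = x → h = 1 := fun h hh => hfix h hh.1 hh.2
  have hdpos : 0 < Nat.card H := Nat.card_pos
  have : Fintype H := Fintype.ofFinite H
  obtain ⟨K, _, _, e, hKc, hea, heb, hUact, hUsurj, hlin⟩ :=
    exists_coords hp hf hab U H hUa hUn hUc hcard hreg le_rfl hHc hHfree hd.ge
  have hKodd : ringChar K ≠ 2 := by
    intro h2
    have := FiniteField.even_card_iff_char_two.mp h2
    rw [hKc] at this
    omega
  have hhalf : Fintype.card K / 2 = Nat.card H := by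
    rw [hKc]; omega
  -- multipliers of `H`
  have hHact : ∀ h : H, ∃ c : K, c ≠ 0 ∧ ActsAs e (h : G) (affine c 0) := fun h =>
    hlin h h.2.1 h.2.2 fun k hk => congrArg Subtype.val (hHc.is_comm.comm h ⟨k, hk⟩)
  choose μ hμ0 hμ using hHact
  have hμone : ∀ (h : H) (x : K), (h : G) • e (some x) = e (some (μ h * x)) := fun h x => by
    rw [hμ h (some x)]; simp [affine]
  have hμinj : Function.Injective μ := fun h k hhk => Subtype.ext (eq_of_smul_eq_smul fun y => by
    obtain ⟨x, rfl⟩ := e.surjective y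
    rw [hμ h x, hμ k x, hhk])
  have hμpow : ∀ (h : H) (n : ℕ) (x : K), ((h : G) ^ n) • e (some x) = e (some (μ h ^ n * x)) := by
    intro h n
    induction n with
    | zero => simp
    | succ n ih => intro x; rw [pow_succ, mul_smul, hμone, ih, pow_succ, mul_assoc]
  have hμsq : ∀ h, IsSquare (μ h) := by
    intro h
    rw [FiniteField.isSquare_iff hKodd (hμ0 h), hhalf]
    have := hμpow h (Nat.card H) 1
    rw [← Subgroup.coe_pow, pow_card_eq_one', Subgroup.coe_one, one_smul, mul_one] at this
    exact (Option.some.inj (e.injective this)).symm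
  have hsurj : ∀ c : K, c ≠ 0 → IsSquare c → ∃ h, μ h = c := by
    let T : Finset K := Finset.univ.filter fun c => c ≠ 0 ∧ IsSquare c
    have himg : Finset.univ.image μ ⊆ T := fun c hc => by
      obtain ⟨h, -, rfl⟩ := Finset.mem_image.mp hc
      simp [T, hμ0 h, hμsq h]
    have hT : T.card ≤ Nat.card H := by
      have : T ⊆ ((Polynomial.X ^ Nat.card H - Polynomial.C (1 : K)).roots).toFinset := fun c hc => by
        simp only [T, Finset.mem_filter, Finset.mem_univ, true_and] at hc
        rw [Multiset.mem_toFinset, Polynomial.mem_roots (Polynomial.X_pow_sub_C_ne_zero hdpos 1)]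
        have := (FiniteField.isSquare_iff hKodd hc.1).mp hc.2
        rw [hhalf] at this
        simp only [Polynomial.IsRoot, Polynomial.eval_sub, Polynomial.eval_pow, Polynomial.eval_X,
          Polynomial.eval_C, this, sub_self]
      refine (Finset.card_le_card this).trans ((Multiset.toFinset_card_le _).trans ?_)
      exact (Polynomial.card_roots' _).trans (by rw [Polynomial.natDegree_X_pow_sub_C])
    have heq := Finset.eq_of_subset_of_card_le himg (by
      rw [Finset.card_image_of_injective _ hμinj, Finset.card_univ, ← Nat.card_eq_fintype_card]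
      exact hT)
    intro c h0 hsq
    have : c ∈ T := by simp [T, h0, hsq]
    rw [← heq] at this
    obtain ⟨h, -, hh⟩ := Finset.mem_image.mp this
    exact ⟨h, hh⟩
  -- the involution
  have hs0 : s • e (some 0) = e none := by rw [heb, hea, hsb]
  have hsn : s • e none = e (some 0) := by rw [heb, hea, hsa]
  have hσex : ∀ x : K, x ≠ 0 → ∃ y : K, y ≠ 0 ∧ s • e (some x) = e (some y) := by
    intro x hx
    rcases hy : e.symm (s • e (some x)) with _ | y <;> have hy' := e.symm_apply_eq.mp hy
    · rw [← hs0] at hy'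
      exact absurd (Option.some.inj (e.injective (smul_left_cancel s hy'))) hx
    · refine ⟨y, fun h0 => ?_, hy'⟩
      rw [h0, ← hsn] at hy'
      exact Option.some_ne_none x (e.injective (smul_left_cancel s hy'))
  choose! σ hσ0 hσ using hσex
  have hσσ : ∀ x, x ≠ 0 → σ (σ x) = x := fun x hx => by
    have := hσ (σ x) (hσ0 x hx)
    rw [← hσ x hx, smul_smul, hs2, one_smul] at this
    exact (Option.some.inj (e.injective this)).symm
  have hσc : ∀ (h : H) (x : K), x ≠ 0 → σ (μ h * x) = (μ h)⁻¹ * σ x := by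
    intro h x hx
    have hsh : s * (h : G) = (h : G)⁻¹ * s := by
      rw [← hinv _ h.2, inv_mul_cancel_right]
    have h1 : s • e (some (μ h * x)) = ((h : G)⁻¹) • e (some (σ x)) := by
      rw [← hμone, smul_smul, hsh, mul_smul, hσ x hx]
    rw [hσ _ (mul_ne_zero (hμ0 h) hx)] at h1
    have h2 := congrArg (fun y => (h : G) • y) h1
    simp only [smul_inv_smul] at h2
    rw [hμone] at h2
    rw [← Option.some.inj (e.injective h2), ← mul_assoc, inv_mul_cancel₀ (hμ0 h), one_mul]
  set A := σ 1 with hA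
  have hA0 : A ≠ 0 := hσ0 1 one_ne_zero
  have hσsq : ∀ x, x ≠ 0 → IsSquare x → σ x = A / x := by
    intro x hx hsq
    obtain ⟨h, rfl⟩ := hsurj x hx hsq
    have := hσc h 1 one_ne_zero
    rw [mul_one] at this
    rw [this, hA]; ring
  obtain ⟨w, hw⟩ := FiniteField.exists_nonsquare hKodd
  have hw0 : w ≠ 0 := fun h => hw (h ▸ IsSquare.zero)
  set B := σ w * w with hB
  have hmul : ∀ {x y : K}, ¬ IsSquare x → ¬ IsSquare y → IsSquare (x * y) := by
    intro x y hx hy
    have hxy : x * y ≠ 0 := mul_ne_zero (fun h => hx (h ▸ IsSquare.zero)) (fun h => hy (h ▸ IsSquare.zero))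
    rw [← quadraticChar_one_iff_isSquare hxy, map_mul, quadraticChar_neg_one_iff_not_isSquare.mpr hx,
      quadraticChar_neg_one_iff_not_isSquare.mpr hy]
    norm_num
  have hσns : ∀ x, ¬ IsSquare x → σ x = B / x := by
    intro x hx
    have hx0 : x ≠ 0 := fun h => hx (h ▸ IsSquare.zero)
    obtain ⟨h, hh⟩ := hsurj (x / w) (div_ne_zero hx0 hw0) (by
      rw [div_eq_mul_inv]; exact hmul hx (fun h => hw (by simpa using h.inv)))
    have := hσc h w hw0
    rw [hh, div_mul_cancel₀ _ hw0] at this
    rw [this, hB, inv_div]; ring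
  have htr : ∀ t : K, ∃ u : G, ∀ x : K, u • e none = e none ∧ u • e (some x) = e (some (x + t)) := by
    intro t
    obtain ⟨u, -, hu⟩ := hUsurj t
    exact ⟨u, fun x => ⟨hu none, by rw [hu (some x)]; simp [affine]⟩⟩
  have hfixH : ∀ g : G, g • e none = e none → g • e (some 0) = e (some 0) → ∃ h : H, (h : G) = g := by
    intro g h1 h2
    rw [hea] at h1; rw [heb] at h2
    exact ⟨⟨g, h1, h2⟩, rfl⟩
  -- no fixed point when `-1` is a non-square
  have hBA : B = A := by
    by_cases hAs : IsSquare A
    · have hBs : IsSquare B := by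
        by_contra hBn
        have h1 : IsSquare (B / w) := by
          rw [div_eq_mul_inv]; exact hmul hBn (fun h => hw (by simpa using h.inv))
        have h2 := hσσ w hw0
        rw [hσns w hw, hσsq _ (div_ne_zero (fun h => hBn (by rw [h]; exact IsSquare.zero)) hw0) h1, div_div_eq_mul_div,
          div_eq_iff (fun h => hBn (by rw [h]; exact IsSquare.zero))] at h2
        exact hBn (by rw [show B = A from mul_left_cancel₀ hw0 (by linear_combination -h2)]; exact hAs)
      have hm1 : IsSquare (-1 : K) := by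
        by_contra hm
        obtain ⟨r, hr⟩ := id hAs
        have hr0 : r ≠ 0 := fun h => hA0 (by rw [hr, h, mul_zero])
        obtain ⟨y, hy0, hys, hyy⟩ : ∃ y : K, y ≠ 0 ∧ IsSquare y ∧ y * y = A := by
          by_cases hrs : IsSquare r
          · exact ⟨r, hr0, hrs, hr.symm⟩
          · refine ⟨-r, neg_ne_zero.mpr hr0, ?_, by rw [hr]; ring⟩
            rw [← neg_one_mul]; exact hmul hm hrs
        have hsy : s • e (some y) = e (some y) := by
          rw [hσ y hy0, hσsq y hy0 hys, ← hyy, mul_div_assoc, div_self hy0, mul_one]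
        obtain ⟨g, hg⟩ := exists_smul_eq G (e (some y)) a
        have hs1 : s ≠ 1 := fun h => hab (by rw [← hsa, h, one_smul])
        have hord : orderOf (g * s * g⁻¹) = 2 := orderOf_eq_prime (by
          rw [conj_pow, pow_two, hs2, mul_one, mul_inv_cancel]) (fun h => hs1 (conj_eq_one_iff.mp h))
        have hmem : g * s * g⁻¹ ∈ stabilizer G a := by
          show (g * s * g⁻¹) • a = a
          rw [mul_smul, mul_smul, inv_smul_eq_iff.mpr hg.symm, hsy, hg]
        have hdvd := Subgroup.orderOf_dvd_natCard _ hmem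
        rw [hord] at hdvd
        let φ : U × H → stabilizer G a := fun q => ⟨q.1 * q.2, mul_mem (hUa q.1.2) q.2.2.1⟩
        have hφ : Function.Bijective φ := by
          constructor
          · rintro ⟨u, h⟩ ⟨u', h'⟩ hq
            have hq' : (u : G) * h = (u' : G) * h' := congrArg Subtype.val hq
            have hu : u = u' := by
              refine (hreg ((u : G) • b) fun hh => hab ?_).unique rfl ?_
              · exact MulAction.injective (u : G) ((hUa u.2 : _).trans hh.symm)
              · have := congrArg (· • b) hq'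
                simpa [mul_smul, show (h : G) • b = b from h.2.2, show (h' : G) • b = b from h'.2.2]
                  using this.symm
            subst hu
            exact Prod.ext rfl (Subtype.ext (mul_left_cancel hq'))
          · rintro ⟨g, hg⟩
            obtain ⟨u, hu, -⟩ := hreg (g • b) fun hh => hab (MulAction.injective g (hh.trans hg.symm)).symm
            refine ⟨(u, ⟨(u : G)⁻¹ * g, ?_, ?_⟩), Subtype.ext (mul_inv_cancel_left _ _)⟩
            · exact (mul_mem (inv_mem (hUa u.2)) hg : (u : G)⁻¹ * g ∈ stabilizer G a)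
            · show ((u : G)⁻¹ * g) • b = b
              rw [mul_smul, inv_smul_eq_iff, hu]
        rw [← Nat.card_congr (Equiv.ofBijective φ hφ), Nat.card_prod, hcard] at hdvd
        rcases Nat.prime_two.dvd_mul.mp hdvd with h | h
        · omega
        · apply hm
          rw [FiniteField.isSquare_neg_one_iff, hKc]
          omega
      -- the element `x ↦ s (1 - x)` has cube `1`
      obtain ⟨hm, hhm⟩ := hsurj (-1) (neg_ne_zero.mpr one_ne_zero) hm1
      obtain ⟨hc, hhc⟩ := hsurj A⁻¹ (inv_ne_zero hA0) hAs.inv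
      obtain ⟨u, hu⟩ := htr 1
      set r := (hc : G) * s * u * (hm : G) with hr
      have hr1 : ∀ x : K, 1 - x ≠ 0 → r • e (some x) = e (some (A⁻¹ * σ (1 - x))) := fun x hx => by
        rw [hr, mul_smul, mul_smul, mul_smul, hμone, hhm, (hu _).2, show -1 * x + 1 = 1 - x by ring,
          hσ _ hx, hμone, hhc]
      have hrn : r • e none = e (some 0) := by
        rw [hr, mul_smul, mul_smul, mul_smul, hμ hm none]
        simp only [affine, (hu 0).1, hsn, hμone, mul_zero]
      have hr_1 : r • e (some 1) = e none := by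
        rw [hr, mul_smul, mul_smul, mul_smul, hμone, hhm, (hu _).2, show -1 * (1 : K) + 1 = 0 by ring,
          hs0, hμ hc none]
        rfl
      have hr0 : r • e (some 0) = e (some 1) := by
        rw [hr1 0 (by simp), sub_zero, hσsq 1 one_ne_zero IsSquare.one, div_one, inv_mul_cancel₀ hA0]
      have hr3 : r * r * r = 1 := by
        refine hfix _ ?_ ?_ (e (some 1)) ?_ ?_ ?_
        · rw [← hea, mul_smul, mul_smul, hrn, hr0, hr_1]
        · rw [← heb, mul_smul, mul_smul, hr0, hr_1, hrn]
        · rw [← hea]; exact fun h => Option.some_ne_none _ (e.injective h)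
        · rw [← heb]; exact fun h => one_ne_zero (Option.some.inj (e.injective h))
        · rw [mul_smul, mul_smul, hr_1, hrn, hr0]
      obtain ⟨x, hx0, hxn, hx1, hxs⟩ := exists_nonsquare_one_sub hKodd hm1
      have hx1' : 1 - x ≠ 0 := sub_ne_zero.mpr hx1.symm
      have e1 : A⁻¹ * σ (1 - x) = 1 / (1 - x) := by
        rw [hσsq _ hx1' hxs]; field_simp
      have hy : ¬ IsSquare (1 - 1 / (1 - x)) := fun h => hxn (by
        have := (h.mul hxs).mul hm1
        rw [show (1 - 1 / (1 - x)) * (1 - x) * -1 = x by field_simp; ring] at this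
        exact this)
      have hy0 : 1 - 1 / (1 - x) ≠ 0 := fun h => hy (h ▸ IsSquare.zero)
      have e2 : A⁻¹ * σ (1 - 1 / (1 - x)) = B / A * (x - 1) / x := by
        rw [hσns _ hy, show 1 - 1 / (1 - x) = x / (x - 1) by
          rw [show x - 1 = -(1 - x) by ring, div_neg]; field_simp; ring, div_div_eq_mul_div]
        ring
      have hBA0 : B ≠ 0 := mul_ne_zero (hσ0 w hw0) hw0
      have hz0 : 1 - B / A * (x - 1) / x ≠ 0 := by
        intro h
        have hh := smul_smul (r * r) r (e (some x))
        rw [hr3, one_smul, mul_smul, hr1 x hx1', e1, hr1 _ hy0, e2,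
          show B / A * (x - 1) / x = 1 by linear_combination -h, hr_1] at hh
        exact Option.some_ne_none _ (e.injective hh).symm
      have e3 : σ (1 - B / A * (x - 1) / x) = A * x := by
        have hh := smul_smul (r * r) r (e (some x))
        rw [hr3, one_smul, mul_smul, hr1 x hx1', e1, hr1 _ hy0, e2, hr1 _ hz0] at hh
        have := Option.some.inj (e.injective hh)
        rw [inv_mul_eq_iff_eq_mul₀ hA0] at this
        exact this
      have hzn : ¬ IsSquare (1 - B / A * (x - 1) / x) := by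
        intro h
        rw [hσsq _ hz0 h] at e3
        apply hxn
        have h2 : x = (1 - B / A * (x - 1) / x)⁻¹ := by
          have := mul_left_cancel₀ hA0 (show A * x = A * (1 - B / A * (x - 1) / x)⁻¹ by
            rw [← e3, div_eq_mul_inv])
          exact this
        rw [h2]; exact h.inv
      rw [hσns _ hzn, div_eq_iff hz0] at e3
      field_simp at e3
      have : (B - A) * x = 0 := by linear_combination e3
      exact sub_eq_zero.mp ((mul_eq_zero.mp this).resolve_right hx0)
    · have h2 := hσσ 1 one_ne_zero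
      rw [← hA, hσns A hAs, div_eq_one_iff_eq hA0] at h2
      exact h2
  have hσall : ∀ x, x ≠ 0 → σ x = A / x := fun x hx => by
    by_cases h : IsSquare x
    · exact hσsq x hx h
    · rw [hσns x h, hBA]
  -- `- A⁻¹` is a square
  have hnegA : IsSquare (-A⁻¹) := by
    obtain ⟨u, hu⟩ := htr 1
    obtain ⟨v, hv⟩ := htr (-A)
    set Q := u * s * v * s * u * s with hQ
    have hA1 : A + -A = 0 := add_neg_cancel A
    have hQn : Q • e none = e none := by
      rw [hQ, mul_smul, mul_smul, mul_smul, mul_smul, mul_smul, hsn, (hu _).2, zero_add,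
        hσ 1 one_ne_zero, (hv _).2, hA1, hs0, (hu 0).1]
    have hQ0 : Q • e (some 0) = e (some 0) := by
      rw [hQ, mul_smul, mul_smul, mul_smul, mul_smul, mul_smul, hs0, (hu 0).1, hsn, (hv _).2,
        zero_add, hσ _ (neg_ne_zero.mpr hA0), hσall _ (neg_ne_zero.mpr hA0), (hu _).2]
      congr 2
      field_simp
      ring
    obtain ⟨h, hh⟩ := hfixH Q hQn hQ0
    by_cases hA' : A = -1
    · rw [hA']; norm_num
    have h1A : 1 + A ≠ 0 := fun h0 => hA' (by linear_combination h0)
    have hQ1 : Q • e (some 1) = e (some (-A⁻¹)) := by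
      rw [hQ, mul_smul, mul_smul, mul_smul, mul_smul, mul_smul, hσ 1 one_ne_zero, ← hA, (hu _).2,
        add_comm A 1, hσ _ h1A, hσall _ h1A, (hv _).2]
      have h2 : A / (1 + A) + -A ≠ 0 := by
        intro h3
        field_simp at h3
        exact hA0 (mul_self_eq_zero.mp (by linear_combination -h3))
      rw [hσ _ h2, hσall _ h2, (hu _).2]
      congr 2
      have h3 : A / (1 + A) + -A = -(A * A) / (1 + A) := by field_simp; ring
      rw [h3, div_div_eq_mul_div, div_neg, mul_div_mul_left _ _ hA0, add_div, div_self hA0]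
      ring
    have := hμone h 1
    rw [hh, hQ1, mul_one] at this
    rw [Option.some.inj (e.injective this)]
    exact hμsq h
  obtain ⟨h0, hh0⟩ := hsurj (-A⁻¹) (neg_ne_zero.mpr (inv_ne_zero hA0)) hnegA
  have hs' : ActsAs e ((h0 : G) * s) (recip (-1 : K)) := by
    rintro (_ | x)
    · rw [mul_smul, hsn, hμone, mul_zero]; rfl
    · by_cases hx : x = 0
      · rw [hx, mul_smul, hs0, hμ h0 none, recip_zero]; rfl
      · rw [mul_smul, hσ x hx, hμone, hh0, hσall x hx, recip_some hx]
        congr 2
        field_simp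
  refine ⟨K, inferInstance, inferInstance, e, hKc, hKodd, hea, heb, hUact, hUsurj, fun h hh => ?_,
    fun c hc => ?_, (h0 : G) * s, ?_, hs'⟩
  · obtain ⟨c, hc⟩ := hμsq ⟨h, hh⟩
    exact ⟨c, fun e0 => hμ0 ⟨h, hh⟩ (by rw [hc, e0, mul_zero]), hc ▸ hμ ⟨h, hh⟩⟩
  · obtain ⟨h, hh⟩ := hsurj (c * c) (mul_ne_zero hc hc) ⟨c, rfl⟩
    exact ⟨h, h.2, hh ▸ hμ h⟩
  · rw [mul_smul, hsa]; exact h0.2.2

/-- The recognition theorem. -/
theorem psl_of_inverted {p f : ℕ} (hp : p.Prime) (hf : f ≠ 0) {a b : Ω} (hab : a ≠ b)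
    (hfix : ∀ g : G, g • a = a → g • b = b → ∀ x, x ≠ a → x ≠ b → g • x = x → g = 1)
    [IsPretransitive G Ω] (U : Subgroup G) (hUa : U ≤ stabilizer G a)
    (hUn : ∀ g ∈ stabilizer G a, ∀ u ∈ U, g * u * g⁻¹ ∈ U) (hUc : IsMulCommutative U)
    (hcard : Nat.card U = p ^ f)
    (hreg : ∀ y : Ω, y ≠ a → ∃! u : U, (u : G) • b = y)
    (hd : 2 * Nat.card ↥(stabilizer G a ⊓ stabilizer G b) = p ^ f - 1)
    (s : G) (hsa : s • a = b) (hsb : s • b = a) (hs2 : s * s = 1)
    (hinv : ∀ h ∈ stabilizer G a ⊓ stabilizer G b, s * h * s⁻¹ = h⁻¹) :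
    ∃ (K : Type) (_ : Field K) (_ : Fintype K), Fintype.card K = p ^ f ∧ ringChar K ≠ 2 ∧
      Nonempty (G ≃* Matrix.ProjectiveSpecialLinearGroup (Fin 2) K) := by
  classical
  obtain ⟨K, _, _, e, hKc, hKodd, hea, heb, hUact, -, hHact, -, s', hs'a, hs'⟩ :=
    coords_of_inverted hp hf hab hfix U hUa hUn hUc hcard hreg hd s hsa hsb hs2 hinv
  set H := stabilizer G a ⊓ stabilizer G b with hH
  have hG : Nat.card G = (p ^ f + 1) * (p ^ f * Nat.card H) := by
    rw [card_of_regular hab U hUa hreg, hcard, ← Nat.card_congr e, Finite.card_option,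
      Nat.card_eq_fintype_card, hKc]
  refine ⟨K, inferInstance, inferInstance, hKc, hKodd,
    iso_psl e ((stabilizer G a : Set G) ∪ {s'}) ?_ ?_ ?_⟩
  · rw [eq_top_iff]
    intro g _
    set S : Subgroup G := Subgroup.closure ((stabilizer G a : Set G) ∪ {s'})
    have hstab : stabilizer G a ≤ S := fun x hx => Subgroup.subset_closure (Or.inl hx)
    by_cases hga : g • a = a
    · exact hstab hga
    · obtain ⟨u, hu, -⟩ := hreg _ hga
      have hus : (u : G) * s' ∈ S :=
        mul_mem (hstab (hUa u.2)) (Subgroup.subset_closure (Or.inr rfl))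
      have hmem : ((u : G) * s')⁻¹ * g ∈ stabilizer G a := by
        show (((u : G) * s')⁻¹ * g) • a = a
        rw [mul_smul, inv_smul_eq_iff, mul_smul, hs'a, hu]
      have := mul_mem hus (hstab hmem)
      rwa [mul_inv_cancel_left] at this
  · rintro g (hg | rfl)
    · left
      obtain ⟨u, hu, -⟩ := hreg (g • b) fun hh => hab (MulAction.injective g (hh.trans hg.symm)).symm
      obtain ⟨z, hz⟩ := hUact u u.2
      obtain ⟨c, hc0, hc⟩ := hHact ((u : G)⁻¹ * g)
        ⟨(mul_mem (inv_mem (hUa u.2)) hg : (u : G)⁻¹ * g ∈ stabilizer G a), by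
          show ((u : G)⁻¹ * g) • b = b
          rw [mul_smul, inv_smul_eq_iff, hu]⟩
      refine ⟨c, z, hc0, ?_⟩
      have := actsAs_mul hz hc
      rw [mul_inv_cancel_left] at this
      refine actsAs_congr this fun x => ?_
      rcases x with _ | x <;> simp [affine]
    · exact Or.inr hs'
  · rw [hKc, hG, Nat.gcd_eq_left (show 2 ∣ p ^ f - 1 from Dvd.intro _ hd)]
    have : (p ^ f) ^ 2 - 1 = (p ^ f + 1) * (p ^ f - 1) := by
      rw [← one_pow 2, Nat.sq_sub_sq, one_pow]
    rw [this, ← hd]
    exact le_of_eq (by ring)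

end Cfsg.Agent.Lib.Zass
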