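import Cfsg.Agent.Lib.Zass.PrimeDegree
import Mathlib.FieldTheory.Finite.GaloisField
import Mathlib.NumberTheory.LucasLehmer

/-!
A group of degree `p + 1` with a regular normal subgroup and a subgroup of order `p` regular on the
other points consists of semiaffine maps of the field with `p + 1 = 2 ^ q` elements.
-/

set_option autoImplicit false

namespace Cfsg.Agent.Lib.Zass

open MulAction

theorem dvd_finrank_of_aut {H K : Type*} [Group H] [Field K] [Finite K] [Algebra (ZMod 2) K]
    [Fact (Nat.Prime 2)] (Ψ : H →* (K ≃+* K)) (hΨ : Function.Injective Ψ) :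
    Nat.card H ∣ Module.finrank (ZMod 2) K := by
  let Φ : H →* (K ≃ₐ[ZMod 2] K) :=
    MonoidHom.mk' (fun h => AlgEquiv.ofRingEquiv (f := Ψ h) fun x => by
      obtain ⟨n, rfl⟩ := ZMod.natCast_zmod_surjective x
      rw [map_natCast, map_natCast]) fun h k => AlgEquiv.ext fun x => by
        show Ψ (h * k) x = Ψ h (Ψ k x)
        rw [map_mul]; rfl
  have hΦ : Function.Injective Φ := fun h k e => hΨ (RingEquiv.ext fun x => DFunLike.congr_fun e x)
  rw [← IsGalois.card_aut_eq_finrank]
  exact Subgroup.card_dvd_of_injective Φ hΦ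

theorem regular_two_power {α : Type*} [Fintype α] [DecidableEq α] {p : ℕ} (hp : p.Prime)
    (hp2 : p ≠ 2) (hα : Fintype.card α = p + 1) (G : Subgroup (Equiv.Perm α)) (a : α)
    (h2 : IsMultiplyPretransitive G α 2)
    (M : Subgroup G) (hM : M.Normal) (htr : IsPretransitive M α)
    (hMfree : ∀ x ∈ M, ∀ c : α, x • c = c → x = 1) :
    (∀ x ∈ M, x * x = 1) ∧ ∃ q : ℕ, q.Prime ∧ p + 1 = 2 ^ q := by
  classical
  have hn : Nat.card α = p + 1 := by rw [Nat.card_eq_fintype_card, hα]
  let pM : M ≃ α := Equiv.ofBijective (fun m : M => m • a)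
    ⟨fun m m' e => Subtype.ext (inv_mul_eq_one.mp (hMfree _ (mul_mem (inv_mem m'.2) m.2) a (by
      rw [mul_smul]; exact inv_smul_eq_iff.mpr e))).symm, fun y => htr.exists_smul_eq a y⟩
  have hpM : ∀ m : M, pM m = (m : G) • a := fun _ => rfl
  have hMcard : Nat.card M = p + 1 := by rw [Nat.card_congr pM, hn]
  obtain ⟨r, hr, hexp⟩ := regular_exponent h2 M hM hMfree a
    (fun e => by rw [e, Subgroup.card_bot] at hMcard; have := hp.pos; omega)
  haveI := Fact.mk hr
  have hr2 : r = 2 := by
    haveI : Fact (Nat.Prime 2) := ⟨Nat.prime_two⟩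
    have h2' : 2 ∣ Nat.card M := by
      obtain ⟨j, hj⟩ := hp.odd_of_ne_two hp2
      omega
    obtain ⟨⟨m, hm⟩, hmo⟩ := exists_prime_orderOf_dvd_card' 2 h2'
    rw [Subgroup.orderOf_mk] at hmo
    have := orderOf_dvd_of_pow_eq_one (hexp m hm)
    rw [hmo] at this
    exact ((Nat.prime_dvd_prime_iff_eq Nat.prime_two hr).mp this).symm
  subst hr2
  obtain ⟨q, hq⟩ := IsPGroup.iff_card.mp
    (show IsPGroup 2 M from fun m => ⟨1, Subtype.ext (by simpa using hexp m m.2)⟩)
  rw [hMcard] at hq
  have hqp : q.Prime := by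
    refine (Nat.prime_of_pow_sub_one_prime (a := 2) (fun e => ?_) ?_).2
    · rw [e, pow_one] at hq; exact hp.one_lt.ne' (by omega)
    · rw [← hq, Nat.add_sub_cancel]; exact hp
  exact ⟨fun m hm => by rw [← pow_two]; exact hexp m hm, q, hqp, hq⟩

set_option maxHeartbeats 1000000 in
theorem semiaffine_of_regular {α : Type*} [Fintype α] [DecidableEq α] {p d : ℕ} (hp : p.Prime)
    (hα : Fintype.card α = p + 1) (G : Subgroup (Equiv.Perm α)) {a b : α}
    (U : Subgroup G) (hK : IsKernel U a b) (hUc : IsMulCommutative U)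
    (hH : Nat.card ↥(stabilizer G a ⊓ stabilizer G b) = d)
    (M : Subgroup G) (hM : M.Normal) (htr : IsPretransitive M α)
    (hMfree : ∀ x ∈ M, ∀ c : α, x • c = c → x = 1) (hsq : ∀ x ∈ M, x * x = 1)
    (K : Type) [Field K] [Fintype K] [Algebra (ZMod 2) K] (hKcard : Fintype.card K = p + 1) :
    d ∣ Module.finrank (ZMod 2) K ∧ ∃ e : α ≃ K, ∀ g : G,
      (e.symm.trans (((g : Equiv.Perm α)).trans e)) ∈ Cfsg.semiaffineGroup K := by
  classical
  have hab := hK.ne
  have hn : Nat.card α = p + 1 := by rw [Nat.card_eq_fintype_card, hα]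
  let pM : M ≃ α := Equiv.ofBijective (fun m : M => m • a)
    ⟨fun m m' e => Subtype.ext (inv_mul_eq_one.mp (hMfree _ (mul_mem (inv_mem m'.2) m.2) a (by
      rw [mul_smul]; exact inv_smul_eq_iff.mpr e))).symm, fun y => htr.exists_smul_eq a y⟩
  have hpM : ∀ m : M, pM m = (m : G) • a := fun _ => rfl
  have hMcard : Nat.card M = p + 1 := by rw [Nat.card_congr pM, hn]
  have hMcomm : ∀ x ∈ M, ∀ y ∈ M, x * y = y * x := fun x hx y hy => by
    have h1 := hsq _ (mul_mem hx hy)
    rw [mul_eq_one_iff_eq_inv, mul_inv_rev, inv_eq_of_mul_eq_one_right (hsq x hx),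
      inv_eq_of_mul_eq_one_right (hsq y hy)] at h1
    exact h1
  let _ : AddCommGroup (Additive M) :=
    { (inferInstance : AddGroup (Additive M)) with
      add_comm := fun u v => Additive.toMul.injective (Subtype.ext
        (hMcomm _ u.toMul.2 _ v.toMul.2)) }
  have : Finite (Additive M) := inferInstanceAs (Finite M)
  let C : G → AddMonoid.End (Additive M) := fun g =>
    { toFun := fun v => Additive.ofMul ⟨g * (v.toMul : G) * g⁻¹, hM.conj_mem _ v.toMul.2 g⟩
      map_zero' := by apply Additive.toMul.injective; ext1; simp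
      map_add' := fun v w => by apply Additive.toMul.injective; ext1; simp [mul_assoc] }
  have hCmul : ∀ g k : G, C (g * k) = C g * C k := fun g k => AddMonoidHom.ext fun v =>
    Additive.toMul.injective (Subtype.ext (by
      show g * k * (v.toMul : G) * (g * k)⁻¹ = g * (k * (v.toMul : G) * k⁻¹) * g⁻¹
      simp [mul_assoc]))
  have hC1 : C 1 = 1 := AddMonoidHom.ext fun v => Additive.toMul.injective (Subtype.ext (by
      show (1 : G) * (v.toMul : G) * (1 : G)⁻¹ = (v.toMul : G)
      simp))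
  -- points as vectors
  let pt : Additive M ≃ α := Additive.toMul.trans pM
  have hpt : ∀ v : Additive M, pt v = (v.toMul : G) • a := fun _ => rfl
  have hCpt : ∀ g : G, g • a = a → ∀ v, pt (C g v) = g • pt v := fun g hg v => by
    show (g * (v.toMul : G) * g⁻¹) • a = g • ((v.toMul : G) • a)
    rw [mul_smul, mul_smul, inv_smul_eq_iff.mpr hg.symm]
  have hpt0 : pt 0 = a := one_smul G a
  set m₁ := pt.symm b with hm₁def
  have hm₁ : pt m₁ = b := pt.apply_symm_apply b
  -- the field generated by `U`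
  let S : Set (AddMonoid.End (Additive M)) := Set.range fun u : U => C u
  let A := Subring.closure S
  have hmemA : ∀ u : U, C u ∈ A := fun u => Subring.subset_closure ⟨u, rfl⟩
  have hScomm : ∀ x ∈ S, ∀ y ∈ S, x * y = y * x := by
    rintro _ ⟨u, rfl⟩ _ ⟨v, rfl⟩
    show C u * C v = C v * C u
    rw [← hCmul, ← hCmul]
    exact congrArg C (congrArg Subtype.val (hUc.is_comm.comm u v))
  have hAS : ∀ y, (∀ x ∈ S, x * y = y * x) → ∀ z ∈ A, z * y = y * z := by
    intro y hy z hz
    have h : A ≤ Subring.centralizer {y} :=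
      Subring.closure_le.mpr fun x hx => by
        rw [SetLike.mem_coe, Subring.mem_centralizer_iff]
        rintro _ rfl
        exact (hy x hx).symm
    exact (Subring.mem_centralizer_iff.mp (h hz) y rfl).symm
  have hAcomm : ∀ x ∈ A, ∀ y ∈ A, x * y = y * x := fun x hx y hy =>
    hAS y (fun s hs => (hAS s (fun t ht => hScomm t ht s hs) y hy).symm) x hx
  have hcover : ∀ v : Additive M, v = 0 ∨ ∃ u : U, C u m₁ = v := by
    intro v
    by_cases hv : pt v = a
    · exact Or.inl (pt.injective (hv.trans hpt0.symm))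
    · obtain ⟨u, hu, -⟩ := hK.reg _ hv
      exact Or.inr ⟨u, pt.injective (by rw [hCpt (u : G) (hK.le u.2), hm₁, hu])⟩
  have hz0 : ∀ z : A, (z : AddMonoid.End (Additive M)) m₁ = 0 → z = 0 := by
    intro z hz
    refine Subtype.ext (AddMonoidHom.ext fun v => ?_)
    rcases hcover v with rfl | ⟨u, rfl⟩
    · exact (z : AddMonoid.End (Additive M)).map_zero
    · have h := DFunLike.congr_fun (hAcomm _ z.2 _ (hmemA u)) m₁
      show (z : AddMonoid.End (Additive M)) (C u m₁) = 0
      have h' : (z : AddMonoid.End (Additive M)) (C u m₁) = C u ((z : AddMonoid.End (Additive M)) m₁) := h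
      rw [h', hz, map_zero]
  have hevinj : Function.Injective fun z : A => (z : AddMonoid.End (Additive M)) m₁ := fun z z' e =>
    sub_eq_zero.mp (hz0 (z - z') (by
      show (z : AddMonoid.End (Additive M)) m₁ - (z' : AddMonoid.End (Additive M)) m₁ = 0
      exact sub_eq_zero.mpr e))
  have hevsurj : Function.Surjective fun z : A => (z : AddMonoid.End (Additive M)) m₁ := by
    intro v
    rcases hcover v with rfl | ⟨u, rfl⟩
    · exact ⟨0, rfl⟩
    · exact ⟨⟨C u, hmemA u⟩, rfl⟩
  let ev : A ≃ Additive M := Equiv.ofBijective _ ⟨hevinj, hevsurj⟩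
  have hev : ∀ z : A, ev z = (z : AddMonoid.End (Additive M)) m₁ := fun _ => rfl
  let ρ : U → A := fun u => ⟨C u, hmemA u⟩
  have hρmul : ∀ u v : U, ρ (u * v) = ρ u * ρ v := fun u v => Subtype.ext (hCmul u v)
  have hρ1 : ρ 1 = 1 := Subtype.ext hC1
  have hρev : ∀ z : A, z = 0 ∨ ∃ u, ρ u = z := fun z => by
    rcases hcover (ev z) with h | ⟨u, hu⟩
    · exact Or.inl (hz0 z h)
    · exact Or.inr ⟨u, hevinj hu⟩
  have h01 : (0 : A) ≠ 1 := fun e => by
    have h1 := congrArg (fun z : A => (z : AddMonoid.End (Additive M)) m₁) e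
    exact hab (by rw [← hm₁, ← hpt0]; exact congrArg pt h1)
  letI : Field A := IsField.toField
    { exists_pair_ne := ⟨0, 1, h01⟩
      mul_comm := fun x y => Subtype.ext (hAcomm _ x.2 _ y.2)
      mul_inv_cancel := fun {z} hz => by
        rcases hρev z with h | ⟨u, rfl⟩
        · exact absurd h hz
        · exact ⟨ρ u⁻¹, by rw [← hρmul, mul_inv_cancel, hρ1]⟩ }
  haveI : Finite A := Finite.of_injective _ hevinj
  letI : Fintype A := Fintype.ofFinite A
  haveI : Fact (Nat.Prime 2) := ⟨Nat.prime_two⟩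
  have hAcard : Fintype.card A = Fintype.card K := by
    rw [← Nat.card_eq_fintype_card, Nat.card_congr ev,
      show Nat.card (Additive M) = Nat.card M from rfl, hMcard, hKcard]
  let θ : A ≃+* K := FiniteField.ringEquivOfCardEq hAcard
  let e : α ≃ K := pt.symm.trans (ev.symm.trans θ.toEquiv)
  have he : ∀ z : A, e (pt (ev z)) = θ z := fun z => by simp [e]
  -- elements fixing both points act as automorphisms
  set H := stabilizer G a ⊓ stabilizer G b with hHdef
  have hfixm : ∀ h : H, C h m₁ = m₁ := fun h => pt.injective (by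
    rw [hCpt (h : G) h.2.1, hm₁]; exact h.2.2)
  let φ : H → A → A := fun h z => ev.symm (C h (ev z))
  have hφev : ∀ h z, ev (φ h z) = C h (ev z) := fun h z => ev.apply_symm_apply _
  have hφadd : ∀ h z z', φ h (z + z') = φ h z + φ h z' := fun h z z' => ev.injective (by
    rw [hφev, show ev (z + z') = ev z + ev z' from rfl, map_add, ← hφev, ← hφev]; rfl)
  have hφ0 : ∀ h, φ h 0 = 0 := fun h => ev.injective (by
    rw [hφev, show ev 0 = 0 from rfl, map_zero])
  have hφρ : ∀ (h : H) (u : U), φ h (ρ u) = ρ ⟨(h : G) * u * (h : G)⁻¹, hK.conj _ h.2.1 _ u.2⟩ := by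
    intro h u
    apply ev.injective
    rw [hφev]
    show C h (C u m₁) = C ((h : G) * u * (h : G)⁻¹) m₁
    conv_rhs => rw [← hfixm h]
    show (C h * C u) m₁ = (C ((h : G) * u * (h : G)⁻¹) * C h) m₁
    rw [← hCmul, ← hCmul, inv_mul_cancel_right]
  have hφmul : ∀ h z z', φ h (z * z') = φ h z * φ h z' := by
    intro h z z'
    rcases hρev z with rfl | ⟨u, rfl⟩
    · rw [zero_mul, hφ0, zero_mul]
    rcases hρev z' with rfl | ⟨v, rfl⟩
    · rw [mul_zero, hφ0, mul_zero]
    rw [← hρmul, hφρ, hφρ, hφρ, ← hρmul]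
    exact congrArg ρ (Subtype.ext (by simp [mul_assoc]))
  have hφcomp : ∀ h k z, φ (h * k) z = φ h (φ k z) := fun h k z => ev.injective (by
    rw [hφev, hφev, hφev, Subgroup.coe_mul, hCmul]; rfl)
  have hφone : ∀ z, φ 1 z = z := fun z => ev.injective (by
    rw [hφev, OneMemClass.coe_one, hC1]; rfl)
  let aut : H → (A ≃+* A) := fun h =>
    { toFun := φ h
      invFun := φ h⁻¹
      left_inv := fun z => by rw [← hφcomp, inv_mul_cancel, hφone]
      right_inv := fun z => by rw [← hφcomp, mul_inv_cancel, hφone]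
      map_mul' := hφmul h
      map_add' := hφadd h }
  let aut' : H → (K ≃+* K) := fun h =>
    θ.symm.trans ((aut h).trans θ)
  refine ⟨?_, e, fun g => ?_⟩
  · let Ψ : H →* (K ≃+* K) :=
      MonoidHom.mk' aut' fun h k => RingEquiv.ext fun x => by
        show θ (φ (h * k) (θ.symm x)) = θ (φ h (θ.symm (θ (φ k (θ.symm x)))))
        rw [θ.symm_apply_apply, hφcomp]
    have hΨ : Function.Injective Ψ := by
      rw [injective_iff_map_eq_one]
      intro h hh
      have hid : ∀ z, φ h z = z := fun z => by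
        have h1 : θ (φ h (θ.symm (θ z))) = θ z := DFunLike.congr_fun hh (θ z)
        rw [θ.symm_apply_apply] at h1
        exact θ.injective h1
      refine Subtype.ext (eq_of_smul_eq_smul (α := α) fun y => ?_)
      obtain ⟨v, rfl⟩ := pt.surjective y
      obtain ⟨z, rfl⟩ := ev.surjective v
      rw [OneMemClass.coe_one, one_smul, ← hCpt (h : G) h.2.1, ← hφev, hid]
    rw [← hH]
    exact dvd_finrank_of_aut Ψ hΨ
  · obtain ⟨m, hm⟩ : ∃ m : Additive M, pt m = g • a := pt.surjective _ |>.imp fun _ h => h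
    set g₀ : G := (m.toMul : G)⁻¹ * g with hg₀
    have hg₀a : g₀ • a = a := by rw [hg₀, mul_smul, inv_smul_eq_iff]; exact hm.symm
    have hg : g = (m.toMul : G) * g₀ := (mul_inv_cancel_left _ _).symm
    obtain ⟨u, hu, -⟩ := hK.reg (g₀ • b) fun hh => hab (MulAction.injective g₀ (hh.trans hg₀a.symm)).symm
    let h : H := ⟨(u : G)⁻¹ * g₀, (mul_mem (inv_mem (hK.le u.2)) hg₀a : (u : G)⁻¹ * g₀ ∈ stabilizer G a), by
      show ((u : G)⁻¹ * g₀) • b = b
      rw [mul_smul, inv_smul_eq_iff, hu]⟩
    have hρ0 : ρ u ≠ 0 := fun e0 => by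
      have h1 := congrArg (fun z : A => z * ρ u⁻¹) e0
      simp only [← hρmul, mul_inv_cancel, hρ1, zero_mul] at h1
      exact h01 h1.symm
    refine ⟨Units.mk0 (θ (ρ u)) (by simpa using hρ0), θ (ev.symm m), aut' h, fun x => ?_⟩
    obtain ⟨z, rfl⟩ := θ.surjective x
    show e ((g : Equiv.Perm α) (e.symm (θ z))) = θ (ρ u) * θ (φ h (θ.symm (θ z))) + θ (ev.symm m)
    have hes : e.symm (θ z) = pt (ev z) := by rw [Equiv.symm_apply_eq, he]
    rw [θ.symm_apply_apply, hes, ← map_mul, ← map_add, ← he]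
    congr 1
    show g • pt (ev z) = _
    have hu' : g₀ = (u : G) * (h : G) := (mul_inv_cancel_left _ _).symm
    rw [hg, mul_smul, ← hCpt g₀ hg₀a, hu', hCmul]
    show (m.toMul : G) • pt (C u (C h (ev z))) = pt (ev (ρ u * φ h z + ev.symm m))
    rw [show ev (ρ u * φ h z + ev.symm m) = C u (C h (ev z)) + m by
      show C u (ev (φ h z)) + ev (ev.symm m) = _
      rw [hφev, ev.apply_symm_apply], add_comm, hpt, hpt]
    show (m.toMul : G) • _ = ((m.toMul : G) * _) • a
    rw [mul_smul]

end Cfsg.Agent.Lib.Zass
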