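import Cfsg.Agent.Lib.Zass.Struct
import Mathlib.GroupTheory.GroupAction.SubMulAction.OfStabilizer

/-!
Sharply three times transitive groups: the point stabiliser has an elementary abelian regular
normal subgroup, and if a swap inverts the two-point stabiliser the group is `PGL(2, q)`.
-/

set_option autoImplicit false

namespace Cfsg.Agent.Lib.Zass

open MulAction

variable {G Ω : Type*} [Group G] [MulAction G Ω]

/-- The data of a sharply three times transitive action. -/
structure Sharp3 (G Ω : Type*) [Group G] [MulAction G Ω] : Prop where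
  trans : ∀ a b c a' b' c' : Ω, a ≠ b → b ≠ c → a ≠ c → a' ≠ b' → b' ≠ c' → a' ≠ c' →
    ∃ g : G, g • a = a' ∧ g • b = b' ∧ g • c = c'
  sharp : ∀ g : G, ∀ a b c : Ω, a ≠ b → b ≠ c → a ≠ c → g • a = a → g • b = b → g • c = c → g = 1
  three : 3 ≤ Nat.card Ω

namespace Sharp3

variable [Finite Ω] (h : Sharp3 G Ω)
include h

theorem exists_third (a b : Ω) : ∃ c : Ω, c ≠ a ∧ c ≠ b := by
  classical
  haveI := Fintype.ofFinite Ω
  by_contra hc
  push Not at hc
  have h1 := h.three
  have h2 : (Finset.univ : Finset Ω).card ≤ ({a, b} : Finset Ω).card := by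
    refine Finset.card_le_card fun c _ => ?_
    by_cases hca : c = a
    · simp [hca]
    · simp [hc c hca]
  rw [Finset.card_univ, ← Nat.card_eq_fintype_card] at h2
  have := h2.trans Finset.card_le_two
  omega

theorem exists_pair {a b a' b' : Ω} (hab : a ≠ b) (hab' : a' ≠ b') :
    ∃ g : G, g • a = a' ∧ g • b = b' := by
  obtain ⟨c, hca, hcb⟩ := h.exists_third a b
  obtain ⟨c', hca', hcb'⟩ := h.exists_third a' b'
  obtain ⟨g, h1, h2, -⟩ := h.trans a b c a' b' c' hab hcb.symm hca.symm hab' hcb'.symm hca'.symm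
  exact ⟨g, h1, h2⟩

theorem pretransitive : IsPretransitive G Ω := ⟨fun x y => by
  obtain ⟨x', hx', -⟩ := h.exists_third x x
  obtain ⟨y', hy', -⟩ := h.exists_third y y
  obtain ⟨g, hg, -⟩ := h.exists_pair hx'.symm hy'.symm
  exact ⟨g, hg⟩⟩

theorem twoPretransitive : IsMultiplyPretransitive G Ω 2 :=
  is_two_pretransitive_iff.mpr fun {_ _ _ _} hab hcd => h.exists_pair hab hcd

omit [Finite Ω] in
theorem free {a b : Ω} (hab : a ≠ b) {g : G} (hg : g ∈ stabilizer G a ⊓ stabilizer G b) {x : Ω}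
    (hxa : x ≠ a) (hxb : x ≠ b) (hx : g • x = x) : g = 1 :=
  h.sharp g a b x hab hxb.symm hxa.symm hg.1 hg.2 hx

theorem card_twoPt {a b : Ω} (hab : a ≠ b) :
    Nat.card ↥(stabilizer G a ⊓ stabilizer G b) = Nat.card Ω - 2 := by
  classical
  haveI := Fintype.ofFinite Ω
  obtain ⟨c, hca, hcb⟩ := h.exists_third a b
  have e : Nat.card ↥(stabilizer G a ⊓ stabilizer G b) = Nat.card {y : Ω // ¬(y = a ∨ y = b)} := by
    refine Nat.card_eq_of_bijective (fun g => ⟨(g : G) • c, not_or.mpr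
      ⟨fun e => hca (MulAction.injective (g : G) (e.trans g.2.1.symm)),
       fun e => hcb (MulAction.injective (g : G) (e.trans g.2.2.symm))⟩⟩) ⟨fun g g' e => ?_, fun y => ?_⟩
    · refine Subtype.ext (inv_mul_eq_one.mp (h.free hab (mul_mem (inv_mem g'.2) g.2) hca hcb ?_)).symm
      rw [mul_smul, show (g : G) • c = (g' : G) • c from congrArg Subtype.val e, inv_smul_smul]
    · obtain ⟨hya, hyb⟩ := not_or.mp y.2
      obtain ⟨g, h1, h2, h3⟩ := h.trans a b c a b y hab hcb.symm hca.symm hab (Ne.symm hyb) (Ne.symm hya)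
      exact ⟨⟨g, h1, h2⟩, Subtype.ext h3⟩
  rw [e, Nat.card_eq_fintype_card, Nat.card_eq_fintype_card, Fintype.card_subtype_compl,
    Fintype.card_subtype]
  have : (Finset.univ.filter fun x : Ω => x = a ∨ x = b) = {a, b} := by ext x; simp
  rw [this, Finset.card_pair hab]

theorem sharplyTwo (a : Ω) :
    Lib.Perm.SharplyTwo (stabilizer G a) (SubMulAction.ofStabilizer G a) where
  trans := fun x y z w hxy hzw => by
    obtain ⟨g, h1, h2, h3⟩ := h.trans a x y a z w (Ne.symm x.2) (fun e => hxy (Subtype.ext e))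
      (Ne.symm y.2) (Ne.symm z.2) (fun e => hzw (Subtype.ext e)) (Ne.symm w.2)
    exact ⟨⟨g, h1⟩, Subtype.ext h2, Subtype.ext h3⟩
  sharp := fun g x y hxy hx hy => Subtype.ext (h.sharp g a x y (Ne.symm x.2)
    (fun e => hxy (Subtype.ext e)) (Ne.symm y.2) g.2 (congrArg Subtype.val hx) (congrArg Subtype.val hy))
  nontriv := by
    have := SubMulAction.nat_card_ofStabilizer_add_one_eq G a
    have := h.three
    omega

theorem exists_isKernel [Finite G] {a b : Ω} (hab : a ≠ b) :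
    ∃ (U : Subgroup G) (p f : ℕ), IsKernel U a b ∧ IsMulCommutative U ∧ p.Prime ∧ f ≠ 0 ∧
      Nat.card U = p ^ f := by
  have hS := h.sharplyTwo a
  have hmem : ∀ y : Ω, y ≠ a → y ∈ SubMulAction.ofStabilizer G a := fun y hy => hy
  obtain ⟨p, f, hp, hf, hpf, -⟩ := hS.exists_prime
  refine ⟨hS.kernel.map (stabilizer G a).subtype, p, f, ⟨hab, Subgroup.map_subtype_le _, ?_, ?_⟩,
    ⟨⟨?_⟩⟩, hp, by omega, ?_⟩
  · rintro g hg _ ⟨u, hu, rfl⟩
    exact ⟨_, hS.kernel_normal.conj_mem u hu ⟨g, hg⟩, rfl⟩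
  · intro y hy
    obtain ⟨⟨u, hu⟩, huy⟩ := hS.kernel_pretransitive.exists_smul_eq ⟨b, hmem b hab.symm⟩ ⟨y, hmem y hy⟩
    refine ⟨⟨_, u, hu, rfl⟩, congrArg Subtype.val huy, fun w hw => ?_⟩
    obtain ⟨w', hw', hww⟩ := w.2
    refine Subtype.ext ?_
    show (w : G) = (u : G)
    rw [← hww]
    have hst := hS.kernel_stabilizer ⟨b, hmem b hab.symm⟩
    have hm : (⟨u⁻¹ * w', mul_mem (inv_mem hu) hw'⟩ : hS.kernel) ∈
        stabilizer hS.kernel (⟨b, hmem b hab.symm⟩ : SubMulAction.ofStabilizer G a) := by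
      refine Subtype.ext ?_
      show ((u : G)⁻¹ * (w' : G)) • b = b
      rw [mul_smul, inv_smul_eq_iff, show (w' : G) • b = y by rw [← hw, ← hww]; rfl,
        show (u : G) • b = y from congrArg Subtype.val huy]
    rw [hst, Subgroup.mem_bot] at hm
    have hm' : u⁻¹ * w' = 1 := congrArg Subtype.val hm
    exact congrArg Subtype.val (inv_mul_eq_one.mp hm').symm
  · rintro ⟨_, u, hu, rfl⟩ ⟨_, w, hw, rfl⟩
    exact Subtype.ext (congrArg (fun z : hS.kernel => ((z : stabilizer G a) : G))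
      (hS.kernel_comm.is_comm.comm ⟨u, hu⟩ ⟨w, hw⟩) :)
  · rw [Subgroup.card_map_of_injective (Subgroup.subtype_injective _), hS.card_kernel, hpf]

end Sharp3

/-- Coordinates for a sharply three times transitive group with an inverting swap. -/
theorem pgl_coords [FaithfulSMul G Ω] [Finite G] [Finite Ω] [IsPretransitive G Ω] {p f : ℕ}
    (hp : p.Prime) (hf : f ≠ 0) {a b : Ω} (U : Subgroup G) (hK : IsKernel U a b)
    (hUc : IsMulCommutative U) (hcard : Nat.card U = p ^ f)
    (hfree : ∀ h ∈ stabilizer G a ⊓ stabilizer G b, ∀ x, x ≠ a → x ≠ b → h • x = x → h = 1)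
    (hd : Nat.card ↥(stabilizer G a ⊓ stabilizer G b) = p ^ f - 1)
    (s : G) (hsa : s • a = b) (hsb : s • b = a)
    (hinv : ∀ h ∈ stabilizer G a ⊓ stabilizer G b, s * h * s⁻¹ = h⁻¹) :
    ∃ (K : Type) (_ : Field K) (_ : Fintype K) (e : Option K ≃ Ω) (A : K), A ≠ 0 ∧
      Fintype.card K = p ^ f ∧ e none = a ∧ e (some 0) = b ∧
      (∀ u ∈ U, ∃ z : K, ActsAs e u (affine 1 z)) ∧ (∀ z : K, ∃ u ∈ U, ActsAs e u (affine 1 z)) ∧
      (∀ h ∈ stabilizer G a ⊓ stabilizer G b, ∃ c : K, c ≠ 0 ∧ ActsAs e h (affine c 0)) ∧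
      (∀ c : K, c ≠ 0 → ∃ h ∈ stabilizer G a ⊓ stabilizer G b, ActsAs e h (affine c 0)) ∧
      ActsAs e s (recip A) := by
  classical
  set H := stabilizer G a ⊓ stabilizer G b with hH
  have hHc : IsMulCommutative H := ⟨⟨fun h k => Subtype.ext (inv_injective (by
    have e : s * ((h : G) * k) * s⁻¹ = (h : G)⁻¹ * (k : G)⁻¹ := by
      rw [← hinv _ h.2, ← hinv _ k.2]; group
    rw [Subgroup.coe_mul, Subgroup.coe_mul, ← hinv _ (mul_mem h.2 k.2), e, mul_inv_rev]))⟩⟩
  haveI : Fintype H := Fintype.ofFinite H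
  obtain ⟨K, _, _, e, hKc, hea, heb, hUact, hUsurj, hlin⟩ :=
    exists_coords hp hf hK.ne U H hK.le hK.conj hUc hcard hK.reg le_rfl hHc hfree (by omega)
  have hHact : ∀ h : H, ∃ c : K, c ≠ 0 ∧ ActsAs e (h : G) (affine c 0) := fun h =>
    hlin h h.2.1 h.2.2 fun k hk => congrArg Subtype.val (hHc.is_comm.comm h ⟨k, hk⟩)
  choose μ hμ0 hμ using hHact
  have hμone : ∀ (h : H) (x : K), (h : G) • e (some x) = e (some (μ h * x)) := fun h x => by
    rw [hμ h (some x)]; simp [affine]
  have hμinj : Function.Injective μ := fun h k hhk => Subtype.ext (eq_of_smul_eq_smul fun y => by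
    obtain ⟨x, rfl⟩ := e.surjective y
    rw [hμ h x, hμ k x, hhk])
  have hsurj : ∀ c : K, c ≠ 0 → ∃ h, μ h = c := fun c hc => by
    have hb : Function.Bijective (fun h : H => (⟨μ h, hμ0 h⟩ : {c : K // c ≠ 0})) :=
      (Fintype.bijective_iff_injective_and_card _).mpr
        ⟨fun h k e' => hμinj (congrArg Subtype.val e'), by
          rw [Fintype.card_subtype_compl, Fintype.card_subtype_eq, hKc, ← Nat.card_eq_fintype_card, hd]⟩
    obtain ⟨h, hh⟩ := hb.2 ⟨c, hc⟩
    exact ⟨h, congrArg Subtype.val hh⟩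
  have hs0 : s • e (some 0) = e none := by rw [heb, hea, hsb]
  have hsn : s • e none = e (some 0) := by rw [heb, hea, hsa]
  obtain ⟨A, hA0, hA⟩ : ∃ A : K, A ≠ 0 ∧ s • e (some 1) = e (some A) := by
    rcases hy : e.symm (s • e (some 1)) with _ | y <;> have hy' := e.symm_apply_eq.mp hy
    · rw [← hs0] at hy'
      exact absurd (Option.some.inj (e.injective (smul_left_cancel s hy'))) one_ne_zero
    · refine ⟨y, fun h0 => ?_, hy'⟩
      rw [h0, ← hsn] at hy'
      exact Option.some_ne_none _ (e.injective (smul_left_cancel s hy'))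
  have hs : ActsAs e s (recip A) := by
    rintro (_ | x)
    · rw [hsn]; rfl
    · by_cases hx : x = 0
      · rw [hx, hs0, recip_zero]
      · obtain ⟨h, hh⟩ := hsurj x hx
        have hsh : s * (h : G) = (h : G)⁻¹ * s := by rw [← hinv _ h.2, inv_mul_cancel_right]
        rw [recip_some hx, show e (some x) = (h : G) • e (some 1) by rw [hμone, hh, mul_one],
          smul_smul, hsh, mul_smul, hA, inv_smul_eq_iff, hμone, hh, mul_div_cancel₀ _ hx]
  refine ⟨K, inferInstance, inferInstance, e, A, hA0, hKc, hea, heb, hUact, hUsurj,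
    fun h hh => ⟨μ ⟨h, hh⟩, hμ0 _, hμ ⟨h, hh⟩⟩, fun c hc => ?_, hs⟩
  obtain ⟨h, hh⟩ := hsurj c hc
  exact ⟨h, h.2, hh ▸ hμ h⟩

/-- Recognition of `PGL(2, q)`. -/
theorem pgl_of_inverted [FaithfulSMul G Ω] [Finite G] [Finite Ω] [IsPretransitive G Ω] {p f : ℕ}
    (hp : p.Prime) (hf : f ≠ 0) {a b : Ω} (U : Subgroup G) (hK : IsKernel U a b)
    (hUc : IsMulCommutative U) (hcard : Nat.card U = p ^ f)
    (hfree : ∀ h ∈ stabilizer G a ⊓ stabilizer G b, ∀ x, x ≠ a → x ≠ b → h • x = x → h = 1)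
    (hd : Nat.card ↥(stabilizer G a ⊓ stabilizer G b) = p ^ f - 1)
    (s : G) (hsa : s • a = b) (hsb : s • b = a)
    (hinv : ∀ h ∈ stabilizer G a ⊓ stabilizer G b, s * h * s⁻¹ = h⁻¹) :
    ∃ (K : Type) (_ : Field K) (_ : Fintype K), Fintype.card K = p ^ f ∧
      Nonempty (G ≃* Matrix.ProjGenLinGroup (Fin 2) K) := by
  classical
  obtain ⟨K, _, _, e, A, hA0, hKc, -, -, hUact, -, hHact, -, hs⟩ :=
    pgl_coords hp hf U hK hUc hcard hfree hd s hsa hsb hinv
  set H := stabilizer G a ⊓ stabilizer G b with hH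
  refine ⟨K, inferInstance, inferInstance, hKc,
    iso_pgl e ((stabilizer G a : Set G) ∪ {s}) ?_ ?_ ?_⟩
  · rw [eq_top_iff]
    intro g _
    set S : Subgroup G := Subgroup.closure ((stabilizer G a : Set G) ∪ {s})
    have hstab : stabilizer G a ≤ S := fun x hx => Subgroup.subset_closure (Or.inl hx)
    by_cases hga : g • a = a
    · exact hstab hga
    · obtain ⟨u, hu, -⟩ := hK.reg _ hga
      have hus : (u : G) * s ∈ S :=
        mul_mem (hstab (hK.le u.2)) (Subgroup.subset_closure (Or.inr rfl))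
      have hmem : ((u : G) * s)⁻¹ * g ∈ stabilizer G a := by
        show (((u : G) * s)⁻¹ * g) • a = a
        rw [mul_smul, inv_smul_eq_iff, mul_smul, hsa, hu]
      have := mul_mem hus (hstab hmem)
      rwa [mul_inv_cancel_left] at this
  · rintro g (hg | rfl)
    · left
      obtain ⟨u, hu, -⟩ := hK.reg (g • b) fun hh => hK.ne (MulAction.injective g (hh.trans hg.symm)).symm
      obtain ⟨z, hz⟩ := hUact u u.2
      obtain ⟨c, hc0, hc⟩ := hHact ((u : G)⁻¹ * g)
        ⟨(mul_mem (inv_mem (hK.le u.2)) hg : (u : G)⁻¹ * g ∈ stabilizer G a), by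
          show ((u : G)⁻¹ * g) • b = b
          rw [mul_smul, inv_smul_eq_iff, hu]⟩
      refine ⟨c, z, hc0, ?_⟩
      have := actsAs_mul hz hc
      rw [mul_inv_cancel_left] at this
      refine actsAs_congr this fun x => ?_
      rcases x with _ | x <;> simp [affine]
    · exact Or.inr ⟨A, hA0, hs⟩
  · rw [card_of_regular hK.ne U hK.le hK.reg, hcard, ← hH, hd, ← Nat.card_congr e,
      Finite.card_option, Nat.card_eq_fintype_card, hKc]
    have : (p ^ f) ^ 2 - 1 = (p ^ f + 1) * (p ^ f - 1) := by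
      rw [← one_pow 2, Nat.sq_sub_sq, one_pow]
    rw [this]
    exact le_of_eq (by ring)

/-- A sharply three times transitive permutation group as an action. -/
theorem sharp3_of_perm {α : Type*} [Fintype α] (G : Subgroup (Equiv.Perm α))
    (hn : 3 ≤ Fintype.card α) (h3 : IsMultiplyPretransitive G α 3)
    (hfix : ∀ g : G, ∀ a b c : α, a ≠ b → b ≠ c → a ≠ c → g • a = a → g • b = b → g • c = c → g = 1) :
    Sharp3 G α where
  trans := fun a b c a' b' c' h1 h2 h3' k1 k2 k3 => by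
    let x : Fin 3 ↪ α := ⟨![a, b, c], by
      intro i j e; fin_cases i <;> fin_cases j <;>
        first | rfl | simp_all [ne_eq] | (simp at e; exact absurd e.symm (by assumption))⟩
    let y : Fin 3 ↪ α := ⟨![a', b', c'], by
      intro i j e; fin_cases i <;> fin_cases j <;>
        first | rfl | simp_all [ne_eq] | (simp at e; exact absurd e.symm (by assumption))⟩
    obtain ⟨g, hg⟩ := h3.exists_smul_eq x y
    exact ⟨g, DFunLike.congr_fun hg 0, DFunLike.congr_fun hg 1, DFunLike.congr_fun hg 2⟩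
  sharp := hfix
  three := by rw [Nat.card_eq_fintype_card]; exact hn

theorem fix_of_stabilizer {α : Type*} {G : Subgroup (Equiv.Perm α)}
    (hsharp : ∀ x : Fin 3 ↪ α, stabilizer G x = ⊥) :
    ∀ g : G, ∀ a b c : α, a ≠ b → b ≠ c → a ≠ c → g • a = a → g • b = b → g • c = c → g = 1 := by
  intro g a b c h1 h2 h3 ha hb hc
  let x : Fin 3 ↪ α := ⟨![a, b, c], by
    intro i j e; fin_cases i <;> fin_cases j <;>
        first | rfl | simp_all [ne_eq] | (simp at e; exact absurd e.symm (by assumption))⟩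
  have : g ∈ stabilizer G x := by
    rw [mem_stabilizer_iff]; ext i; fin_cases i
    · exact ha
    · exact hb
    · exact hc
  rwa [hsharp x, Subgroup.mem_bot] at this

end Cfsg.Agent.Lib.Zass
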