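import Cfsg.Agent.Lib.Zass.Struct
import Cfsg.Agent.Lib.Zass.Sharp

/-!
Transitive groups of degree `p + 1` and order `(p + 1) p d` with `d < p`: the point stabiliser has
a normal regular subgroup of order `p` and only the identity fixes three points.
-/

set_option autoImplicit false

namespace Cfsg.Agent.Lib.Zass

open MulAction

theorem prime_degree_data {α : Type*} [Fintype α] [DecidableEq α] {p d : ℕ} (hp : p.Prime)
    (hα : Fintype.card α = p + 1) (G : Subgroup (Equiv.Perm α)) [IsPretransitive G α]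
    (hG : Nat.card G = (p + 1) * p * d) (hd : d < p) (a b : α) (hab : a ≠ b) :
    ∃ U : Subgroup G, IsKernel U a b ∧ IsMulCommutative U ∧ Nat.card U = p ∧
      Nat.card ↥(stabilizer G a ⊓ stabilizer G b) = d ∧
      IsMultiplyPretransitive G α 2 ∧
      (∀ g : G, ∀ x y z : α, x ≠ y → y ≠ z → x ≠ z → g • x = x → g • y = y → g • z = z → g = 1) ∧
      d ∣ p - 1 ∧ IsMulCommutative ↥(stabilizer G a ⊓ stabilizer G b) := by
  classical
  haveI := Fact.mk hp
  have hn : Nat.card α = p + 1 := by rw [Nat.card_eq_fintype_card, hα]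
  have hd0 : 0 < d := Nat.pos_of_ne_zero fun e => by
    rw [e, mul_zero] at hG; exact Nat.card_pos.ne' hG
  have hst : ∀ x : α, Nat.card (stabilizer G x) = p * d := fun x => by
    have h1 := Subgroup.card_mul_index (stabilizer G x)
    rw [index_stabilizer_of_transitive, hn, hG] at h1
    exact Nat.eq_of_mul_eq_mul_right (show 0 < p + 1 by omega) (h1.trans (by ring))
  have hkey : ∀ x : α, ∃ U : Subgroup G, U ≤ stabilizer G x ∧ Nat.card U = p ∧
      (∀ g ∈ stabilizer G x, ∀ u ∈ U, g * u * g⁻¹ ∈ U) ∧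
      ∀ y : α, y ≠ x → ∀ z : α, z ≠ x → ∃! u : U, (u : G) • y = z := by
    intro x
    set P : Sylow p (stabilizer G x) := default with hP
    have hPc : Nat.card P = p := by
      rw [P.card_eq_multiplicity, hst, Nat.factorization_mul hp.ne_zero hd0.ne', Finsupp.add_apply,
        hp.factorization_self, Nat.factorization_eq_zero_of_not_dvd
          (fun h => absurd (Nat.le_of_dvd hd0 h) (not_le.mpr hd)), add_zero, pow_one]
    have hone : Nat.card (Sylow p (stabilizer G x)) = 1 := by
      have h1 := P.card_dvd_index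
      have h2 := card_sylow_modEq_one p (stabilizer G x)
      have hidx : (P : Subgroup (stabilizer G x)).index = d := by
        have h3 := Subgroup.card_mul_index (P : Subgroup (stabilizer G x))
        rw [hst, hPc] at h3
        exact Nat.eq_of_mul_eq_mul_left hp.pos h3
      rw [hidx] at h1
      have h4 := Nat.le_of_dvd hd0 h1
      have h5 := Nat.card_pos (α := Sylow p (stabilizer G x))
      exact h2.eq_of_lt_of_lt (by omega) hp.one_lt
    haveI : Subsingleton (Sylow p (stabilizer G x)) := (Nat.card_eq_one_iff_unique.mp hone).1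
    have hPn : (P : Subgroup (stabilizer G x)).Normal := Sylow.normal_of_subsingleton P
    set U := (P : Subgroup (stabilizer G x)).map (stabilizer G x).subtype with hU
    have hUc : Nat.card U = p := by
      rw [hU, Subgroup.card_map_of_injective (Subgroup.subtype_injective _), hPc]
    refine ⟨U, Subgroup.map_subtype_le _, hUc, ?_, ?_⟩
    · rintro g hg _ ⟨u, hu, rfl⟩
      exact ⟨_, hPn.conj_mem u hu ⟨g, hg⟩, rfl⟩
    intro y hy z hz
    haveI : IsPGroup p U := IsPGroup.of_card (n := 1) (by rw [hUc, pow_one])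
    have hmoved : ¬ ∀ u : U, (u : G) • y = y := by
      intro hall
      have hmod := IsPGroup.card_modEq_card_fixedPoints ‹IsPGroup p U› α
      rw [hn] at hmod
      have hsub : ({x, y} : Set α) ⊆ fixedPoints U α := by
        rintro w (rfl | rfl) u
        · exact Subgroup.map_subtype_le _ u.2
        · exact hall u
      have h2 : 2 ≤ Nat.card (fixedPoints U α) := by
        rw [Nat.card_coe_set_eq, ← Set.ncard_pair hy.symm]
        exact Set.ncard_le_ncard hsub (Set.toFinite _)
      have h3 : Nat.card (fixedPoints U α) ≤ p + 1 := by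
        rw [← hn]; exact Nat.card_le_card_of_injective _ Subtype.val_injective
      have h4 : Nat.card (fixedPoints U α) = p + 1 := by
        obtain ⟨j, hj⟩ := Nat.exists_eq_add_of_le h2
        rcases h3.eq_or_lt with e | hlt
        · exact e
        · exfalso
          have hp2 := hp.two_le
          have h5 : (1 : ℕ) % p = (Nat.card (fixedPoints U α)) % p := by
            rw [← Nat.add_mod_left p 1]; exact hmod
          rcases Nat.lt_or_ge (Nat.card (fixedPoints U α)) p with h6 | h6
          · rw [Nat.one_mod_eq_one.mpr hp.one_lt.ne', Nat.mod_eq_of_lt h6] at h5; omega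
          · rw [Nat.one_mod_eq_one.mpr hp.one_lt.ne', show Nat.card (fixedPoints U α) = p by omega,
              Nat.mod_self] at h5
            exact one_ne_zero h5
      have hall' : ∀ w : α, w ∈ fixedPoints U α := by
        have h7 : fixedPoints U α = Set.univ := Set.eq_of_subset_of_ncard_le (Set.subset_univ _)
          (by rw [Set.ncard_univ, ← Nat.card_coe_set_eq, h4, hn])
        intro w; rw [h7]; trivial
      haveI : Nontrivial U := Finite.one_lt_card_iff_nontrivial.mp (hUc ▸ hp.one_lt)
      obtain ⟨u, hu⟩ := exists_ne (1 : U)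
      exact hu (Subtype.ext (eq_of_smul_eq_smul (α := α) fun w => by
        rw [OneMemClass.coe_one, one_smul]; exact hall' w u))
    have hinj : Function.Injective fun u : U => (⟨(u : G) • y, fun e => hy (MulAction.injective (u : G)
        (e.trans (Subgroup.map_subtype_le _ u.2).symm))⟩ : {w : α // w ≠ x}) := by
      intro u v e
      have hm : v⁻¹ * u ∈ stabilizer U y := by
        show ((v : G)⁻¹ * (u : G)) • y = y
        rw [mul_smul, show (u : G) • y = (v : G) • y from congrArg Subtype.val e, inv_smul_smul]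
      haveI : Fact (Nat.card U).Prime := ⟨hUc ▸ hp⟩
      rcases Subgroup.eq_bot_or_eq_top_of_prime_card (stabilizer U y) with hb | ht
      · rw [hb, Subgroup.mem_bot] at hm; exact (inv_mul_eq_one.mp hm).symm
      · refine absurd (fun u : U => ?_) hmoved
        have : u ∈ stabilizer U y := by rw [ht]; exact Subgroup.mem_top _
        exact this
    have hbij := (Nat.bijective_iff_injective_and_card _).mpr ⟨hinj, by
      rw [hUc, Nat.card_eq_fintype_card, Fintype.card_subtype_compl, Fintype.card_subtype_eq, hα,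
        Nat.add_sub_cancel]⟩
    obtain ⟨u, hu⟩ := hbij.2 ⟨z, hz⟩
    exact ⟨u, congrArg Subtype.val hu,
      fun v hv => hinj (Subtype.ext (hv.trans (congrArg Subtype.val hu).symm))⟩
  -- the data at `a`
  obtain ⟨U, hUle, hUc, hUn, hUreg⟩ := hkey a
  have hK : IsKernel U a b := ⟨hab, hUle, hUn, fun y hy => hUreg b hab.symm y hy⟩
  haveI : IsCyclic U := isCyclic_of_prime_card hUc
  have hUcomm : IsMulCommutative U := ⟨⟨fun u v => IsCyclic.commGroup.mul_comm u v⟩⟩
  have hH : Nat.card ↥(stabilizer G a ⊓ stabilizer G b) = d := by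
    have h1 := card_of_regular hab U hK.le hK.reg
    rw [hG, hn, hUc] at h1
    exact (Nat.eq_of_mul_eq_mul_left (show 0 < (p + 1) * p by have := hp.pos; positivity) (h1.trans (by ring))).symm
  have h2 : IsMultiplyPretransitive G α 2 := by
    rw [is_two_pretransitive_iff]
    intro x y x' y' hxy hxy'
    obtain ⟨g₁, hg₁⟩ := exists_smul_eq G x a
    obtain ⟨g₂, hg₂⟩ := exists_smul_eq G x' a
    have h1 : g₁ • y ≠ a := fun e => hxy (MulAction.injective g₁ (hg₁.trans e.symm))
    have h2 : g₂ • y' ≠ a := fun e => hxy' (MulAction.injective g₂ (hg₂.trans e.symm))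
    obtain ⟨u, hu, -⟩ := hUreg _ h1 _ h2
    refine ⟨g₂⁻¹ * (u : G) * g₁, ?_, ?_⟩
    · rw [mul_smul, mul_smul, hg₁, inv_smul_eq_iff, hg₂]
      exact hUle u.2
    · rw [mul_smul, mul_smul, inv_smul_eq_iff]
      exact hu
  have hsharp : ∀ g : G, ∀ x y z : α, x ≠ y → y ≠ z → x ≠ z →
      g • x = x → g • y = y → g • z = z → g = 1 := by
    intro g x y z hxy hyz hxz hgx hgy hgz
    obtain ⟨V, hVle, hVc, hVn, hVreg⟩ := hkey x
    obtain ⟨v, hv, -⟩ := hVreg y hxy.symm z hxz.symm
    have hv' : (v : G) • y = z := hv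
    have hconj : g * (v : G) * g⁻¹ = v := by
      have h := (hVreg y hxy.symm z hxz.symm).unique (y₁ := ⟨_, hVn g hgx v v.2⟩) (y₂ := v)
        (show (g * (v : G) * g⁻¹) • y = z by
          rw [mul_smul, mul_smul, inv_smul_eq_iff.mpr hgy.symm, hv', hgz]) hv
      exact congrArg Subtype.val h
    have hv1 : v ≠ 1 := fun e => hyz (by rw [← hv', e, OneMemClass.coe_one, one_smul])
    refine eq_of_smul_eq_smul (α := α) fun w => ?_
    rw [one_smul]
    by_cases hw : w = x
    · rw [hw, hgx]
    obtain ⟨u, hu, -⟩ := hVreg y hxy.symm w hw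
    have hu' : (u : G) • y = w := hu
    obtain ⟨i, hi⟩ := Subgroup.mem_zpowers_iff.mp
      (mem_zpowers_of_prime_card hVc hv1 (g' := u))
    have hcomm : g * (u : G) * g⁻¹ = u := by
      rw [← hi, Subgroup.coe_zpow, ← conj_zpow, hconj]
    rw [← hu', smul_smul, mul_inv_eq_iff_eq_mul.mp hcomm, mul_smul, hgy]
  have hfree : ∀ h ∈ stabilizer G a ⊓ stabilizer G b, h ≠ 1 → ∀ u ∈ U, h * u * h⁻¹ = u → u = 1 :=
    fun h hh h1 u hu hc => hK.free hh.2 hu hc
      (fun c hca hcb hc => hsharp h a b c hab hcb.symm hca.symm hh.1 hh.2 hc) h1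
  refine ⟨U, hK, hUcomm, hUc, hH, h2, hsharp, ?_, ?_⟩
  · rw [← hH]
    exact dvd_factor_sub_one U (stabilizer G a ⊓ stabilizer G b) hUcomm (fun h hh => hUn h hh.1) hfree
      (hUc.trans (mul_one p).symm) (Nat.coprime_one_right p)
  · refine ⟨⟨fun g k => Subtype.ext ?_⟩⟩
    haveI : Nontrivial U := Finite.one_lt_card_iff_nontrivial.mp (hUc ▸ hp.one_lt)
    obtain ⟨u, hu1⟩ := exists_ne (1 : U)
    have hpow : ∀ x ∈ stabilizer G a, ∃ i : ℤ, ∀ v : U, x * (v : G) * x⁻¹ = ((v ^ i : U) : G) := by
      intro x hx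
      obtain ⟨i, hi⟩ := Subgroup.mem_zpowers_iff.mp
        (mem_zpowers_of_prime_card hUc hu1 (g' := (⟨_, hUn x hx u u.2⟩ : U)))
      refine ⟨i, fun v => ?_⟩
      obtain ⟨j, rfl⟩ := Subgroup.mem_zpowers_iff.mp (mem_zpowers_of_prime_card hUc hu1 (g' := v))
      rw [Subgroup.coe_zpow, ← conj_zpow, Subgroup.coe_zpow, Subgroup.coe_zpow, ← zpow_mul,
        mul_comm, zpow_mul]
      congr 1
      exact (congrArg Subtype.val hi).symm.trans (by simp)
    obtain ⟨i, hi⟩ := hpow g g.2.1
    obtain ⟨j, hj⟩ := hpow k k.2.1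
    by_contra hne
    set w : G := ((k : G) * g)⁻¹ * ((g : G) * k) with hw
    have hwH : w ∈ stabilizer G a ⊓ stabilizer G b :=
      mul_mem (inv_mem (mul_mem k.2 g.2)) (mul_mem g.2 k.2)
    have hwu : w * (u : G) * w⁻¹ = u := by
      have e1 : ((g : G) * k) * (u : G) * ((g : G) * k)⁻¹ = (((u ^ j) ^ i : U) : G) := by
        rw [← hi, ← hj, mul_inv_rev]; simp only [mul_assoc]
      have e2 : ((k : G) * g) * (u : G) * ((k : G) * g)⁻¹ = (((u ^ i) ^ j : U) : G) := by
        rw [← hj, ← hi, mul_inv_rev]; simp only [mul_assoc]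
      rw [← zpow_mul, mul_comm, zpow_mul] at e1
      rw [← e2] at e1
      calc w * (u : G) * w⁻¹ = ((k : G) * g)⁻¹ * (((g : G) * k) * u * ((g : G) * k)⁻¹) * ((k : G) * g) := by
            simp only [hw, mul_inv_rev, inv_inv, mul_assoc]
        _ = _ := by rw [e1]; group
    have := hfree w hwH (fun e => hne (inv_mul_eq_one.mp e).symm) u u.2 hwu
    exact hu1 (Subtype.ext this)

end Cfsg.Agent.Lib.Zass
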