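import Cfsg.Agent.Lib.Zass.Sharp
import Mathlib.GroupTheory.Perm.Cycle.Type
import Mathlib.GroupTheory.SpecificGroups.Alternating
import Mathlib.LinearAlgebra.Determinant

/-!
Sharply three times transitive groups of degree `p ^ f + 1`, `p` and `f` odd, are `PGL(2, p ^ f)`.
-/

set_option autoImplicit false

namespace Cfsg.Agent.Lib.Zass

open MulAction

/-- An involutive automorphism of a field of order an odd power of an odd prime is trivial. -/
theorem involutive_eq_id {K : Type*} [Field K] [Fintype K] {p f : ℕ} (hp : p.Prime) (hf : Odd f)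
    (hK : Fintype.card K = p ^ f) (h2 : (2 : K) ≠ 0) (ψ : K →+* K) (hψ : ∀ x, ψ (ψ x) = x) :
    ∀ x, ψ x = x := by
  classical
  intro x
  by_contra hx
  set d : K →+ K := ψ.toAddMonoidHom - AddMonoidHom.id K with hd
  have hd' : ∀ y, d y = ψ y - y := fun y => rfl
  set w := ψ x - x with hw
  have hw0 : w ≠ 0 := sub_ne_zero.mpr hx
  have hwanti : ψ w = -w := by rw [hw, map_sub, hψ]; ring
  have hrange : ∀ y, ψ y = -y → y ∈ d.range := fun y hy => by
    refine ⟨-(y / 2), ?_⟩
    rw [hd', map_neg, map_div₀, hy, map_ofNat]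
    field_simp
    ring
  have e : Nat.card d.ker = Nat.card d.range := by
    refine Nat.card_eq_of_bijective (fun y => ⟨w * (y : K), hrange _ ?_⟩) ⟨fun y z h => ?_, fun z => ?_⟩
    · rw [map_mul, hwanti, sub_eq_zero.mp (show ψ (y : K) - y = 0 from y.2)]; ring
    · exact Subtype.ext (mul_left_cancel₀ hw0 (congrArg Subtype.val h))
    · obtain ⟨v, hv⟩ := z.2
      refine ⟨⟨(z : K) / w, ?_⟩, Subtype.ext (mul_div_cancel₀ _ hw0)⟩
      rw [AddMonoidHom.mem_ker, hd', map_div₀, hwanti, ← hv, hd', map_sub, hψ, sub_eq_zero]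
      field_simp
      ring
  have hcard : Nat.card K = Nat.card d.ker * Nat.card d.ker := by
    conv_rhs => arg 2; rw [e]
    rw [← AddSubgroup.card_mul_index d.ker, AddSubgroup.index_ker]
  rw [Nat.card_eq_fintype_card, hK] at hcard
  obtain ⟨i, -, hi⟩ := (Nat.dvd_prime_pow hp).mp (Dvd.intro _ hcard.symm)
  rw [hi, ← pow_add] at hcard
  have := Nat.pow_right_injective hp.two_le hcard
  obtain ⟨j, hj⟩ := hf
  omega

/-- The determinant of a linear action: it is `-1` on elements acting as inversion. -/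
theorem exists_det_char {V H : Type*} [AddCommGroup V] [Finite V] [Monoid H] {p f : ℕ}
    [Fact p.Prime] (hexp : ∀ v : V, p • v = 0) (hf : Odd f) (hcard : Nat.card V = p ^ f)
    (ρ : H →* AddMonoid.End V) :
    ∃ D : H →* ZMod p, ∀ g, (∀ v, ρ g v = -v) → D g = -1 := by
  letI := AddCommGroup.zmodModule (n := p) hexp
  let T : H →* (V →ₗ[ZMod p] V) :=
    { toFun := fun g => AddMonoidHom.toZModLinearMap p (M := V) (M₁ := V) (ρ g)
      map_one' := by ext v; simp; rfl
      map_mul' := fun g k => by ext v; simp; rfl }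
  refine ⟨LinearMap.det.comp T, fun g hg => ?_⟩
  have hfin : Module.finrank (ZMod p) V = f := by
    have h1 := Module.natCard_eq_pow_finrank (K := ZMod p) (V := V)
    rw [Nat.card_zmod, hcard] at h1
    exact (Nat.pow_right_injective (Fact.out : p.Prime).two_le h1).symm
  have e : T g = (-1 : ZMod p) • (LinearMap.id : V →ₗ[ZMod p] V) := LinearMap.ext fun v => by
    show ρ g v = _
    simp [hg v]
  show LinearMap.det (T g) = -1
  rw [e, LinearMap.det_smul, LinearMap.det_id, mul_one, hfin, hf.neg_one_pow]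

theorem pgl_of_sharp3_odd_exponent {α : Type*} [Fintype α] [DecidableEq α] {p f : ℕ} (hp : p.Prime)
    (hp2 : p ≠ 2) (hfo : Odd f) (hα : Fintype.card α = p ^ f + 1) (G : Subgroup (Equiv.Perm α))
    (h : Sharp3 G α) :
    ∃ (F : Type) (_ : Field F) (_ : Fintype F), Fintype.card F = p ^ f ∧
      Nonempty (G ≃* Matrix.ProjGenLinGroup (Fin 2) F) := by
  classical
  haveI := Fact.mk hp
  haveI := h.pretransitive
  have hn : Nat.card α = Fintype.card α := Nat.card_eq_fintype_card
  have hf0 : f ≠ 0 := fun e => by simp [e] at hfo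
  have hq3 : 3 ≤ p ^ f := le_trans (by have := hp.two_le; omega) (Nat.le_self_pow hf0 p)
  obtain ⟨a, b, hab⟩ := Fintype.exists_pair_of_one_lt_card (α := α) (by omega)
  obtain ⟨U, p', f', hK, hUc, hp', hf', hpf'⟩ := h.exists_isKernel hab
  have hcard := hK.card_eq
  have hUcard : Nat.card U = p ^ f := by omega
  set H := stabilizer G a ⊓ stabilizer G b with hH
  have hHcard : Nat.card H = p ^ f - 1 := by rw [hH, h.card_twoPt hab]; omega
  have hfree : ∀ g ∈ H, ∀ x, x ≠ a → x ≠ b → g • x = x → g = 1 := fun g hg x hxa hxb hx =>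
    h.free hab hg hxa hxb hx
  have hqodd : Odd (p ^ f) := (hp.odd_of_ne_two hp2).pow
  have hHeven : 2 ∣ Nat.card H := by rw [hHcard]; obtain ⟨k, hk⟩ := hqodd; omega
  by_cases hq : p ^ f = 3
  · -- the two-point stabiliser has order two
    obtain ⟨t, hta, htb⟩ := h.exists_pair hab hab.symm
    refine pgl_of_inverted hp hf0 U hK hUc hUcard hfree hHcard t hta htb fun x hx => ?_
    have h2 : Nat.card H = 2 := by omega
    have hm : t * x * t⁻¹ ∈ H :=
      ⟨show (t * x * t⁻¹) • a = a by
          rw [mul_smul, mul_smul, inv_smul_eq_iff.mpr htb.symm, show x • b = b from hx.2, htb],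
       show (t * x * t⁻¹) • b = b by
          rw [mul_smul, mul_smul, inv_smul_eq_iff.mpr hta.symm, show x • a = a from hx.1, hta]⟩
    obtain ⟨z, hz⟩ := (Nat.card_eq_two_iff' (1 : H)).mp h2
    by_cases hx1 : x = 1
    · simp [hx1]
    · have e1 : (⟨x, hx⟩ : H) = z := hz.2 _ fun e => hx1 (congrArg Subtype.val e)
      have e2 : (⟨t * x * t⁻¹, hm⟩ : H) = z :=
        hz.2 _ fun e => hx1 (conj_eq_one_iff.mp (congrArg Subtype.val e))
      have e3 : (⟨x, hx⟩ : H)⁻¹ = z := hz.2 _ fun e => hx1 (congrArg Subtype.val (inv_eq_one.mp e))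
      exact congrArg Subtype.val (e2.trans e3.symm)
  have hq5 : 5 ≤ p ^ f := by obtain ⟨k, hk⟩ := hqodd; omega
  -- the involution of `H` and the determinant
  haveI : Fact (Nat.Prime 2) := ⟨Nat.prime_two⟩
  have hinvol : ∀ z ∈ H, z ≠ 1 → z * z = 1 → ∀ u ∈ U, z * u * z⁻¹ = u⁻¹ := by
    intro z hz hz1 hzz u hu
    have hm : z * u * z⁻¹ ∈ U := hK.conj z hz.1 u hu
    refine eq_inv_of_mul_eq_one_left (hK.free hz.2 (u := z * u * z⁻¹ * u)
      (mul_mem hm hu) ?_ (fun c hca hcb hc => hfree z hz c hca hcb hc) hz1)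
    have hzi : z⁻¹ = z := inv_eq_of_mul_eq_one_right hzz
    calc z * (z * u * z⁻¹ * u) * z⁻¹ = u * (z⁻¹ * u * z⁻¹) := by
          simp only [← mul_assoc, hzz, one_mul]
      _ = u * (z * u * z⁻¹) := by rw [hzi]
      _ = _ := congrArg Subtype.val (hUc.is_comm.comm ⟨u, hu⟩ ⟨_, hm⟩)
  letI : AddCommGroup (Additive U) :=
    { (inferInstance : AddGroup (Additive U)) with
      add_comm := fun u v => Additive.toMul.injective (hUc.is_comm.comm u.toMul v.toMul) }
  haveI : Finite (Additive U) := inferInstanceAs (Finite U)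
  have hexp : ∀ v : Additive U, p • v = 0 := by
    intro v
    have hS := h.sharplyTwo a
    by_cases hv : v = 0
    · rw [hv, smul_zero]
    obtain ⟨⟨x, hx⟩, hord⟩ := exists_prime_orderOf_dvd_card' (G := U) p (hUcard ▸ dvd_pow_self p hf0)
    rw [Subgroup.orderOf_mk] at hord
    have hx1 : x ≠ 1 := fun e => hp.one_lt.ne (by rw [← hord, e, orderOf_one])
    have hv1 : (v.toMul : G) ≠ 1 := fun e => hv (Additive.toMul.injective (Subtype.ext e))
    have hxa : x • b ≠ a := hK.smul_ne ⟨x, hx⟩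
    have hxb : x • b ≠ b := fun e => hab (hK.fix_only hx hx1 e).symm
    have hva : (v.toMul : G) • b ≠ a := hK.smul_ne v.toMul
    have hvb : (v.toMul : G) • b ≠ b := fun e => hab (hK.fix_only v.toMul.2 hv1 e).symm
    obtain ⟨g, hga, hgb, hgx⟩ := h.trans a b (x • b) a b ((v.toMul : G) • b) hab hxb.symm hxa.symm
      hab hvb.symm hva.symm
    have e : g * x * g⁻¹ = v.toMul :=
      congrArg Subtype.val ((hK.reg _ hva).unique (y₁ := ⟨g * x * g⁻¹, hK.conj g hga x hx⟩)
        (by show (g * x * g⁻¹) • b = _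
            rw [mul_smul, mul_smul, inv_smul_eq_iff.mpr hgb.symm, hgx]) rfl)
    apply Additive.toMul.injective
    refine Subtype.ext ?_
    show ((v.toMul ^ p : U) : G) = 1
    rw [Subgroup.coe_pow, ← e, conj_pow, ← hord, pow_orderOf_eq_one, mul_one, mul_inv_cancel]
  let ρ : H →* AddMonoid.End (Additive U) :=
    { toFun := fun g => conjEnd U (g : G) (hK.conj _ g.2.1)
      map_one' := AddMonoidHom.ext fun v => Additive.toMul.injective (Subtype.ext (by
        show ((1 : H) : G) * (v.toMul : G) * ((1 : H) : G)⁻¹ = (v.toMul : G)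
        simp))
      map_mul' := fun g k => AddMonoidHom.ext fun v => Additive.toMul.injective (Subtype.ext (by
        show ((g * k : H) : G) * (v.toMul : G) * ((g * k : H) : G)⁻¹
          = (g : G) * ((k : G) * (v.toMul : G) * (k : G)⁻¹) * (g : G)⁻¹
        simp [mul_assoc])) }
  obtain ⟨D, hD⟩ := exists_det_char (V := Additive U) hexp hfo hUcard ρ
  haveI : Fact (2 < p) := ⟨by have := hp.two_le; omega⟩
  have hker : ∀ g : H, g * g = 1 → D g = 1 → g = 1 := by
    intro g hgg hg
    by_contra hg1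
    have hm1 : D g = -1 := hD g fun v => Additive.toMul.injective (Subtype.ext (by
      show (g : G) * (v.toMul : G) * (g : G)⁻¹ = ((v.toMul : U) : G)⁻¹
      exact hinvol g g.2 (fun e => hg1 (Subtype.ext e)) (congrArg Subtype.val hgg) _ v.toMul.2))
    rw [hm1] at hg
    exact ZMod.neg_one_ne_one hg
  -- a generator of a Sylow 2-subgroup of `H` is an odd permutation
  set P : Sylow 2 H := default
  have hPinj : Function.Injective (D.comp (P : Subgroup H).subtype).toHomUnits := by
    rw [injective_iff_map_eq_one]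
    intro x hx
    by_contra hx1
    obtain ⟨k, hk⟩ := IsPGroup.iff_orderOf.mp P.isPGroup' x
    obtain ⟨k', rfl⟩ : ∃ k', k = k' + 1 := ⟨k - 1, by
      have : k ≠ 0 := fun e => hx1 (orderOf_eq_one_iff.mp (by rw [hk, e, pow_zero]))
      omega⟩
    have hy : orderOf (x ^ 2 ^ k') = 2 := by
      rw [orderOf_pow' x (pow_ne_zero _ two_ne_zero), hk, Nat.gcd_eq_right (pow_dvd_pow 2 (by omega)),
        pow_succ, Nat.mul_div_cancel_left _ (pow_pos two_pos _)]
    have h1 : D (x ^ 2 ^ k' : P) = 1 := by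
      have h0 : D (x : H) = 1 := congrArg Units.val hx
      rw [Subgroup.coe_pow, map_pow, h0, one_pow]
    have h2 := hker _ (by
      rw [← Subgroup.coe_mul, ← pow_two, ← Subgroup.coe_one (H := (P : Subgroup H))]
      exact congrArg Subtype.val (orderOf_dvd_iff_pow_eq_one.mp hy.dvd)) h1
    rw [← Subgroup.coe_one, SetLike.coe_eq_coe] at h2
    rw [h2, orderOf_one] at hy
    omega
  haveI : IsCyclic (P : Subgroup H) := isCyclic_of_injective _ hPinj
  obtain ⟨x₀, hx₀⟩ := IsCyclic.exists_generator (α := (P : Subgroup H))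
  set g₀ : G := ((x₀ : H) : G) with hg₀
  have hg₀H : g₀ ∈ H := (x₀ : H).2
  have hord : orderOf g₀ = 2 ^ (Nat.card H).factorization 2 := by
    rw [hg₀, Subgroup.orderOf_coe, Subgroup.orderOf_coe, orderOf_eq_card_of_forall_mem_zpowers hx₀,
      P.card_eq_multiplicity]
  set k := (Nat.card H).factorization 2 with hk
  have hk1 : 1 ≤ k := Nat.prime_two.factorization_pos_of_dvd Nat.card_pos.ne' hHeven
  have hsign : Equiv.Perm.sign (g₀ : Equiv.Perm α) = -1 := by
    set σ := (g₀ : Equiv.Perm α) with hσ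
    have hoσ : orderOf σ = 2 ^ k := by rw [hσ, Subgroup.orderOf_coe, hord]
    have hσne : σ ≠ 1 := by
      intro e
      rw [e, orderOf_one] at hoσ
      have := Nat.le_self_pow (show k ≠ 0 by omega) 2
      omega
    have hfixpow : ∀ i, ¬ (2 ^ k ∣ i) → ∀ x, x ≠ a → x ≠ b → (σ ^ i) x ≠ x := by
      intro i hi x hxa hxb hx
      have := hfree (g₀ ^ i) (pow_mem hg₀H i) x hxa hxb hx
      exact hi (hord ▸ orderOf_dvd_of_pow_eq_one this)
    have hsupp : σ.support = ({a, b} : Finset α)ᶜ := by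
      ext x
      simp only [Equiv.Perm.mem_support, Finset.mem_compl, Finset.mem_insert, Finset.mem_singleton,
        not_or]
      constructor
      · exact fun hx => ⟨fun e => hx (by rw [e]; exact hg₀H.1), fun e => hx (by rw [e]; exact hg₀H.2)⟩
      · rintro ⟨hxa, hxb⟩
        have h1 := hfixpow 1 (fun e => by
          have := Nat.le_of_dvd one_pos e
          have := Nat.le_self_pow (show k ≠ 0 by omega) 2
          omega) x hxa hxb
        rwa [pow_one] at h1
    have hcyc : ∀ n ∈ σ.cycleType, n = 2 ^ k := by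
      intro n hn
      have hdvd : n ∣ 2 ^ k := hoσ ▸ Equiv.Perm.dvd_of_mem_cycleType hn
      by_contra hne
      rw [Equiv.Perm.cycleType_def, Multiset.mem_map] at hn
      obtain ⟨c, hc, hcn⟩ := hn
      have hc' : c.IsCycle ∧ ∀ x ∈ c.support, c x = σ x :=
        Equiv.Perm.mem_cycleFactorsFinset_iff.mp hc
      obtain ⟨x, hx⟩ := hc'.1.nonempty_support
      have hxs : x ∈ σ.support := Equiv.Perm.mem_cycleFactorsFinset_support_le hc hx
      rw [hsupp, Finset.mem_compl, Finset.mem_insert, Finset.mem_singleton, not_or] at hxs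
      have hcx : σ.cycleOf x = c := (Equiv.Perm.cycle_is_cycleOf hx hc).symm
      refine hfixpow n (fun e => hne (Nat.dvd_antisymm hdvd e)) x hxs.1 hxs.2 ?_
      rw [← Equiv.Perm.cycleOf_pow_apply_self, hcx, ← hcn, Function.comp_apply, ← hc'.1.orderOf,
        pow_orderOf_eq_one]
      rfl
    rw [Equiv.Perm.sign_of_cycleType, Multiset.eq_replicate_of_mem hcyc, Multiset.sum_replicate,
      Multiset.card_replicate]
    set m := Multiset.card σ.cycleType with hm
    have hsum : m * 2 ^ k = Nat.card H := by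
      have h1 := Equiv.Perm.sum_cycleType σ
      rw [Multiset.eq_replicate_of_mem hcyc, Multiset.sum_replicate, smul_eq_mul, hsupp,
        Finset.card_compl, Finset.card_pair hab] at h1
      rw [hHcard, hm]; omega
    have hmodd : Odd m := by
      rw [← Nat.not_even_iff_odd, even_iff_two_dvd]
      rintro ⟨c, hc⟩
      have : 2 ^ (k + 1) ∣ Nat.card H := ⟨c, by rw [← hsum, hc]; ring⟩
      rw [hk] at this
      exact Nat.pow_succ_factorization_not_dvd Nat.card_pos.ne' Nat.prime_two this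
    refine Odd.neg_one_pow ?_
    rw [smul_eq_mul]
    exact Even.add_odd ((Nat.even_pow.mpr ⟨even_two, by omega⟩).mul_left m) hmodd
  -- the subgroup of even permutations
  let G₁ : Subgroup G := (alternatingGroup α).subgroupOf G
  have hmem₁ : ∀ g : G, g ∈ G₁ ↔ Equiv.Perm.sign (g : Equiv.Perm α) = 1 := fun g =>
    Subgroup.mem_subgroupOf.trans Equiv.Perm.mem_alternatingGroup
  haveI hG₁n : G₁.Normal := ⟨fun x hx g => (hmem₁ _).mpr (by
    rw [Subgroup.coe_mul, Subgroup.coe_mul, Subgroup.coe_inv, map_mul, map_mul, (hmem₁ x).mp hx,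
      mul_one, map_inv, mul_inv_cancel])⟩
  have hfix₀ : g₀ • a = a ∧ g₀ • b = b := hg₀H
  have hmul₀ : ∀ g : G, g ∈ G₁ ∨ g * g₀ ∈ G₁ := fun g => by
    rcases Int.units_eq_one_or (Equiv.Perm.sign (g : Equiv.Perm α)) with e | e
    · exact Or.inl ((hmem₁ g).mpr e)
    · exact Or.inr ((hmem₁ _).mpr (by rw [Subgroup.coe_mul, map_mul, e, hsign]; rfl))
  have hg₀not : g₀ ∉ G₁ := fun e => by
    rw [hmem₁, hsign] at e; exact absurd e (by decide)
  have hidx : G₁.index = 2 := by
    rw [Subgroup.index_eq_two_iff]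
    refine ⟨g₀, fun g => ?_⟩
    rcases hmul₀ g with e | e
    · refine Or.inr ⟨e, fun e' => hg₀not ?_⟩
      simpa using mul_mem (inv_mem e) e'
    · refine Or.inl ⟨e, fun e' => hg₀not ?_⟩
      simpa using mul_mem (inv_mem e') e
  have hUG₁ : U ≤ G₁ := by
    intro u hu
    rw [hmem₁]
    rcases Int.units_eq_one_or (Equiv.Perm.sign (u : Equiv.Perm α)) with e | e
    · exact e
    · have h1 : (⟨u, hu⟩ : U) ^ Nat.card U = 1 := pow_card_eq_one'
      have h2 := congrArg (fun z : U => Equiv.Perm.sign ((z : G) : Equiv.Perm α)) h1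
      simp only [Subgroup.coe_pow, map_pow, e, Subgroup.coe_one, map_one, hUcard,
        hqodd.neg_one_pow] at h2
      exact absurd h2 (by decide)
  have hmove : ∀ x y : α, x ≠ y → ∀ x' y' : α, x' ≠ y' →
      ∃ g : G₁, g • x = x' ∧ g • y = y' := by
    intro x y hxy x' y' hxy'
    obtain ⟨c₁, hc1a, hc1b⟩ := h.exists_pair hxy hab
    obtain ⟨c₂, hc2a, hc2b⟩ := h.exists_pair hab hxy'
    rcases hmul₀ (c₂ * c₁) with e | e
    · exact ⟨⟨_, e⟩, (mul_smul c₂ c₁ x).trans (by rw [hc1a, hc2a]),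
        (mul_smul c₂ c₁ y).trans (by rw [hc1b, hc2b])⟩
    · have e' : c₂ * g₀ * c₁ ∈ G₁ := by
        have := hG₁n.conj_mem _ e (c₂⁻¹)
        rw [hmem₁] at e this ⊢
        simp only [Subgroup.coe_mul, map_mul] at e ⊢
        rw [mul_right_comm]; exact e
      exact ⟨⟨_, e'⟩, (mul_smul (c₂ * g₀) c₁ x).trans (by rw [hc1a, mul_smul, hfix₀.1, hc2a]),
        (mul_smul (c₂ * g₀) c₁ y).trans (by rw [hc1b, mul_smul, hfix₀.2, hc2b])⟩
  -- `G` is a Zassenhaus group
  have hfix3 : ∀ g : G, ∀ x y z : α, x ≠ y → y ≠ z → x ≠ z → g • x = x → g • y = y → g • z = z → g = 1 :=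
    h.sharp
  have hZ : Cfsg.IsZassenhausGroup G α := by
    refine ⟨inferInstance, h.twoPretransitive, hfix3, ⟨g₀, fun e => hg₀not (e ▸ one_mem _), a, b, hab,
      hfix₀.1, hfix₀.2⟩, fun M hM htr => ?_⟩
    by_contra hM'
    push Not at hM'
    have hMfree : ∀ x ∈ M, ∀ c : α, x • c = c → x = 1 := fun x hx c hc => by
      have hm : (⟨x, hx⟩ : M) ∈ stabilizer M c := hc
      rw [hM' c, Subgroup.mem_bot] at hm
      exact congrArg Subtype.val hm
    have hMcard : Nat.card M = p ^ f + 1 := by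
      rw [← hα, ← hn]
      exact Nat.card_eq_of_bijective (fun m : M => m • a)
        ⟨fun m m' e => Subtype.ext (inv_mul_eq_one.mp (hMfree _ (mul_mem (inv_mem m'.2) m.2) a (by
          rw [mul_smul]; exact inv_smul_eq_iff.mpr e))).symm, fun y => htr.exists_smul_eq a y⟩
    obtain ⟨r, hr, hexpM⟩ := regular_exponent h.twoPretransitive M hM hMfree a
      (fun e => by rw [e, Subgroup.card_bot] at hMcard; omega)
    haveI := Fact.mk hr
    have hr2 : r = 2 := by
      have h2 : 2 ∣ Nat.card M := by rw [hMcard]; obtain ⟨j, hj⟩ := hqodd; omega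
      obtain ⟨⟨m, hm⟩, hmo⟩ := exists_prime_orderOf_dvd_card' 2 h2
      rw [Subgroup.orderOf_mk] at hmo
      have := orderOf_dvd_of_pow_eq_one (hexpM m hm)
      rw [hmo] at this
      exact ((Nat.prime_dvd_prime_iff_eq Nat.prime_two hr).mp this).symm
    subst hr2
    have hsq : ∀ m ∈ M, m * m = 1 := fun m hm => by rw [← pow_two]; exact hexpM m hm
    have hMcomm : ∀ x ∈ M, ∀ y ∈ M, x * y = y * x := fun x hx y hy => by
      have h1 := hsq _ (mul_mem hx hy)
      rw [mul_eq_one_iff_eq_inv, mul_inv_rev, inv_eq_of_mul_eq_one_right (hsq x hx),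
        inv_eq_of_mul_eq_one_right (hsq y hy)] at h1
      exact h1
    obtain ⟨⟨z, hz⟩, hzo⟩ := exists_prime_orderOf_dvd_card' (G := H) 2 hHeven
    rw [Subgroup.orderOf_mk] at hzo
    have hz1 : z ≠ 1 := fun e => by rw [e, orderOf_one] at hzo; omega
    have hzz : z * z = 1 := by rw [← pow_two, ← hzo, pow_orderOf_eq_one]
    have hzi : z⁻¹ = z := inv_eq_of_mul_eq_one_right hzz
    have hconj : ∀ m ∈ M, z * m * z ∈ M := fun m hm => by
      have := hM.conj_mem m hm z; rwa [hzi] at this
    let δ : M →* M :=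
      { toFun := fun m => ⟨(m : G) * (z * m * z), mul_mem m.2 (hconj _ m.2)⟩
        map_one' := Subtype.ext (by simp [hzz])
        map_mul' := fun m m' => Subtype.ext (by
          show (m : G) * m' * (z * ((m : G) * m') * z) = m * (z * m * z) * (m' * (z * m' * z))
          rw [show z * ((m : G) * m') * z = (z * m * z) * (z * m' * z) by
            rw [show (z * m * z) * (z * m' * z) = z * m * (z * z) * m' * z by simp only [mul_assoc],
              hzz, mul_one]; simp only [mul_assoc]]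
          rw [mul_assoc, ← mul_assoc (m' : G), hMcomm _ m'.2 _ (hconj _ m.2)]
          simp only [mul_assoc]) }
    have hkerfix : ∀ m : M, δ m = 1 → (m : G) • a = a ∨ (m : G) • a = b := by
      intro m hm
      have h1 : (m : G) * (z * m * z) = 1 := congrArg Subtype.val hm
      have h2 : z * (m : G) * z = m :=
        (eq_inv_of_mul_eq_one_right h1).trans (inv_eq_of_mul_eq_one_right (hsq m m.2))
      have h3 : z • ((m : G) • a) = (m : G) • a := by
        conv_rhs => rw [← h2]
        rw [mul_smul, mul_smul, show z • a = a from hz.1]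
      by_contra hc
      push Not at hc
      exact hz1 (hfree z hz _ hc.1 hc.2 h3)
    have hker2 : Nat.card δ.ker ≤ 2 := by
      refine (Nat.card_le_card_of_injective (fun m : δ.ker =>
        (⟨((m : M) : G) • a, hkerfix m m.2⟩ : {y : α // y = a ∨ y = b})) fun m m' e => ?_).trans ?_
      · refine Subtype.ext (Subtype.ext (inv_mul_eq_one.mp (hMfree _
          (mul_mem (inv_mem (m' : M).2) (m : M).2) a ?_)).symm)
        rw [mul_smul, show ((m : M) : G) • a = ((m' : M) : G) • a from congrArg Subtype.val e,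
          inv_smul_smul]
      · rw [Nat.card_eq_fintype_card, Fintype.card_subtype,
          show (Finset.univ.filter fun y : α => y = a ∨ y = b) = {a, b} by ext y; simp]
        exact Finset.card_le_two
    have hran : δ.range ≤ δ.ker := by
      rintro _ ⟨m, rfl⟩
      refine Subtype.ext ?_
      show (m : G) * (z * m * z) * (z * ((m : G) * (z * m * z)) * z) = 1
      have e : z * ((m : G) * (z * m * z)) * z = (z * m * z) * m := by
        calc z * ((m : G) * (z * m * z)) * z = (z * m * z) * m * (z * z) := by simp only [mul_assoc]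
          _ = _ := by rw [hzz, mul_one]
      rw [e, ← hMcomm _ m.2 _ (hconj _ m.2)]
      exact hsq _ (mul_mem m.2 (hconj _ m.2))
    have h4 : Nat.card M ≤ 2 * 2 := by
      rw [← Subgroup.card_mul_index δ.ker, Subgroup.index_ker]
      exact Nat.mul_le_mul hker2 ((Subgroup.card_le_of_le hran).trans hker2)
    omega
  -- the even permutations form a Zassenhaus group
  haveI : FaithfulSMul G₁ α := ⟨fun e => Subtype.ext (eq_of_smul_eq_smul fun x : α => e x)⟩
  have h2G₁ : IsMultiplyPretransitive G₁ α 2 :=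
    is_two_pretransitive_iff.mpr fun {x y x' y'} hxy hxy' => hmove x y hxy x' y' hxy'
  haveI : IsPretransitive G₁ α := isPretransitive_of_is_two_pretransitive
  let V : Subgroup G₁ := U.subgroupOf G₁
  have hKV : IsKernel V a b :=
    { ne := hab
      le := fun x hx => hK.le (hx : (x : G) ∈ U)
      conj := fun x hx u hu => hK.conj (x : G) hx (u : G) hu
      reg := fun y hy => by
        obtain ⟨u, hu, huu⟩ := hK.reg y hy
        exact ⟨⟨⟨u, hUG₁ u.2⟩, u.2⟩, hu, fun w hw => Subtype.ext (Subtype.ext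
          (congrArg Subtype.val (huu ⟨((w : G₁) : G), w.2⟩ hw) : ((w : G₁) : G) = u))⟩ }
  have hVc : IsMulCommutative V := ⟨⟨fun x y => Subtype.ext (Subtype.ext
    (congrArg (fun z : U => (z : G))
      (hUc.is_comm.comm ⟨((x : G₁) : G), x.2⟩ ⟨((y : G₁) : G), y.2⟩) :))⟩⟩
  have hVcard : Nat.card V = p ^ f := by
    rw [Nat.card_congr (Subgroup.subgroupOfEquivOfLe hUG₁).toEquiv, hUcard]
  set H₁ := stabilizer G₁ a ⊓ stabilizer G₁ b with hH₁
  have hH₁card : 2 * Nat.card H₁ = p ^ f - 1 := by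
    have e1 := card_of_regular hab U hK.le hK.reg
    have e2 := card_of_regular (G := G₁) hab V hKV.le hKV.reg
    rw [← Subgroup.card_mul_index G₁, hidx, e2, ← hH, hHcard, hUcard, hVcard] at e1
    refine Nat.eq_of_mul_eq_mul_left (show 0 < Nat.card α * p ^ f by
      rw [hn, hα]; positivity) ?_
    rw [mul_assoc (Nat.card α) (p ^ f) (p ^ f - 1), ← e1]
    ring
  have hZ₁ : Cfsg.IsZassenhausGroup G₁ α := by
    refine ⟨inferInstance, h2G₁, fun x q₁ q₂ q₃ h12 h23 h13 e1 e2 e3 => Subtype.ext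
      (hfix3 (x : G) q₁ q₂ q₃ h12 h23 h13 e1 e2 e3), ?_, fun M hM htr => ?_⟩
    · haveI : Nontrivial H₁ := Finite.one_lt_card_iff_nontrivial.mp (by omega)
      obtain ⟨⟨x, hx⟩, hx1⟩ := exists_ne (1 : H₁)
      exact ⟨x, fun e => hx1 (Subtype.ext e), a, b, hab, hx.1, hx.2⟩
    · by_contra hM'
      push Not at hM'
      refine no_regular_in_normal hZ G₁ hG₁n h2G₁ M hM htr (fun x hx c hc => ?_) a
      have hm : (⟨x, hx⟩ : M) ∈ stabilizer M c := hc
      rw [hM' c, Subgroup.mem_bot] at hm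
      exact congrArg Subtype.val hm
  obtain ⟨s, hsa, hsb, hss, hsinv⟩ :=
    (abelian_kernel_struct hZ₁ hKV hVc).2 (by rw [hVcard, hH₁card])
  obtain ⟨K, _, _, e, hKc, hKodd, hea, heb, hVact, hVsurj, hsqact, hsqsurj, s', hs'a, hs'⟩ :=
    coords_of_inverted (G := G₁) hp hf0 hab (fun g hga hgb x hxa hxb hgx => Subtype.ext
      (hfix3 (g : G) a b x hab hxb.symm hxa.symm hga hgb hgx))
      V hKV.le hKV.conj hVc hVcard hKV.reg hH₁card s hsa hsb hss hsinv
  have h2K : (2 : K) ≠ 0 := Ring.two_ne_zero hKodd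
  have htr : ∀ z x : K, ∀ u : G, ActsAs e u (affine 1 z) → u • e (some x) = e (some (x + z)) :=
    fun z x u hu => by rw [hu (some x)]; simp [affine]
  -- every element of `H` is linear
  have hlin : ∀ g ∈ H, ∃ c : K, c ≠ 0 ∧ ActsAs e g (affine c 0) := by
    intro g hg
    have hgn : g • e none = e none := by rw [hea]; exact hg.1
    have hg0 : g • e (some 0) = e (some 0) := by rw [heb]; exact hg.2
    have hsome : ∀ x : K, ∃ y : K, g • e (some x) = e (some y) := by
      intro x
      rcases hy : e.symm (g • e (some x)) with _ | y <;> have hy' := e.symm_apply_eq.mp hy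
      · rw [← hgn] at hy'
        exact absurd (e.injective (smul_left_cancel g hy')) (Option.some_ne_none x)
      · exact ⟨y, hy'⟩
    choose ψ₀ hψ₀ using hsome
    have hψ00 : ψ₀ 0 = 0 := Option.some.inj (e.injective ((hψ₀ 0).symm.trans hg0))
    have hγ0 : ψ₀ 1 ≠ 0 := fun e0 => one_ne_zero (α := K) (Option.some.inj (e.injective
      (smul_left_cancel g ((hψ₀ 1).trans (by rw [e0, hg0])))))
    have hadd : ∀ x z : K, ψ₀ (x + z) = ψ₀ x + ψ₀ z := by
      intro x z
      obtain ⟨u, hu, huz⟩ := hVsurj z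
      have hm : g * (u : G) * g⁻¹ ∈ U := hK.conj g hg.1 _ hu
      obtain ⟨z', hz'⟩ := hVact ⟨_, hUG₁ hm⟩ hm
      have key : ∀ y : K, ψ₀ (y + z) = ψ₀ y + z' := by
        intro y
        have h1 : (g * (u : G) * g⁻¹) • e (some (ψ₀ y)) = e (some (ψ₀ y + z')) :=
          htr z' _ (g * (u : G) * g⁻¹) (fun w => hz' w)
        rw [← hψ₀ y, mul_smul, mul_smul, inv_smul_smul, htr z y (u : G) (fun w => huz w), hψ₀] at h1
        exact Option.some.inj (e.injective h1)
      have := key 0
      rw [zero_add, hψ00, zero_add] at this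
      rw [key, this]
    have hsq : ∀ c x : K, ψ₀ (c * c * x) * ψ₀ 1 = ψ₀ (c * c) * ψ₀ x := by
      intro c x
      by_cases hc : c = 0
      · simp [hc, hψ00]
      obtain ⟨k₁, hk₁, hk₁c⟩ := hsqsurj c hc
      have hm : g * (k₁ : G) * g⁻¹ ∈ G₁ := hG₁n.conj_mem _ k₁.2 g
      have hk₁a : (k₁ : G) • a = a := hk₁.1
      have hk₁b : (k₁ : G) • b = b := hk₁.2
      have hma : (⟨_, hm⟩ : G₁) ∈ H₁ :=
        ⟨show (g * (k₁ : G) * g⁻¹) • a = a by
          rw [mul_smul, mul_smul, inv_smul_eq_iff.mpr hg.1.symm, hk₁a, show g • a = a from hg.1],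
         show (g * (k₁ : G) * g⁻¹) • b = b by
          rw [mul_smul, mul_smul, inv_smul_eq_iff.mpr hg.2.symm, hk₁b, show g • b = b from hg.2]⟩
      obtain ⟨c', -, hc'⟩ := hsqact _ hma
      have key : ∀ y : K, ψ₀ (c * c * y) = c' * c' * ψ₀ y := by
        intro y
        have h1 : (g * (k₁ : G) * g⁻¹) • e (some (ψ₀ y)) = e (some (c' * c' * ψ₀ y)) := by
          have h2 : (g * (k₁ : G) * g⁻¹) • e (some (ψ₀ y)) = e (affine (c' * c') 0 (some (ψ₀ y))) :=
            hc' (some (ψ₀ y))
          simpa [affine] using h2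
        have h3 : (k₁ : G) • e (some y) = e (some (c * c * y)) := by
          have h4 : (k₁ : G) • e (some y) = e (affine (c * c) 0 (some y)) := hk₁c (some y)
          simpa [affine] using h4
        rw [← hψ₀ y, mul_smul, mul_smul, inv_smul_smul, h3, hψ₀] at h1
        exact Option.some.inj (e.injective h1)
      have h5 := key 1
      rw [mul_one] at h5
      rw [key, h5]; ring
    set ψ : K → K := fun x => ψ₀ x / ψ₀ 1 with hψ
    have hψsq : ∀ c x : K, ψ (c * c * x) = ψ (c * c) * ψ x := by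
      intro c x
      simp only [hψ]
      field_simp
      have := hsq c x; simp only [pow_two] at *; linear_combination this
    have hdiff : ∀ y : K, ∃ c d : K, y = c * c - d * d := fun y =>
      ⟨(y + 1) / 2, (y - 1) / 2, by field_simp; ring⟩
    have hψadd : ∀ x z, ψ (x + z) = ψ x + ψ z := fun x z => by simp only [hψ, hadd, add_div]
    have hψsub : ∀ x z, ψ (x - z) = ψ x - ψ z := fun x z => by
      rw [eq_sub_iff_add_eq, ← hψadd, sub_add_cancel]
    let Ψ : K →+* K :=
      { toFun := ψ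
        map_one' := div_self hγ0
        map_zero' := by simp [hψ, hψ00]
        map_add' := hψadd
        map_mul' := fun y x => by
          obtain ⟨c, d, rfl⟩ := hdiff y
          rw [sub_mul, hψsub, hψsub, hψsq, hψsq, sub_mul] }
    have hΨ0 : ∀ x, ψ₀ x = ψ₀ 1 * Ψ x := fun x => (mul_div_cancel₀ _ hγ0).symm
    have hg2 : (⟨g * g, (hmem₁ _).mpr (by rw [Subgroup.coe_mul, map_mul, Int.units_mul_self])⟩ : G₁)
        ∈ H₁ :=
      ⟨(pow_two g ▸ pow_mem hg 2 : g * g ∈ H).1, (pow_two g ▸ pow_mem hg 2 : g * g ∈ H).2⟩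
    obtain ⟨c, -, hc⟩ := hsqact _ hg2
    have hΨΨ : ∀ x, Ψ (Ψ x) = x := by
      have h1 : ∀ x, ψ₀ 1 * Ψ (ψ₀ 1) * Ψ (Ψ x) = c * c * x := by
        intro x
        have h2 : (g * g) • e (some x) = e (affine (c * c) 0 (some x)) := hc (some x)
        rw [mul_smul, hψ₀, hψ₀] at h2
        have h3 : ψ₀ (ψ₀ x) = c * c * x := by
          simpa [affine] using e.injective h2
        rw [← h3, hΨ0 x, hΨ0 (ψ₀ 1 * Ψ x), map_mul, mul_assoc]
      intro x
      have h2 := h1 1
      rw [map_one, map_one, mul_one, mul_one] at h2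
      have h3 := h1 x
      rw [h2] at h3
      refine mul_left_cancel₀ ?_ h3
      rw [← h2]
      exact mul_ne_zero hγ0 ((map_ne_zero Ψ).mpr hγ0)
    have hid := involutive_eq_id hp hfo hKc h2K Ψ hΨΨ
    refine ⟨ψ₀ 1, hγ0, ?_⟩
    rintro (_ | x)
    · rw [hgn]; rfl
    · rw [hψ₀, hΨ0, hid]; simp [affine]
  refine ⟨K, inferInstance, inferInstance, hKc,
    iso_pgl e ((stabilizer G a : Set G) ∪ {((s' : G₁) : G)}) ?_ ?_ ?_⟩
  · rw [eq_top_iff]
    intro g _
    set S : Subgroup G := Subgroup.closure ((stabilizer G a : Set G) ∪ {((s' : G₁) : G)})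
    have hstab : stabilizer G a ≤ S := fun x hx => Subgroup.subset_closure (Or.inl hx)
    by_cases hga : g • a = a
    · exact hstab hga
    · obtain ⟨u, hu, -⟩ := hK.reg _ hga
      have hs'a' : ((s' : G₁) : G) • a = b := hs'a
      have hus : (u : G) * ((s' : G₁) : G) ∈ S :=
        mul_mem (hstab (hK.le u.2)) (Subgroup.subset_closure (Or.inr rfl))
      have hmem : ((u : G) * ((s' : G₁) : G))⁻¹ * g ∈ stabilizer G a := by
        show (((u : G) * ((s' : G₁) : G))⁻¹ * g) • a = a
        rw [mul_smul, inv_smul_eq_iff, mul_smul, hs'a', hu]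
      have := mul_mem hus (hstab hmem)
      rwa [mul_inv_cancel_left] at this
  · rintro g (hg | rfl)
    · left
      obtain ⟨u, hu, -⟩ := hK.reg (g • b) fun hh => hab (MulAction.injective g (hh.trans hg.symm)).symm
      obtain ⟨z, hz⟩ := hVact ⟨(u : G), hUG₁ u.2⟩ u.2
      obtain ⟨c, hc0, hc⟩ := hlin ((u : G)⁻¹ * g)
        ⟨(mul_mem (inv_mem (hK.le u.2)) hg : (u : G)⁻¹ * g ∈ stabilizer G a), by
          show ((u : G)⁻¹ * g) • b = b
          rw [mul_smul, inv_smul_eq_iff, hu]⟩
      refine ⟨c, z, hc0, ?_⟩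
      have := actsAs_mul (g := (u : G)) (fun w => hz w) hc
      rw [mul_inv_cancel_left] at this
      refine actsAs_congr this fun x => ?_
      rcases x with _ | x <;> simp [affine]
    · exact Or.inr ⟨-1, neg_ne_zero.mpr one_ne_zero, fun w => hs' w⟩
  · rw [card_of_regular hab U hK.le hK.reg, hUcard, ← hH, hHcard, ← Nat.card_congr e,
      Finite.card_option, Nat.card_eq_fintype_card, hKc]
    have : (p ^ f) ^ 2 - 1 = (p ^ f + 1) * (p ^ f - 1) := by
      rw [← one_pow 2, Nat.sq_sub_sq, one_pow]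
    rw [this]
    exact le_of_eq (by ring)

end Cfsg.Agent.Lib.Zass
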