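import Cfsg.Agent.Lib.Thompson.QuaternionSection
import Cfsg.Agent.Lib.OddLocal.CoprimeOdd
import Cfsg.Agent.Lib.LocalP2.HSubgroup
import Mathlib.GroupTheory.Perm.Sign

/-!
Groups with a unique involution, at most one subgroup of order three, an involutive automorphism
fixing only the two central elements and no subgroup of index two.
-/

set_option autoImplicit false

namespace Cfsg.Agent.Lib.Zass

open Subgroup

/-- A normal subgroup with quotient a nontrivial 2-group gives a subgroup of index 2. -/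
theorem exists_index_two_of_quotient {H : Type*} [Group H] [Finite H] (N : Subgroup H) [N.Normal]
    {k : ℕ} (hk : N.index = 2 ^ (k + 1)) : ∃ M : Subgroup H, M.index = 2 := by
  haveI : Fact (Nat.Prime 2) := ⟨Nat.prime_two⟩
  rw [index_eq_card] at hk
  obtain ⟨M, hM⟩ := Sylow.exists_subgroup_card_pow_prime (G := H ⧸ N) 2 (n := k)
    (hk ▸ pow_dvd_pow 2 (Nat.le_succ k))
  refine ⟨M.comap (QuotientGroup.mk' N), ?_⟩
  rw [index_comap_of_surjective _ (QuotientGroup.mk'_surjective N)]
  have h := M.card_mul_index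
  rw [hM, hk, pow_succ] at h
  exact Nat.eq_of_mul_eq_mul_left (pow_pos two_pos k) h

theorem exists_index_two_of_npc {H : Type*} [Group H] [Finite H]
    (h : Cfsg.HasNormalPComplement 2 H) (h2 : 2 ∣ Nat.card H) : ∃ M : Subgroup H, M.index = 2 := by
  haveI : Fact (Nat.Prime 2) := ⟨Nat.prime_two⟩
  obtain ⟨P, N, hN, hc⟩ := h
  obtain ⟨k, hk⟩ : ∃ k, (Nat.card H).factorization 2 = k + 1 :=
    ⟨(Nat.card H).factorization 2 - 1, by
      have := Nat.prime_two.factorization_pos_of_dvd Nat.card_pos.ne' h2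
      omega⟩
  refine exists_index_two_of_quotient N (k := k) ?_
  rw [hc.symm.index_eq_card, P.card_eq_multiplicity, hk]

private abbrev Q8 := QuaternionGroup 2

/-- The class of an element of order four of `Q8`. -/
def q8cls : Q8 → Fin 3
  | .a _ => 0
  | .xa i => if i = 0 ∨ i = 2 then 1 else 2

/-- Representatives of the classes. -/
def q8rep : Fin 3 → Q8 := ![QuaternionGroup.a 1, QuaternionGroup.xa 0, QuaternionGroup.xa 1]

theorem q8cls_facts : (∀ x : Q8, x ^ 2 ≠ 1 →
      (x = q8rep (q8cls x) ∨ x = q8rep (q8cls x) * q8rep (q8cls x) * q8rep (q8cls x))) ∧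
    (∀ x : Q8, x ^ 2 ≠ 1 → q8cls (x * x * x) = q8cls x) ∧
    (∀ i, q8rep i ^ 2 ≠ 1 ∧ q8cls (q8rep i) = i) ∧
    (∀ w : Q8, w = 1 ∨ w = q8rep 0 * q8rep 0 ∨ w = q8rep 0 ∨ w = q8rep 0 * q8rep 0 * q8rep 0 ∨
      w = q8rep 1 ∨ w = q8rep 1 * q8rep 1 * q8rep 1 ∨ w = q8rep 0 * q8rep 1 ∨ w = q8rep 1 * q8rep 0) := by
  decide

/-- Pairs of elements of order four inducing an even permutation of the classes. -/
def q8even : Finset (Q8 × Q8) :=
  Finset.univ.filter fun z => z.1 ^ 2 ≠ 1 ∧ z.2 ^ 2 ≠ 1 ∧ q8cls z.2 = q8cls z.1 + 1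

theorem q8even_card : q8even.card = 12 := by decide

theorem perm3_even : ∀ σ : Equiv.Perm (Fin 3), Equiv.Perm.sign σ = 1 → σ 1 = σ 0 + 1 := by decide

/-- A group of automorphisms of `Q8` without subgroup of index 2 has order at most 12. -/
theorem q8_aut_le (R : Subgroup (MulAut Q8)) (hno : ¬ ∃ N : Subgroup R, N.index = 2) :
    Nat.card R ≤ 12 := by
  classical
  obtain ⟨h1, h2, h3, h4⟩ := q8cls_facts
  have hsq : ∀ (φ : MulAut Q8) (x : Q8), x ^ 2 ≠ 1 → φ x ^ 2 ≠ 1 := fun φ x hx e =>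
    hx (φ.injective (by rw [map_pow, e, map_one]))
  have key : ∀ (φ : MulAut Q8) (x : Q8), x ^ 2 ≠ 1 →
      q8cls (φ x) = q8cls (φ (q8rep (q8cls x))) := by
    intro φ x hx
    rcases h1 x hx with e | e
    · rw [← e]
    · conv_lhs => rw [e, map_mul, map_mul]
      exact h2 _ (hsq φ _ (h3 _).1)
  have comp : ∀ (φ ψ : MulAut Q8) i,
      q8cls ((φ * ψ) (q8rep i)) = q8cls (φ (q8rep (q8cls (ψ (q8rep i))))) := fun φ ψ i =>
    key φ _ (hsq ψ _ (h3 i).1)
  let π : MulAut Q8 →* Equiv.Perm (Fin 3) :=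
    { toFun := fun φ =>
        { toFun := fun i => q8cls (φ (q8rep i))
          invFun := fun i => q8cls (φ⁻¹ (q8rep i))
          left_inv := fun i => by
            show q8cls (φ⁻¹ (q8rep (q8cls (φ (q8rep i))))) = i
            rw [← comp, inv_mul_cancel, MulAut.one_apply, (h3 i).2]
          right_inv := fun i => by
            show q8cls (φ (q8rep (q8cls (φ⁻¹ (q8rep i))))) = i
            rw [← comp, mul_inv_cancel, MulAut.one_apply, (h3 i).2] }
      map_one' := Equiv.ext fun i => (h3 i).2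
      map_mul' := fun φ ψ => Equiv.ext fun i => comp φ ψ i }
  let f : R →* ℤˣ := (Equiv.Perm.sign.comp π).comp R.subtype
  have hf : ∀ φ : R, f φ = 1 := by
    intro φ
    rcases Int.units_eq_one_or (f φ) with e | e
    · exact e
    exfalso
    refine hno ⟨f.ker, ?_⟩
    rw [index_eq_two_iff]
    refine ⟨φ, fun b => ?_⟩
    simp only [MonoidHom.mem_ker, map_mul, e]
    rcases Int.units_eq_one_or (f b) with eb | eb <;> simp [eb, Xor]
  let j : R → q8even := fun φ => ⟨((φ : MulAut Q8) (q8rep 0), (φ : MulAut Q8) (q8rep 1)), by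
    simp only [q8even, Finset.mem_filter, Finset.mem_univ, true_and]
    exact ⟨hsq _ _ (h3 0).1, hsq _ _ (h3 1).1, perm3_even (π φ) (hf φ)⟩⟩
  have hj : Function.Injective j := by
    intro φ ψ e
    have e0 := congrArg (fun z : q8even => z.1.1) e
    have e1 := congrArg (fun z : q8even => z.1.2) e
    simp only [j] at e0 e1
    refine Subtype.ext (MulEquiv.ext fun w => ?_)
    rcases h4 w with h | h | h | h | h | h | h | h <;> simp [h, e0, e1]
  have h := Nat.card_le_card_of_injective j hj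
  rwa [Nat.card_eq_fintype_card (α := q8even), Fintype.card_coe, q8even_card] at h

/-- Elements of order four generating `Q8` anticommute. -/
theorem q8_anticomm (e : Q8) (he : e = q8rep 0) (k : Q8) (hk : k = q8rep 1) :
    e * e = k * k ∧ e * e ≠ 1 ∧ (e * e) * (e * e) = 1 ∧ k * e = e * k * (e * e) := by
  subst he hk
  decide

/-- The structure of a counterexample. -/
theorem index_two_or_q8 {H : Type*} [Group H] [Finite H] (j : H) (hj1 : j ≠ 1) (hj2 : j * j = 1)
    (huniq : ∀ x : H, x * x = 1 → x = 1 ∨ x = j)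
    (h3u : ∀ A B : Subgroup H, Nat.card A = 3 → Nat.card B = 3 → A = B)
    (σ : H →* H) (hσ2 : ∀ x, σ (σ x) = x) (hσfix : ∀ x, σ x = x → x = 1 ∨ x = j)
    (hno : ¬ ∃ M : Subgroup H, M.index = 2) :
    ∃ (i k : H) (C : Subgroup H), i * i = j ∧ k * k = j ∧ k * i = i * k * j ∧
      (∀ c ∈ C, c * i = i * c ∧ c * k = k * c) ∧ 6 ∣ Nat.card C ∧ C.index ≤ 12 ∧ 3 ∣ C.index := by
  classical
  haveI : Fact (Nat.Prime 2) := ⟨Nat.prime_two⟩
  haveI : Fact (Nat.Prime 3) := ⟨Nat.prime_three⟩
  have hoj : orderOf j = 2 := orderOf_eq_prime (by rw [pow_two, hj2]) hj1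
  have h2 : 2 ∣ Nat.card H := hoj ▸ orderOf_dvd_natCard j
  have hnpc : ¬ Cfsg.HasNormalPComplement 2 H := fun h => hno (exists_index_two_of_npc h h2)
  have huniq2 : ∀ (K : Subgroup H) (A B : Subgroup K), Nat.card A = 2 → Nat.card B = 2 → A = B := by
    intro K
    have : ∀ A : Subgroup K, Nat.card A = 2 → ∀ x : K, (x ∈ A ↔ ((x : H) = 1 ∨ (x : H) = j)) := by
      intro A hA
      obtain ⟨⟨y, hy⟩, hy1⟩ := ((Nat.card_eq_two_iff' (1 : A)).mp hA).exists
      have hyy : ∀ z : A, (((z : K) : H) = 1 ∨ ((z : K) : H) = j) := fun z => by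
        refine huniq _ ?_
        have := congrArg (fun w : A => ((w : K) : H)) (pow_card_eq_one' (x := z))
        simpa [hA, pow_two] using this
      have hyj : (y : H) = j := (hyy ⟨y, hy⟩).resolve_left fun e => hy1 (Subtype.ext (Subtype.ext e))
      intro x
      refine ⟨fun hx => hyy ⟨x, hx⟩, fun hx => ?_⟩
      rcases hx with e | e
      · rw [show x = 1 from Subtype.ext e]; exact one_mem A
      · rwa [show x = y from Subtype.ext (e.trans hyj.symm)]
    exact fun A B hA hB => Subgroup.ext fun x => (this A hA x).trans (this B hB x).symm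
  obtain ⟨T⟩ : Nonempty (Sylow 2 H) := inferInstance
  have h24 : 24 ∣ Nat.card H := by
    rcases UniqueInvolution.isCyclic_or_quaternion T.isPGroup' (huniq2 _) with hc | ⟨-, n, -, e⟩
    · exact absurd (LocalP2.hasNormalPComplement_of_cyclic_smallest T fun q hq _ => hq.two_le) hnpc
    · obtain ⟨A, B, _, ⟨e'⟩⟩ := (Thompson.Quat.complement_or_section T n e).resolve_left hnpc
      have hc : Nat.card (A ⧸ B.subgroupOf A) = 24 := by
        rw [Nat.card_congr e'.toEquiv, Nat.card_eq_fintype_card, Thompson.Quat.sl_card]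
      exact hc ▸ (index_eq_card (B.subgroupOf A) ▸ (B.subgroupOf A).index_dvd_card).trans
        A.card_subgroup_dvd_card
  -- the central element of order three
  obtain ⟨z, hz⟩ := exists_prime_orderOf_dvd_card' (G := H) 3 (dvd_trans (by norm_num) h24)
  have hz3 : ∀ x : H, x ^ 3 = 1 → x = 1 ∨ x = z ∨ x = z⁻¹ := by
    intro x hx
    by_cases hx1 : x = 1
    · exact Or.inl hx1
    right
    have hxo : orderOf x = 3 := orderOf_eq_prime hx hx1
    have hmem : x ∈ zpowers z := h3u (zpowers x) (zpowers z) (by rw [Nat.card_zpowers, hxo])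
      (by rw [Nat.card_zpowers, hz]) ▸ mem_zpowers x
    obtain ⟨m, hm, e⟩ := (Subgroup.mem_zpowers_iff.mp hmem).elim fun m hm =>
      (show ∃ i : ℕ, i < 3 ∧ x = z ^ i from ⟨(m % 3).toNat, by omega, by
        rw [← hm, ← zpow_mod_orderOf z m, hz, ← zpow_natCast, Int.toNat_of_nonneg (by omega)]
        norm_num⟩)
    interval_cases m
    · exact absurd (e.trans (pow_zero z)) hx1
    · exact Or.inl (e.trans (pow_one z))
    · refine Or.inr (e.trans (eq_inv_of_mul_eq_one_left ?_))
      rw [← pow_succ, show (2 + 1 : ℕ) = orderOf z by rw [hz], pow_orderOf_eq_one]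
  have hzc : ∀ g : H, g * z = z * g := by
    by_contra hc
    push Not at hc
    obtain ⟨g, hg⟩ := hc
    refine hno ⟨centralizer {z}, ?_⟩
    rw [index_eq_two_iff]
    refine ⟨g, fun b => ?_⟩
    have hz1 : z ≠ 1 := fun e => by rw [e, orderOf_one] at hz; omega
    have hcj : ∀ h : H, h * z * h⁻¹ = z ∨ h * z * h⁻¹ = z⁻¹ := fun h => by
      rcases hz3 (h * z * h⁻¹) (by rw [conj_pow, ← hz, pow_orderOf_eq_one, mul_one, mul_inv_cancel])
        with e | e | e
      · exact absurd (conj_eq_one_iff.mp e) hz1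
      · exact Or.inl e
      · exact Or.inr e
    have hmem : ∀ h : H, h ∈ centralizer ({z} : Set H) ↔ h * z * h⁻¹ = z := fun h => by
      rw [mem_centralizer_singleton_iff, mul_inv_eq_iff_eq_mul]
    have hzz : z⁻¹ ≠ z := fun e => by
      have : z ^ 2 = 1 := by rw [pow_two]; exact inv_eq_iff_mul_eq_one.mp e
      have := Nat.le_of_dvd two_pos (orderOf_dvd_of_pow_eq_one this)
      omega
    have hgz : g * z * g⁻¹ = z⁻¹ := (hcj g).resolve_left fun e => hg (mul_inv_eq_iff_eq_mul.mp e)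
    have hbg : b * g * z * (b * g)⁻¹ = (b * z * b⁻¹)⁻¹ := by
      rw [show b * g * z * (b * g)⁻¹ = b * (g * z * g⁻¹) * b⁻¹ by group, hgz]; group
    rw [hmem, hmem, hbg]
    rcases hcj b with e | e
    · rw [e]; exact Or.inr ⟨rfl, hzz⟩
    · rw [e, inv_inv]; exact Or.inl ⟨rfl, hzz⟩
  -- the normal 3-complement
  have hA3 : ∀ R : Subgroup H, IsPGroup 3 R → Transfer.AutPGroup 3 R := by
    intro R hR g hg hgo
    refine OddLocal.le_centralizer_of_fix_order_p 3 (by norm_num) (A := zpowers g)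
      (by rwa [Nat.card_zpowers]) hR (zpowers_le.mpr hg) (fun x _ hx a _ => ?_) (mem_zpowers g)
    rcases hz3 x hx with rfl | rfl | rfl
    · simp
    · exact hzc a
    · exact ((Commute.inv_right (show Commute a z from hzc a))).eq
  obtain ⟨T3, K, hK, hKc⟩ := Transfer.frobenius_criterion hA3
  have hKidx : K.index = Nat.card (T3 : Subgroup H) := hKc.symm.index_eq_card
  have hK3 : ¬ 3 ∣ Nat.card K := by
    rw [← hKc.index_eq_card]; exact T3.not_dvd_index
  have hKmem : ∀ x : H, x ∈ K ↔ ¬ 3 ∣ orderOf x := by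
    intro x
    refine ⟨fun hx h => hK3 (h.trans (orderOf_dvd_natCard K hx |> id)), fun hx => ?_⟩
    obtain ⟨k, hk⟩ := IsPGroup.iff_card.mp T3.isPGroup'
    have h1 : orderOf (QuotientGroup.mk' K x) ∣ 3 ^ k := by
      rw [← hk, ← hKidx, index_eq_card]; exact orderOf_dvd_natCard _
    have h2 : orderOf (QuotientGroup.mk' K x) = 1 := Nat.eq_one_of_dvd_coprimes
      (((Nat.Prime.coprime_iff_not_dvd Nat.prime_three).mpr hx).pow_left k) h1 (orderOf_map_dvd _ x)
    exact (QuotientGroup.eq_one_iff x).mp (orderOf_eq_one_iff.mp h2)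
  -- the 2-complement of `K`
  obtain ⟨R⟩ : Nonempty (Sylow 2 K) := inferInstance
  have hKnpc : Cfsg.HasNormalPComplement 2 K := by
    have huR : ∀ A B : Subgroup (R : Subgroup K), Nat.card A = 2 → Nat.card B = 2 → A = B := by
      intro A B hA hB
      let ψ : (R : Subgroup K) →* H := K.subtype.comp (R : Subgroup K).subtype
      have hψ : Function.Injective ψ := K.subtype_injective.comp (R : Subgroup K).subtype_injective
      let e := MonoidHom.ofInjective hψ
      exact Subgroup.map_injective (f := e.toMonoidHom) e.injective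
        (huniq2 ψ.range _ _ (by rwa [card_map_of_injective (show Function.Injective e.toMonoidHom from e.injective)])
          (by rwa [card_map_of_injective (show Function.Injective e.toMonoidHom from e.injective)]))
    rcases UniqueInvolution.isCyclic_or_quaternion R.isPGroup' huR with hc | ⟨-, n, -, e⟩
    · exact LocalP2.hasNormalPComplement_of_cyclic_smallest R fun q hq _ => hq.two_le
    · rcases Thompson.Quat.complement_or_section R n e with h | ⟨A, B, _, ⟨e'⟩⟩
      · exact h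
      · exfalso
        have hc : Nat.card (A ⧸ B.subgroupOf A) = 24 := by
          rw [Nat.card_congr e'.toEquiv, Nat.card_eq_fintype_card, Thompson.Quat.sl_card]
        refine hK3 (dvd_trans (show 3 ∣ 24 by norm_num) ?_)
        exact hc ▸ (index_eq_card (B.subgroupOf A) ▸ (B.subgroupOf A).index_dvd_card).trans
          A.card_subgroup_dvd_card
  obtain ⟨R', N₀, hN₀, hN₀c⟩ := hKnpc
  have hN₀odd : Odd (Nat.card N₀) := by
    rw [← Nat.not_even_iff_odd, even_iff_two_dvd, ← hN₀c.index_eq_card]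
    exact R'.not_dvd_index
  set O : Subgroup H := N₀.map K.subtype with hO
  have hOmem : ∀ x : H, x ∈ O ↔ Nat.Coprime (orderOf x) 6 := by
    intro x
    have h6 : Nat.Coprime (orderOf x) 6 ↔ Nat.Coprime (orderOf x) 2 ∧ Nat.Coprime (orderOf x) 3 := by
      rw [show (6 : ℕ) = 2 * 3 from rfl, Nat.coprime_mul_iff_right]
    rw [h6]
    constructor
    · rintro ⟨y, hy, rfl⟩
      rw [K.coe_subtype, Subgroup.orderOf_coe]
      exact ⟨(Nat.coprime_two_right.mpr hN₀odd).coprime_dvd_left (orderOf_dvd_natCard N₀ hy),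
        (((Nat.Prime.coprime_iff_not_dvd Nat.prime_three).mpr hK3).symm).coprime_dvd_left
          (orderOf_dvd_natCard y)⟩
    · rintro ⟨hx2, hx3⟩
      have hxK : x ∈ K := (hKmem x).mpr
        ((Nat.Prime.coprime_iff_not_dvd Nat.prime_three).mp hx3.symm)
      refine ⟨⟨x, hxK⟩, ?_, rfl⟩
      obtain ⟨k, hk⟩ := IsPGroup.iff_card.mp R'.isPGroup'
      have h1 : orderOf (QuotientGroup.mk' N₀ (⟨x, hxK⟩ : K)) ∣ 2 ^ k := by
        rw [← hk, ← hN₀c.symm.index_eq_card, index_eq_card]; exact orderOf_dvd_natCard _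
      have h2 : orderOf (QuotientGroup.mk' N₀ (⟨x, hxK⟩ : K)) = 1 :=
        Nat.eq_one_of_dvd_coprimes (hx2.symm.pow_left k) h1
          ((orderOf_map_dvd _ _).trans (dvd_of_eq (orderOf_mk x hxK)))
      exact (QuotientGroup.eq_one_iff _).mp (orderOf_eq_one_iff.mp h2)
  have hσinj : Function.Injective σ := fun x y e => by rw [← hσ2 x, e, hσ2]
  have hσO : ∀ x ∈ O, σ x ∈ O := fun x hx => by
    rw [hOmem, orderOf_injective σ hσinj]; exact (hOmem x).mp hx
  have hOinv : ∀ x ∈ O, σ x = x⁻¹ := by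
    intro x hx
    let d : O → O := fun y => ⟨(y : H)⁻¹ * σ y, mul_mem (inv_mem y.2) (hσO y y.2)⟩
    have hd : Function.Injective d := by
      intro y w e
      have e' : (y : H)⁻¹ * σ y = (w : H)⁻¹ * σ w := congrArg Subtype.val e
      have hfix : σ ((y : H) * (w : H)⁻¹) = (y : H) * (w : H)⁻¹ := by
        rw [map_mul, map_inv, show σ (y : H) = y * ((w : H)⁻¹ * σ w) by rw [← e', mul_inv_cancel_left]]
        group
      rcases hσfix _ hfix with h | h
      · exact Subtype.ext (mul_inv_eq_one.mp h)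
      · have := (hOmem _).mp (mul_mem y.2 (inv_mem w.2))
        rw [h, hoj] at this
        norm_num at this
    obtain ⟨y, hy⟩ := (Finite.injective_iff_surjective.mp hd) ⟨x, hx⟩
    have hy' : (y : H)⁻¹ * σ y = x := congrArg Subtype.val hy
    rw [← hy', map_mul, map_inv, hσ2, mul_inv_rev, inv_inv]
  have hOn : ∀ h : H, ∀ o ∈ O, h * o * h⁻¹ ∈ O := fun h o ho => by
    rw [hOmem] at ho ⊢
    rwa [show orderOf (h * o * h⁻¹) = orderOf o from MulEquiv.orderOf_eq (MulAut.conj h) o]
  have hOc : centralizer (O : Set H) = ⊤ := by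
    set CO := centralizer (O : Set H) with hCO
    have hm : ∀ h : H, h⁻¹ * σ h ∈ CO := by
      intro h
      rw [hCO, mem_centralizer_iff]
      intro o ho
      have h1 := hOinv _ (hOn h o ho)
      rw [map_mul, map_mul, map_inv, hOinv o ho] at h1
      have h2 : σ h * o * (σ h)⁻¹ = h * o * h⁻¹ := by
        have := congrArg (·⁻¹) h1
        simpa [mul_assoc] using this
      calc o * (h⁻¹ * σ h) = h⁻¹ * (h * o * h⁻¹) * σ h := by group
        _ = _ := by rw [← h2]; group
    have hle : Nat.card H ≤ Nat.card CO * 2 := by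
      refine le_trans ?_ (le_of_eq (Nat.card_prod CO Bool ▸ by simp : Nat.card (CO × Bool) = Nat.card CO * 2))
      let sec : CO → H := Function.invFun fun h : H => (⟨h⁻¹ * σ h, hm h⟩ : CO)
      refine Nat.card_le_card_of_injective
        (fun h => ((⟨h⁻¹ * σ h, hm h⟩ : CO), decide (h = sec ⟨h⁻¹ * σ h, hm h⟩))) fun x y e => ?_
      simp only [Prod.mk.injEq, decide_eq_decide] at e
      obtain ⟨e1, e2⟩ := e
      have hsec : ∀ w : H, (sec ⟨w⁻¹ * σ w, hm w⟩)⁻¹ * σ (sec ⟨w⁻¹ * σ w, hm w⟩) = w⁻¹ * σ w :=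
        fun w => congrArg Subtype.val
          (Function.invFun_eq (f := fun h : H => (⟨h⁻¹ * σ h, hm h⟩ : CO)) ⟨w, rfl⟩)
      by_cases hx : x = sec ⟨x⁻¹ * σ x, hm x⟩
      · rw [hx, e2.mp hx, e1]
      · have hy : ¬ y = sec ⟨y⁻¹ * σ y, hm y⟩ := fun h => hx (e2.mpr h)
        have hother : ∀ w : H, ¬ w = sec ⟨w⁻¹ * σ w, hm w⟩ → w = j * sec ⟨w⁻¹ * σ w, hm w⟩ := by
          intro w hw
          set u := sec ⟨w⁻¹ * σ w, hm w⟩ with hu
          have hw' := hsec w
          rw [← hu] at hw'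
          have hfix : σ (w * u⁻¹) = w * u⁻¹ := by
            rw [map_mul, map_inv, show σ u = u * (w⁻¹ * σ w) by rw [← hw', mul_inv_cancel_left]]
            group
          rcases hσfix _ hfix with h | h
          · exact absurd (mul_inv_eq_one.mp h) hw
          · exact mul_inv_eq_iff_eq_mul.mp h
        rw [hother x hx, hother y hy, e1]
    have h1 := CO.card_mul_index
    have hidx : CO.index ≤ 2 := Nat.le_of_mul_le_mul_left (h1 ▸ hle) Nat.card_pos
    have hpos : CO.index ≠ 0 := index_ne_zero_of_finite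
    rcases (show CO.index = 1 ∨ CO.index = 2 by omega) with h | h
    · exact index_eq_one.mp h
    · exact absurd ⟨CO, h⟩ hno
  -- the normal Sylow 2-subgroup
  set Q : Subgroup H := (R' : Subgroup K).map K.subtype with hQ
  haveI hQn : Q.Normal := by
    rw [← normalizer_eq_top_iff, eq_top_iff, ← Sylow.normalizer_sup_eq_top R', sup_le_iff]
    refine ⟨le_rfl, fun x hx => ?_⟩
    obtain ⟨⟨o, r⟩, e⟩ := hN₀c.2 ⟨x, hx⟩
    have e' : ((o : K) : H) * ((r : K) : H) = x := congrArg Subtype.val e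
    rw [← e']
    refine mul_mem ?_ (le_normalizer ⟨(r : K), r.2, rfl⟩)
    refine centralizer_le_normalizer _ (mem_centralizer_iff.mpr fun q _ => ?_)
    have hoO : ((o : K) : H) ∈ O := ⟨(o : K), o.2, rfl⟩
    exact (mem_centralizer_iff.mp (hOc ▸ mem_top q) _ hoO).symm
  have hQ2 : IsPGroup 2 Q := R'.isPGroup'.map _
  have hQmax : ∀ R₁ : Subgroup H, IsPGroup 2 R₁ → R₁ ≤ Q := by
    intro R₁ hR₁
    obtain ⟨S₁, hS₁⟩ := hR₁.exists_le_sylow
    have hSK : (S₁ : Subgroup H) ≤ K := fun x hx => by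
      obtain ⟨k, hk⟩ := IsPGroup.iff_orderOf.mp S₁.isPGroup' ⟨x, hx⟩
      rw [orderOf_mk] at hk
      rw [hKmem, hk]
      intro h
      have := Nat.prime_three.dvd_of_dvd_pow h
      norm_num at this
    have h1 : IsPGroup 2 ((Q.subgroupOf K ⊔ (S₁ : Subgroup H).subgroupOf K : Subgroup K)) :=
      IsPGroup.to_sup_of_normal_left (hQ2.comap_subtype) (S₁.isPGroup'.comap_subtype)
    have h2 := R'.3 h1 (le_sup_of_le_left fun x hx => ⟨x, hx, rfl⟩)
    intro x hx
    exact ⟨⟨x, hSK (hS₁ hx)⟩, h2 ▸ mem_sup_right (hS₁ hx), rfl⟩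
  rcases UniqueInvolution.isCyclic_or_quaternion hQ2 (huniq2 Q) with hc | ⟨-, n, hn, ⟨e⟩⟩
  · refine absurd (LocalP2.hasNormalPComplement_of_cyclic_smallest (⟨Q, hQ2, fun hR hle =>
      le_antisymm (hQmax _ hR) hle⟩ : Sylow 2 H) fun q hq _ => hq.two_le) hnpc
  let ρ : H →* MulAut (QuaternionGroup (2 ^ n)) :=
    (MulAut.congr e).toMonoidHom.comp (MulAut.conjNormal (H := Q))
  have hρ : ∀ (g : H) (q : Q), ρ g (e q) = e ⟨g * (q : H) * g⁻¹, hQn.conj_mem _ q.2 g⟩ := fun g q => by
    show e (MulAut.conjNormal g (e.symm (e q))) = _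
    rw [e.symm_apply_apply]
    exact congrArg e (Subtype.ext (MulAut.conjNormal_apply g q))
  obtain ⟨g, hgo, hgne⟩ : ∃ g : H, (orderOf g).Coprime 2 ∧ ρ g ≠ 1 := by
    by_contra hall
    push Not at hall
    refine hnpc (Transfer.frobenius_criterion fun R₁ hR₁ g _ hgo => mem_centralizer_iff.mpr
      fun x hx => ?_)
    have h1 := DFunLike.congr_fun (hall g hgo) (e ⟨x, hQmax R₁ hR₁ hx⟩)
    rw [hρ, MulAut.one_apply] at h1
    exact (mul_inv_eq_iff_eq_mul.mp (congrArg Subtype.val (e.injective h1))).symm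
  have hφo : (orderOf (ρ g)).Coprime 2 := hgo.coprime_dvd_left (orderOf_map_dvd ρ g)
  rcases Nat.lt_or_ge n 2 with hn2 | hn2
  swap
  · have h4 : 4 ≤ 2 ^ n := by simpa using Nat.pow_le_pow_right two_pos hn2
    haveI : NeZero (2 ^ n) := ⟨pow_ne_zero _ two_ne_zero⟩
    exact absurd (Thompson.Quat.aut_big_trivial (by omega) (hQ2.of_equiv e) (ρ g) hφo) hgne
  obtain rfl : n = 1 := by omega
  obtain ⟨hφ3, -⟩ := Thompson.Quat.aut_q8 (ρ g) hφo hgne
  have hno' : ¬ ∃ N : Subgroup ρ.range, N.index = 2 := by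
    rintro ⟨N, hN⟩
    exact hno ⟨N.comap ρ.rangeRestrict, by
      rw [index_comap_of_surjective _ ρ.rangeRestrict_surjective, hN]⟩
  have hcj : ∀ g : H, g * j * g⁻¹ = j := fun g =>
    (huniq _ (by rw [show g * j * g⁻¹ * (g * j * g⁻¹) = g * (j * j) * g⁻¹ by group, hj2, mul_one,
      mul_inv_cancel])).resolve_left fun h => hj1 (conj_eq_one_iff.mp h)
  have hker : ∀ c : H, (∀ q : Q, c * (q : H) * c⁻¹ = q) → c ∈ ρ.ker := fun c hc => by
    rw [MonoidHom.mem_ker]
    refine MulEquiv.ext fun w => ?_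
    obtain ⟨q, rfl⟩ := e.surjective w
    rw [hρ, MulAut.one_apply]
    exact congrArg e (Subtype.ext (hc q))
  obtain ⟨hik, hi1, hi2, hki⟩ := q8_anticomm (q8rep 0) rfl (q8rep 1) rfl
  let i : Q := e.symm (q8rep 0)
  let k : Q := e.symm (q8rep 1)
  have hii : (i : H) * i = j := by
    refine (huniq _ ?_).resolve_left fun h => hi1 ?_
    · have := congrArg (fun w => ((e.symm w : Q) : H)) hi2
      simpa [i] using this
    · have := congrArg (fun w : Q => e w) (show i * i = 1 from Subtype.ext h)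
      simpa [i] using this
  refine ⟨i, k, ρ.ker, hii, ?_, ?_, fun c hc => ?_, ?_, ?_, ?_⟩
  · rw [← hii]
    have := congrArg (fun w => ((e.symm w : Q) : H)) hik
    simpa [i, k] using this.symm
  · rw [← hii]
    have := congrArg (fun w => ((e.symm w : Q) : H)) hki
    simpa [i, k, mul_assoc] using this
  · have h1 : ∀ q : Q, c * (q : H) = q * c := fun q => by
      have := DFunLike.congr_fun (MonoidHom.mem_ker.mp hc) (e q)
      rw [hρ, MulAut.one_apply] at this
      exact mul_inv_eq_iff_eq_mul.mp (congrArg Subtype.val (e.injective this))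
    exact ⟨h1 i, h1 k⟩
  · refine Nat.Coprime.mul_dvd_of_dvd_of_dvd (show Nat.Coprime 2 3 by norm_num) ?_ ?_
    · exact hoj.symm.dvd.trans (orderOf_dvd_natCard ρ.ker (hker j fun q => by
        rw [← mul_inv_eq_iff_eq_mul.mp (hcj (q : H)), mul_inv_cancel_right]))
    · exact hz.symm.dvd.trans (orderOf_dvd_natCard ρ.ker (hker z fun q => by
        rw [← hzc (q : H), mul_inv_cancel_right]))
  · rw [index_ker]; exact q8_aut_le _ hno'
  · rw [index_ker, ← orderOf_eq_prime hφ3 hgne]
    exact orderOf_dvd_natCard ρ.range ⟨g, rfl⟩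

end Cfsg.Agent.Lib.Zass
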