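import Cfsg.Agent.Lib.Zass.Sharp
import Cfsg.Agent.Lib.Zass.StabAlg
import Mathlib.FieldTheory.Finite.Basic
import Mathlib.Tactic.NoncommRing

/-!
The two-point stabiliser of a sharply three times transitive group of even degree: unique
subgroup of order three, and an invariant subgroup of index two.
-/

set_option autoImplicit false

namespace Cfsg.Agent.Lib.Zass

open MulAction

variable {G Ω : Type*} [Group G] [MulAction G Ω]

/-- Conjugation action of the two-point stabiliser on the kernel. -/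
def stabEnd {U : Subgroup G} {a b : Ω} [IsMulCommutative U] (hK : IsKernel U a b) :
    ↥(stabilizer G a ⊓ stabilizer G b) →* AddMonoid.End (Additive U) where
  toFun g := conjEnd U (g : G) (hK.conj _ g.2.1)
  map_one' := AddMonoidHom.ext fun v => Additive.toMul.injective (Subtype.ext (by
    show ((1 : ↥(stabilizer G a ⊓ stabilizer G b)) : G) * (v.toMul : G) *
      ((1 : ↥(stabilizer G a ⊓ stabilizer G b)) : G)⁻¹ = (v.toMul : G)
    simp))
  map_mul' g k := AddMonoidHom.ext fun v => Additive.toMul.injective (Subtype.ext (by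
    show ((g * k : ↥(stabilizer G a ⊓ stabilizer G b)) : G) * (v.toMul : G) *
        ((g * k : ↥(stabilizer G a ⊓ stabilizer G b)) : G)⁻¹
      = (g : G) * ((k : G) * (v.toMul : G) * (k : G)⁻¹) * (g : G)⁻¹
    simp [mul_assoc]))

/-- Data for a sharply three times transitive group of even degree. -/
structure SharpStab (U : Subgroup G) (a b : Ω) (p : ℕ) (j : G) : Prop where
  sharp : Sharp3 G Ω
  ker : IsKernel U a b
  comm : IsMulCommutative U
  prime : p.Prime
  odd : p ≠ 2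
  pow : ∃ f, f ≠ 0 ∧ Nat.card U = p ^ f
  exp : ∀ u ∈ U, u ^ p = 1
  card : Nat.card ↥(stabilizer G a ⊓ stabilizer G b) + 1 = Nat.card U
  jmem : j ∈ stabilizer G a ⊓ stabilizer G b
  jne : j ≠ 1
  jsq : j * j = 1
  jinv : ∀ u ∈ U, j * u * j⁻¹ = u⁻¹
  juniq : ∀ x ∈ stabilizer G a ⊓ stabilizer G b, x * x = 1 → x = 1 ∨ x = j

theorem exists_sharpStab [Finite G] [FaithfulSMul G Ω] [Finite Ω] (h : Sharp3 G Ω)
    (heven : Even (Nat.card Ω)) {a b : Ω} (hab : a ≠ b) :
    ∃ (U : Subgroup G) (p : ℕ) (j : G), SharpStab U a b p j := by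
  obtain ⟨U, p, f, hK, hUc, hp, hf, hpf⟩ := h.exists_isKernel hab
  haveI := hUc
  have hcard := hK.card_eq
  have hH : Nat.card ↥(stabilizer G a ⊓ stabilizer G b) + 1 = Nat.card U := by
    rw [h.card_twoPt hab]; have := h.three; omega
  have hp2 : p ≠ 2 := by
    rintro rfl
    obtain ⟨i, hi⟩ := heven
    obtain ⟨k, hk⟩ : 2 ∣ Nat.card U := hpf ▸ dvd_pow_self 2 hf
    omega
  haveI := Fact.mk hp
  have hexp : ∀ u ∈ U, u ^ p = 1 := by
    intro v hv
    by_cases hv1 : v = 1
    · rw [hv1, one_pow]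
    obtain ⟨⟨x, hx⟩, hord⟩ := exists_prime_orderOf_dvd_card' (G := U) p (hpf ▸ dvd_pow_self p hf)
    rw [Subgroup.orderOf_mk] at hord
    have hx1 : x ≠ 1 := fun e => hp.one_lt.ne (by rw [← hord, e, orderOf_one])
    have hxa : x • b ≠ a := hK.smul_ne ⟨x, hx⟩
    have hxb : x • b ≠ b := fun e => hab (hK.fix_only hx hx1 e).symm
    have hva : v • b ≠ a := hK.smul_ne ⟨v, hv⟩
    have hvb : v • b ≠ b := fun e => hab (hK.fix_only hv hv1 e).symm
    obtain ⟨g, hga, hgb, hgx⟩ := h.trans a b (x • b) a b (v • b) hab hxb.symm hxa.symm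
      hab hvb.symm hva.symm
    have e : g * x * g⁻¹ = v :=
      congrArg Subtype.val ((hK.reg _ hva).unique (y₁ := ⟨g * x * g⁻¹, hK.conj g hga x hx⟩)
        (y₂ := ⟨v, hv⟩) (by show (g * x * g⁻¹) • b = _
                            rw [mul_smul, mul_smul, inv_smul_eq_iff.mpr hgb.symm, hgx]) rfl)
    rw [← e, conj_pow, ← hord, pow_orderOf_eq_one, mul_one, mul_inv_cancel]
  have h2 : 2 ∣ Nat.card ↥(stabilizer G a ⊓ stabilizer G b) := by
    obtain ⟨k, hk⟩ := (hp.odd_of_ne_two hp2).pow (n := f)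
    omega
  haveI : Fact (Nat.Prime 2) := ⟨Nat.prime_two⟩
  obtain ⟨⟨j, hj⟩, hjo⟩ := exists_prime_orderOf_dvd_card' 2 h2
  rw [Subgroup.orderOf_mk] at hjo
  have hj1 : j ≠ 1 := fun e => by rw [e, orderOf_one] at hjo; omega
  have hjj : j * j = 1 := by rw [← pow_two, ← hjo, pow_orderOf_eq_one]
  have hinv : ∀ z ∈ stabilizer G a ⊓ stabilizer G b, z ≠ 1 → z * z = 1 →
      ∀ u ∈ U, z * u * z⁻¹ = u⁻¹ := by
    intro z hz hz1 hzz u hu
    have hm : z * u * z⁻¹ ∈ U := hK.conj z hz.1 u hu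
    refine eq_inv_of_mul_eq_one_left (hK.free hz.2 (u := z * u * z⁻¹ * u)
      (mul_mem hm hu) ?_ (fun c hca hcb hc => h.free hab hz hca hcb hc) hz1)
    have hzi : z⁻¹ = z := inv_eq_of_mul_eq_one_right hzz
    calc z * (z * u * z⁻¹ * u) * z⁻¹ = u * (z⁻¹ * u * z⁻¹) := by
          simp only [← mul_assoc, hzz, one_mul]
      _ = u * (z * u * z⁻¹) := by rw [hzi]
      _ = _ := congrArg Subtype.val (hUc.is_comm.comm ⟨u, hu⟩ ⟨_, hm⟩)
  refine ⟨U, p, j, h, hK, hUc, hp, hp2, ⟨f, hf, hpf⟩, hexp, hH, hj, hj1, hjj,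
    hinv j hj hj1 hjj, fun z hz hzz => or_iff_not_imp_left.mpr fun hz1 => ?_⟩
  have hjinv : j⁻¹ = j := inv_eq_of_mul_eq_one_right hjj
  by_contra hne
  haveI : Nontrivial U := Finite.one_lt_card_iff_nontrivial.mp (by
    rw [hpf]; exact Nat.one_lt_pow hf hp.one_lt)
  obtain ⟨⟨u, hu⟩, hu1⟩ := exists_ne (1 : U)
  refine hu1 (Subtype.ext (hK.free (x := z * j) (mul_mem hz hj).2 hu ?_
    (fun c hca hcb hc => h.free hab (mul_mem hz hj) hca hcb hc) fun e => hne ?_))
  · rw [show z * j * u * (z * j)⁻¹ = z * (j * u * j⁻¹) * z⁻¹ by group, hinv j hj hj1 hjj u hu,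
      hinv z hz hz1 hzz _ (inv_mem hu), inv_inv]
  · rw [eq_inv_of_mul_eq_one_left e, hjinv]

/-- Anticommuting square roots of `-1` split the module in two halves, each of them acted on
freely by their common centraliser. -/
theorem quat_bound {V H : Type*} [AddCommGroup V] [Finite V] [Group H] [Finite H]
    (ρ : H →* AddMonoid.End V) {p : ℕ} (hp : p.Prime) (hp2 : p ≠ 2) (hpv : ∀ v : V, p • v = 0)
    (hfree' : ∀ g : H, g ≠ 1 → ∀ v, ρ g v = v → v = 0) (j : H) (hneg : ∀ v, ρ j v = -v) (i k : H)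
    (hii : i * i = j) (hkk : k * k = j) (hki : k * i = i * k * j) (C : Subgroup H)
    (hC : ∀ c ∈ C, c * i = i * c ∧ c * k = k * c) :
    ∃ w : ℕ, Nat.card V = w * w ∧ Nat.card C ∣ w - 1 := by
  haveI := Fact.mk hp
  have hρj : ρ j = -1 := AddMonoidHom.ext hneg
  obtain ⟨a₀, b₀, hab₀⟩ := ZMod.sq_add_sq p (-1)
  have hsum : ((a₀.val * a₀.val + b₀.val * b₀.val + 1 : ℕ) : AddMonoid.End (V)) = 0 := by
    obtain ⟨t, ht⟩ : p ∣ a₀.val * a₀.val + b₀.val * b₀.val + 1 := by
      rw [← ZMod.natCast_eq_zero_iff]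
      push_cast
      rw [ZMod.natCast_zmod_val, ZMod.natCast_zmod_val, ← pow_two, ← pow_two, hab₀, neg_add_cancel]
    refine DFunLike.ext _ _ fun v => ?_
    rw [AddMonoid.End.natCast_apply, ht, mul_comm, mul_nsmul', hpv]
    simp
  generalize ha₁ : ((a₀.val : ℕ) : AddMonoid.End (V)) = a₁ at *
  generalize hb₁ : ((b₀.val : ℕ) : AddMonoid.End (V)) = b₁ at *
  have hsum' : a₁ * a₁ + b₁ * b₁ + 1 = 0 := by
    rw [← hsum, ← ha₁, ← hb₁]; push_cast; rfl
  have hII : ρ i * ρ i = -1 := by rw [← map_mul, hii, hρj]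
  have hKK : ρ k * ρ k = -1 := by rw [← map_mul, hkk, hρj]
  have hKI : ρ k * ρ i = -(ρ i * ρ k) := by
    rw [← map_mul, hki, map_mul, map_mul, hρj, mul_neg, mul_one]
  have ca : ∀ e, a₁ * e = e * a₁ := fun e => by rw [← ha₁]; exact Nat.cast_commute _ e
  have cb : ∀ e, b₁ * e = e * b₁ := fun e => by rw [← hb₁]; exact Nat.cast_commute _ e
  set I := ρ i with hI
  set K := ρ k with hK
  set P := a₁ * I + b₁ * K with hP
  have hPP : P * P = 1 := by
    calc P * P = (a₁ * a₁) * (I * I) + (a₁ * b₁) * (I * K) + (b₁ * a₁) * (K * I)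
          + (b₁ * b₁) * (K * K) := by
          rw [hP, mul_add, add_mul, add_mul, Commute.mul_mul_mul_comm (ca I).symm,
            Commute.mul_mul_mul_comm (ca K).symm, Commute.mul_mul_mul_comm (cb I).symm,
            Commute.mul_mul_mul_comm (cb K).symm]
          abel
      _ = 1 - (a₁ * a₁ + b₁ * b₁ + 1) := by
          rw [hII, hKK, hKI, ← ca b₁]; noncomm_ring
      _ = 1 := by rw [hsum', sub_zero]
  have hPR : P * (I * K) = -((I * K) * P) := by
    have l1 : I * (I * K) = -((I * K) * I) := by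
      rw [mul_assoc I K I, hKI, mul_neg, neg_neg]
    have l2 : K * (I * K) = -((I * K) * K) := by
      rw [← mul_assoc K I K, hKI, neg_mul]
    rw [hP, add_mul, mul_assoc a₁ I (I * K), l1, mul_assoc b₁ K (I * K), l2, mul_add, ← mul_assoc (I * K) a₁,
      ← mul_assoc (I * K) b₁, ← ca (I * K), ← cb (I * K), mul_assoc, mul_assoc]
    noncomm_ring
  let Wp : AddSubgroup (V) := AddMonoidHom.ker (show V →+ V from (P - 1 : AddMonoid.End V))
  let Wm : AddSubgroup (V) := AddMonoidHom.ker (show V →+ V from (P + 1 : AddMonoid.End V))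
  have memp : ∀ v, v ∈ Wp ↔ P v = v := fun v => AddMonoidHom.mem_ker.trans sub_eq_zero
  have memm : ∀ v, v ∈ Wm ↔ P v = -v := fun v => AddMonoidHom.mem_ker.trans eq_neg_iff_add_eq_zero.symm
  obtain ⟨m, hm⟩ : ∃ m, 2 * m = p + 1 := ⟨(p + 1) / 2, by
    obtain ⟨t, ht⟩ := hp.odd_of_ne_two hp2; omega⟩
  have hhalf : ∀ v : V, m • (v + v) = v := fun v => by
    rw [← two_nsmul, ← mul_nsmul, hm, add_nsmul, one_nsmul, hpv, zero_add]
  have hPP' : ∀ v, P (P v) = v := fun v => DFunLike.congr_fun hPP v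
  have hsplit : Nat.card V = Nat.card Wp * Nat.card Wm := by
    rw [← Nat.card_prod]
    refine (Nat.card_eq_of_bijective (fun z : Wp × Wm => (z.1 : V) + z.2) ⟨?_, fun v => ?_⟩).symm
    · rintro ⟨⟨x, hx⟩, ⟨y, hy⟩⟩ ⟨⟨x', hx'⟩, ⟨y', hy'⟩⟩ (e : x + y = x' + y')
      have e2 : x - y = x' - y' := by
        have := congrArg P e
        rw [map_add, map_add, (memp x).mp hx, (memm y).mp hy, (memp x').mp hx', (memm y').mp hy'] at this
        rw [sub_eq_add_neg, sub_eq_add_neg]; exact this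
      have ex : x = x' := by
        rw [← hhalf x, ← hhalf x', show x + x = (x + y) + (x - y) by abel, e, e2]
        congr 1; abel
      have ey : y = y' := add_left_cancel (ex ▸ e)
      subst ex; subst ey; rfl
    · refine ⟨(⟨m • (v + P v), (memp _).mpr ?_⟩, ⟨m • (v - P v), (memm _).mpr ?_⟩), ?_⟩
      · rw [map_nsmul, map_add, hPP', add_comm]
      · rw [map_nsmul, map_sub, hPP', ← smul_neg, neg_sub]
      · show m • (v + P v) + m • (v - P v) = v
        rw [← nsmul_add, show v + P v + (v - P v) = v + v by abel, hhalf]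
  have hRinj : Function.Injective (I * K) := fun u v e => by
    have h1 : ∀ w, ρ (i * k)⁻¹ ((I * K) w) = w := fun w => by
      rw [← map_mul]
      show (ρ (i * k)⁻¹ * ρ (i * k)) w = w
      rw [← map_mul, inv_mul_cancel, map_one]; rfl
    rw [← h1 u, e, h1]
  have hanti : ∀ w, P ((I * K) w) = -((I * K) (P w)) := fun w => DFunLike.congr_fun hPR w
  have heq : Nat.card Wp = Nat.card Wm := le_antisymm
    (Nat.card_le_card_of_injective (fun w => (⟨(I * K) w, (memm _).mpr (by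
        rw [hanti, (memp _).mp w.2])⟩ : Wm))
      fun u v e => Subtype.ext (hRinj (congrArg Subtype.val e)))
    (Nat.card_le_card_of_injective (fun w => (⟨(I * K) w, (memp _).mpr (by
        rw [hanti, (memm _).mp w.2, map_neg, neg_neg])⟩ : Wp))
      fun u v e => Subtype.ext (hRinj (congrArg Subtype.val e)))
  have hdiv : Nat.card C ∣ Nat.card Wp - 1 := by
    classical
    have hcomm : ∀ c : C, P * ρ (c : H) = ρ (c : H) * P := fun c => by
      have h1 : I * ρ (c : H) = ρ (c : H) * I := by rw [hI, ← map_mul, ← map_mul, (hC c c.2).1]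
      have h2 : K * ρ (c : H) = ρ (c : H) * K := by rw [hK, ← map_mul, ← map_mul, (hC c c.2).2]
      rw [hP, add_mul, mul_add, mul_assoc, h1, mul_assoc, h2, ← mul_assoc, ← mul_assoc, ca, cb,
        mul_assoc, mul_assoc]
    have hfree : ∀ c : C, c ≠ 1 → ∀ v, ρ (c : H) v = v → v = 0 := fun c hc v hv =>
      hfree' (c : H) (fun e => hc (Subtype.ext e)) v hv
    let X := {w : Wp // w ≠ 0}
    letI act : MulAction C X :=
      { smul := fun c w => ⟨⟨ρ (c : H) (w.1 : V), (memp _).mpr (by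
            show (P * ρ (c : H)) (w.1 : V) = _
            rw [hcomm]
            show ρ (c : H) (P (w.1 : V)) = _
            rw [(memp _).mp w.1.2])⟩, fun e => w.2 (Subtype.ext (by
              have h0 : ρ (c : H) (w.1 : V) = 0 := congrArg Subtype.val e
              have h1 := congrArg (ρ (c : H)⁻¹) h0
              rw [map_zero] at h1
              change (ρ (c : H)⁻¹ * ρ (c : H)) (w.1 : V) = 0 at h1
              rwa [← map_mul, inv_mul_cancel, map_one] at h1))⟩
        one_smul := fun w => Subtype.ext (Subtype.ext (by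
          show ρ ((1 : C) : H) (w.1 : V) = _
          rw [Subgroup.coe_one, map_one]; rfl))
        mul_smul := fun c d w => Subtype.ext (Subtype.ext (by
          show ρ ((c * d : C) : H) (w.1 : V) = ρ (c : H) (ρ (d : H) (w.1 : V))
          rw [Subgroup.coe_mul, map_mul]; rfl)) }
    have hst : ∀ w : X, stabilizer C w = ⊥ := fun w => (Subgroup.eq_bot_iff_forall _).mpr fun c hc => by
      by_contra h1
      exact w.2 (Subtype.ext (hfree c h1 _ (congrArg (fun z : X => (z.1 : V)) hc)))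
    have hX : Nat.card X = Nat.card Wp - 1 := by
      haveI := Fintype.ofFinite Wp
      rw [Nat.card_eq_fintype_card, Fintype.card_subtype_compl, Fintype.card_subtype_eq,
        ← Nat.card_eq_fintype_card]
    rw [← hX, Nat.card_congr (MulAction.selfEquivOrbitsQuotientProd hst), Nat.card_prod]
    exact Dvd.intro_left _ rfl
  exact ⟨Nat.card Wp, by rw [hsplit, ← heq], hdiv⟩

/-- A ring identity: four fixed-point-free cube roots of unity give `3 = 0`. -/
theorem three_eq_zero {R : Type*} [Ring R] (A B : R) (hc : A * B = B * A) (h1 : 1 + A + A * A = 0)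
    (h2 : 1 + B + B * B = 0) (h3 : 1 + A * B + A * B * (A * B) = 0)
    (h4 : 1 + A * (B * B) + A * (B * B) * (A * (B * B)) = 0) : (3 : R) = 0 := by
  have hB3 : B * (B * B) = 1 := by
    have e : B * (B * B) - 1 = (B - 1) * (1 + B + B * B) := by noncomm_ring
    rw [h2, mul_zero, sub_eq_zero] at e
    exact e
  have hcc : Commute A B := hc
  have e1 : A * B * (A * B) = A * A * (B * B) := hcc.symm.mul_mul_mul_comm A B
  have e2 : A * (B * B) * (A * (B * B)) = A * A * B := by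
    rw [(hcc.mul_right hcc).symm.mul_mul_mul_comm A (B * B), mul_assoc B B, hB3, mul_one]
  rw [e1] at h3
  rw [e2] at h4
  have e : (3 : R) = (1 + A + A * A) + (1 + B + B * B) + (1 + A * B + A * A * (B * B)) +
      (1 + A * (B * B) + A * A * B) - (1 + A + A * A) * (1 + B + B * B) := by
    noncomm_ring; simp [zsmul_eq_mul]
  rwa [h1, h2, h3, h4, mul_zero, add_zero, add_zero, add_zero, sub_zero] at e

namespace SharpStab

variable {U : Subgroup G} {a b : Ω} {p : ℕ} {j : G} (S : SharpStab U a b p j)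
include S

theorem free {x : G} (hx : x ∈ stabilizer G a ⊓ stabilizer G b) (hx1 : x ≠ 1) {u : G} (hu : u ∈ U)
    (hc : x * u * x⁻¹ = u) : u = 1 :=
  S.ker.free hx.2 hu hc (fun _ hca hcb hfx => S.sharp.free S.ker.ne hx hca hcb hfx) hx1

theorem inj {c : Ω} (hca : c ≠ a) (hcb : c ≠ b) {x y : G} (hx : x ∈ stabilizer G a ⊓ stabilizer G b)
    (hy : y ∈ stabilizer G a ⊓ stabilizer G b) (e : x • c = y • c) : x = y :=
  (inv_mul_eq_one.mp (S.sharp.free S.ker.ne (mul_mem (inv_mem hy) hx) hca hcb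
    (by rw [mul_smul, e, inv_smul_smul]))).symm

theorem jc (x : G) (hx : x ∈ stabilizer G a ⊓ stabilizer G b) : x * j = j * x := by
  have hm : x * j * x⁻¹ ∈ stabilizer G a ⊓ stabilizer G b := mul_mem (mul_mem hx S.jmem) (inv_mem hx)
  have := (S.juniq _ hm (by
    rw [show x * j * x⁻¹ * (x * j * x⁻¹) = x * (j * j) * x⁻¹ by group, S.jsq, mul_one,
      mul_inv_cancel])).resolve_left fun e => S.jne (conj_eq_one_iff.mp e)
  exact mul_inv_eq_iff_eq_mul.mp this

section Swap

variable {c : Ω} (hca : c ≠ a) (hcb : c ≠ b) (s : G) (hsa : s • a = b) (hsb : s • b = a)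
  (hsc : s • c = c)

include hca hcb hsa hsb hsc in
theorem swap_sq : s * s = 1 :=
  S.sharp.free S.ker.ne ⟨show (s * s) • a = a by rw [mul_smul, hsa, hsb],
    show (s * s) • b = b by rw [mul_smul, hsb, hsa]⟩ hca hcb (by rw [mul_smul, hsc, hsc])

include hsa hsb in
theorem swap_mem {x : G} (hx : x ∈ stabilizer G a ⊓ stabilizer G b) :
    s * x * s⁻¹ ∈ stabilizer G a ⊓ stabilizer G b :=
  ⟨show (s * x * s⁻¹) • a = a by
      rw [mul_smul, mul_smul, inv_smul_eq_iff.mpr hsb.symm, show x • b = b from hx.2, hsb],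
   show (s * x * s⁻¹) • b = b by
      rw [mul_smul, mul_smul, inv_smul_eq_iff.mpr hsa.symm, show x • a = a from hx.1, hsa]⟩

include hsa hsb in
theorem swap_j : s * j = j * s := by
  have := (S.juniq _ (S.swap_mem s hsa hsb S.jmem) (by
    rw [show s * j * s⁻¹ * (s * j * s⁻¹) = s * (j * j) * s⁻¹ by group, S.jsq, mul_one,
      mul_inv_cancel])).resolve_left fun e => S.jne (conj_eq_one_iff.mp e)
  exact mul_inv_eq_iff_eq_mul.mp this

include hca hcb hsa hsb hsc in
theorem swap_fix {x : G} (hx : x ∈ stabilizer G a ⊓ stabilizer G b) (hsx : s * x = x * s) :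
    x = 1 ∨ x = j := by
  by_contra hh
  push Not at hh
  have h1 : s • (x • c) = x • c := by rw [smul_smul, hsx, mul_smul, hsc]
  have h2 : s • (j • c) = j • c := by rw [smul_smul, S.swap_j s hsa hsb, mul_smul, hsc]
  have hne : ∀ y ∈ stabilizer G a ⊓ stabilizer G b, ∀ z ∈ stabilizer G a ⊓ stabilizer G b,
      y ≠ z → y • c ≠ z • c := fun y hy z hz e e' => e (S.inj hca hcb hy hz e')
  have hs1 : s = 1 := S.sharp.sharp s c (j • c) (x • c)
    (by simpa using hne 1 (one_mem _) j S.jmem (Ne.symm S.jne))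
    (hne j S.jmem x hx (Ne.symm hh.2))
    (by simpa using hne 1 (one_mem _) x hx (Ne.symm hh.1)) hsc h2 h1
  exact S.ker.ne (by rw [← hsa, hs1, one_smul])

theorem cube_sum {h : G} (hh : h ∈ stabilizer G a ⊓ stabilizer G b) (h3 : h * (h * h) = 1)
    (h1 : h ≠ 1) {u : G} (hu : u ∈ U) : u * (h * u * h⁻¹) * (h * h * u * (h * h)⁻¹) = 1 := by
  haveI := S.comm
  have hm : ∀ g ∈ stabilizer G a ⊓ stabilizer G b, g * u * g⁻¹ ∈ U := fun g hg =>
    S.ker.conj g hg.1 u hu
  refine S.free hh h1 (mul_mem (mul_mem hu (hm h hh)) (hm _ (mul_mem hh hh))) ?_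
  calc h * (u * (h * u * h⁻¹) * (h * h * u * (h * h)⁻¹)) * h⁻¹
      = ((h * u * h⁻¹) * (h * h * u * (h * h)⁻¹)) * (h * (h * h) * u * (h * (h * h))⁻¹) := by group
    _ = ((h * u * h⁻¹) * (h * h * u * (h * h)⁻¹)) * u := by rw [h3]; group
    _ = u * ((h * u * h⁻¹) * (h * h * u * (h * h)⁻¹)) := congrArg Subtype.val (S.comm.is_comm.comm
          (⟨_, mul_mem (hm h hh) (hm _ (mul_mem hh hh))⟩ : U) ⟨u, hu⟩)
    _ = _ := (mul_assoc _ _ _).symm

include hca hcb hsa hsb hsc in
/-- The swap inverts the elements of order three. -/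
theorem swap_inverts {h : G} (hh : h ∈ stabilizer G a ⊓ stabilizer G b) (h3 : h * (h * h) = 1) :
    s * h * s⁻¹ = h⁻¹ := by
  by_cases h1 : h = 1
  · simp [h1]
  obtain ⟨⟨u₀, hu₀⟩, hu₀c : u₀ • b = c, -⟩ := S.ker.reg c hca
  have hs2 := S.swap_sq hca hcb s hsa hsb hsc
  have hsi : s⁻¹ = s := inv_eq_of_mul_eq_one_right hs2
  have hji : j⁻¹ = j := inv_eq_of_mul_eq_one_right S.jsq
  have hpt : ∀ g ∈ stabilizer G a ⊓ stabilizer G b, g • c = (g * u₀ * g⁻¹) • b := fun g hg => by
    rw [mul_smul, mul_smul, inv_smul_eq_iff.mpr (show g • b = b from hg.2).symm, hu₀c]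
  have hstep : ∀ g ∈ stabilizer G a ⊓ stabilizer G b, g * (g * g) = 1 → g ≠ 1 →
      u₀ • (g • c) = (j * (g * g)) • c := by
    intro g hg g3 g1
    have hm : g * g * u₀ * (g * g)⁻¹ ∈ U := S.ker.conj _ (mul_mem hg hg).1 u₀ hu₀
    rw [hpt g hg, smul_smul, eq_inv_of_mul_eq_one_left (S.cube_sum hg g3 g1 hu₀),
      ← S.jinv _ hm, hpt _ (mul_mem S.jmem (mul_mem hg hg))]
    congr 1
    group
  set φ := u₀ * j * s with hφ
  have hja : j • a = a := S.jmem.1
  have hjb : j • b = b := S.jmem.2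
  have φa : φ • a = c := by rw [hφ, mul_smul, mul_smul, hsa, hjb, hu₀c]
  have φb : φ • b = a := by
    rw [hφ, mul_smul, mul_smul, hsb, hja]; exact S.ker.le hu₀
  have φc : φ • c = b := by
    rw [hφ, mul_smul, mul_smul, hsc, hpt j S.jmem, S.jinv u₀ hu₀, smul_inv_smul]
  clear_value φ
  have φ3 : φ * (φ * φ) = 1 := S.sharp.sharp _ a b c S.ker.ne hcb.symm hca.symm
    (by rw [mul_smul, mul_smul, φa, φc, φb]) (by rw [mul_smul, mul_smul, φb, φa, φc])
    (by rw [mul_smul, mul_smul, φc, φb, φa])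
  have hstep2 : ∀ g ∈ stabilizer G a ⊓ stabilizer G b, g * (g * g) = 1 → g ≠ 1 →
      φ • ((j * g) • c) = (j * (s * g * s⁻¹ * (s * g * s⁻¹))) • c := by
    intro g hg g3 g1
    have hy := S.swap_mem s hsa hsb hg
    rw [← hstep _ hy (by
      rw [show s * g * s⁻¹ * (s * g * s⁻¹ * (s * g * s⁻¹)) = s * (g * (g * g)) * s⁻¹ by group, g3,
        mul_one, mul_inv_cancel]) fun e => g1 (conj_eq_one_iff.mp e)]
    rw [hφ, smul_smul, smul_smul, show u₀ * j * s * (j * g) = u₀ * j * (s * j) * g by group,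
      S.swap_j s hsa hsb, show u₀ * j * (j * s) * g = u₀ * (j * j) * (s * g) by group, S.jsq,
      mul_one, show s * g * s⁻¹ = s * g * s by rw [hsi]]
    simp only [mul_smul, hsc]
  set y := s * h * s⁻¹ with hy
  have hyH := S.swap_mem s hsa hsb hh
  have y3 : y * (y * y) = 1 := by
    rw [hy, show s * h * s⁻¹ * (s * h * s⁻¹ * (s * h * s⁻¹)) = s * (h * (h * h)) * s⁻¹ by group, h3,
      mul_one, mul_inv_cancel]
  have y1 : y ≠ 1 := fun e => h1 (conj_eq_one_iff.mp e)
  have hfirst := hstep2 h hh h3 h1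
  have hyy3 : y * y * (y * y * (y * y)) = 1 := by
    rw [show y * y * (y * y * (y * y)) = y * (y * y) * (y * (y * y)) by group, y3, mul_one]
  have hyy1 : y * y ≠ 1 := fun e => y1 (by rwa [e, mul_one] at y3)
  have hsecond := hstep2 (y * y) (mul_mem hyH hyH) hyy3 hyy1
  have hsy : s * (y * y) * s⁻¹ = h * h := by
    rw [hy, hsi]
    simp only [mul_assoc, ← mul_assoc s s, hs2, one_mul, mul_one]
  rw [hsy, show h * h * (h * h) = h * (h * (h * h)) by group, h3, mul_one] at hsecond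
  have hfix : φ • ((j * h) • c) = (j * h) • c := by
    have h2 : φ • φ • ((j * h) • c) = (j * h) • c := by rw [hfirst, hsecond]
    calc φ • ((j * h) • c) = φ • φ • φ • ((j * h) • c) := by rw [h2]
      _ = (φ * (φ * φ)) • ((j * h) • c) := by simp only [mul_smul]
      _ = _ := by rw [φ3, one_smul]
  have key : h = y * y := mul_left_cancel
    (S.inj hca hcb (mul_mem S.jmem hh) (mul_mem S.jmem (mul_mem hyH hyH)) (hfix.symm.trans hfirst))
  rw [key]
  exact eq_inv_of_mul_eq_one_left y3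

end Swap

theorem unique_three [Finite G] [Finite Ω] (A B : Subgroup G) (hA : A ≤ stabilizer G a ⊓ stabilizer G b)
    (hB : B ≤ stabilizer G a ⊓ stabilizer G b) (hA3 : Nat.card A = 3) (hB3 : Nat.card B = 3) :
    A = B := by
  haveI : Fact (Nat.Prime 3) := ⟨Nat.prime_three⟩
  haveI := S.comm
  obtain ⟨f, hf, hpf⟩ := S.pow
  have hp3 : p ≠ 3 := by
    rintro rfl
    have h1 := Subgroup.card_dvd_of_le hA
    rw [hA3] at h1
    have h2 : 3 ∣ Nat.card U := hpf ▸ dvd_pow_self 3 hf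
    rw [← S.card] at h2
    exact absurd (Nat.le_of_dvd one_pos ((Nat.dvd_add_right h1).mp h2)) (by norm_num)
  have hsmall : ∀ C : Subgroup G, Nat.card C = 3 → ∀ x ∈ C, x ≠ 1 →
      x * (x * x) = 1 ∧ C = Subgroup.zpowers x := fun C hC x hx hx1 => by
    have hd : orderOf x = 3 := by
      have := (Nat.dvd_prime Nat.prime_three).mp (hC ▸ Subgroup.orderOf_dvd_natCard C hx)
      exact this.resolve_left fun e => hx1 (orderOf_eq_one_iff.mp e)
    refine ⟨?_, (Subgroup.eq_of_le_of_card_ge (Subgroup.zpowers_le.mpr hx)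
      (by rw [Nat.card_zpowers, hd, hC])).symm⟩
    have := pow_orderOf_eq_one x
    rw [hd, pow_succ', pow_two] at this
    exact this
  haveI : Nontrivial A := Finite.one_lt_card_iff_nontrivial.mp (by omega)
  haveI : Nontrivial B := Finite.one_lt_card_iff_nontrivial.mp (by omega)
  obtain ⟨⟨x, hx⟩, hx1⟩ := exists_ne (1 : A)
  obtain ⟨⟨y, hy⟩, hy1⟩ := exists_ne (1 : B)
  replace hx1 : x ≠ 1 := fun e => hx1 (Subtype.ext e)
  replace hy1 : y ≠ 1 := fun e => hy1 (Subtype.ext e)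
  obtain ⟨hx3, hxA⟩ := hsmall A hA3 x hx hx1
  obtain ⟨hy3, hyB⟩ := hsmall B hB3 y hy hy1
  by_contra hne
  have hnot : y ∉ A := fun hyA => hne (by rw [(hsmall A hA3 y hyA hy1).2, hyB])
  -- commutation
  have hxy : x * y = y * x := by
    obtain ⟨c, hca, hcb⟩ := S.sharp.exists_third a b
    obtain ⟨s, hsa, hsb, hsc⟩ := S.sharp.trans a b c b a c S.ker.ne hcb.symm hca.symm
      S.ker.ne.symm hca.symm hcb.symm
    have hyxy : y * x * y⁻¹ * (y * x * y⁻¹ * (y * x * y⁻¹)) = 1 := by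
      rw [show y * x * y⁻¹ * (y * x * y⁻¹ * (y * x * y⁻¹)) = y * (x * (x * x)) * y⁻¹ by group, hx3,
        mul_one, mul_inv_cancel]
    have e1 := S.swap_inverts hca hcb s hsa hsb hsc
      (mul_mem (mul_mem (hB hy) (hA hx)) (inv_mem (hB hy))) hyxy
    have e2 := S.swap_inverts hca hcb s hsa hsb hsc (hA hx) hx3
    have e3 := S.swap_inverts hca hcb s hsa hsb hsc (hB hy) hy3
    rw [show s * (y * x * y⁻¹) * s⁻¹ = (s * y * s⁻¹) * (s * x * s⁻¹) * (s * y * s⁻¹)⁻¹ by group,
      e2, e3] at e1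
    have h2 : Commute (y * y) x := by
      have h0 : (y * y) * x⁻¹ = x⁻¹ * (y * y) := by
        calc (y * y) * x⁻¹ = y * (y * x * y⁻¹)⁻¹ * y := by group
          _ = y * (y⁻¹ * x⁻¹ * y⁻¹⁻¹) * y := by rw [e1]
          _ = _ := by group
      exact (Commute.inv_right_iff.mp h0)
    have hy4 : y = (y * y) * (y * y) := by
      rw [show (y * y) * (y * y) = y * (y * (y * y)) by group, hy3, mul_one]
    rw [hy4]
    exact (h2.mul_left h2).eq.symm
  letI : AddCommGroup (Additive U) :=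
    { (inferInstance : AddGroup (Additive U)) with
      add_comm := fun u v => Additive.toMul.injective (S.comm.is_comm.comm u.toMul v.toMul) }
  let H := stabilizer G a ⊓ stabilizer G b
  let ρ : H →* AddMonoid.End (Additive U) := stabEnd S.ker
  have hone : ∀ g : H, (g : G) * ((g : G) * g) = 1 → (g : G) ≠ 1 →
      1 + ρ g + ρ g * ρ g = 0 := fun g g3 g1 => AddMonoidHom.ext fun v => by
    rw [← map_mul]
    exact Additive.toMul.injective (Subtype.ext (S.cube_sum g.2 g3 g1 v.toMul.2))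
  let x' : H := ⟨x, hA hx⟩
  let y' : H := ⟨y, hB hy⟩
  have hc' : ρ x' * ρ y' = ρ y' * ρ x' := by
    rw [← map_mul, ← map_mul]; exact congrArg ρ (Subtype.ext hxy)
  have hprod : ∀ (w : G) (hw : w ∈ B), x * w ≠ 1 → w * (w * w) = 1 → x * w = w * x →
      1 + ρ (x' * ⟨w, hB hw⟩) + ρ (x' * ⟨w, hB hw⟩) * ρ (x' * ⟨w, hB hw⟩) = 0 :=
    fun w hw hne' w3 hwc => hone _ (by
      show x * w * (x * w * (x * w)) = 1
      calc x * w * (x * w * (x * w)) = (x * w) ^ 3 := by simp [pow_succ, mul_assoc]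
        _ = x ^ 3 * w ^ 3 := Commute.mul_pow hwc 3
        _ = (x * (x * x)) * (w * (w * w)) := by simp [pow_succ, mul_assoc]
        _ = 1 := by rw [hx3, w3, mul_one]) hne'
  have hxy1 : x * y ≠ 1 := fun e => hnot (by
    rw [eq_inv_of_mul_eq_one_right e]; exact inv_mem hx)
  have hyy : (y * y) * ((y * y) * (y * y)) = 1 := by
    rw [show (y * y) * ((y * y) * (y * y)) = y * (y * y) * (y * (y * y)) by group, hy3, mul_one]
  have hxyy1 : x * (y * y) ≠ 1 := fun e => hnot (by
    have h1 : y * y = x⁻¹ := eq_inv_of_mul_eq_one_right e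
    rw [show y = (y * y)⁻¹ from eq_inv_of_mul_eq_one_left hy3, h1, inv_inv]; exact hx)
  have h3 := hprod y hy hxy1 hy3 hxy
  have h4 := hprod (y * y) (mul_mem hy hy) hxyy1 hyy (Commute.mul_right hxy hxy)
  have e3 : ρ (x' * ⟨y, hB hy⟩) = ρ x' * ρ y' := map_mul _ _ _
  have e4 : ρ (x' * ⟨y * y, hB (mul_mem hy hy)⟩) = ρ x' * (ρ y' * ρ y') := by
    rw [← map_mul ρ y' y', ← map_mul]
    rfl
  rw [e3] at h3
  rw [e4] at h4
  have h30 := three_eq_zero (ρ x') (ρ y') hc' (hone x' hx3 hx1) (hone y' hy3 hy1) h3 h4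
  haveI : Nontrivial U := Finite.one_lt_card_iff_nontrivial.mp (by
    rw [hpf]; exact Nat.one_lt_pow hf S.prime.one_lt)
  obtain ⟨⟨u, hu⟩, hu1⟩ := exists_ne (1 : U)
  have h5 : ((3 : ℕ) : AddMonoid.End (Additive U)) (Additive.ofMul ⟨u, hu⟩) = 0 := by
    rw [show ((3 : ℕ) : AddMonoid.End (Additive U)) = 0 by exact_mod_cast h30]; rfl
  rw [AddMonoid.End.natCast_apply] at h5
  have h6 : u ^ 3 = 1 := congrArg (fun w : Additive U => (w.toMul : G)) h5
  apply hu1
  refine Subtype.ext (show u = 1 from orderOf_eq_one_iff.mp ?_)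
  exact Nat.eq_one_of_dvd_coprimes ((Nat.coprime_primes S.prime Nat.prime_three).mpr hp3)
    (orderOf_dvd_of_pow_eq_one (S.exp u hu)) (orderOf_dvd_of_pow_eq_one h6)

/-- The two-point stabiliser has a subgroup of index two. -/
theorem exists_index_two [Finite G] [Finite Ω] :
    ∃ M : Subgroup ↥(stabilizer G a ⊓ stabilizer G b), M.index = 2 := by
  by_contra hno
  haveI := S.comm
  obtain ⟨f, hf, hpf⟩ := S.pow
  haveI := Fact.mk S.prime
  obtain ⟨c, hca, hcb⟩ := S.sharp.exists_third a b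
  obtain ⟨s, hsa, hsb, hsc⟩ := S.sharp.trans a b c b a c S.ker.ne hcb.symm hca.symm
    S.ker.ne.symm hca.symm hcb.symm
  let H := stabilizer G a ⊓ stabilizer G b
  have hs2 := S.swap_sq hca hcb s hsa hsb hsc
  let σ : H →* H :=
    { toFun := fun x => ⟨s * x * s⁻¹, S.swap_mem s hsa hsb x.2⟩
      map_one' := Subtype.ext (by simp)
      map_mul' := fun x y => Subtype.ext (by simp [mul_assoc]) }
  obtain ⟨i, k, C, hii, hkk, hki, hC, hC6, hC12, hC3⟩ := index_two_or_q8 (H := H) ⟨j, S.jmem⟩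
    (fun e => S.jne (congrArg Subtype.val e)) (Subtype.ext S.jsq)
    (fun x hx => (S.juniq x x.2 (congrArg Subtype.val hx)).imp
      (fun e => Subtype.ext e) (fun e => Subtype.ext e))
    (fun A B hA hB => Subgroup.map_injective H.subtype_injective (S.unique_three _ _
      (Subgroup.map_subtype_le A) (Subgroup.map_subtype_le B)
      (by rwa [Subgroup.card_map_of_injective H.subtype_injective])
      (by rwa [Subgroup.card_map_of_injective H.subtype_injective])))
    σ (fun x => Subtype.ext (by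
      show s * (s * (x : G) * s⁻¹) * s⁻¹ = x
      rw [inv_eq_of_mul_eq_one_right hs2]
      simp only [mul_assoc, hs2, mul_one]
      rw [← mul_assoc, hs2, one_mul]))
    (fun x hx => (S.swap_fix hca hcb s hsa hsb hsc x.2
      (mul_inv_eq_iff_eq_mul.mp (congrArg Subtype.val hx))).imp
      (fun e => Subtype.ext e) (fun e => Subtype.ext e))
    hno
  letI : AddCommGroup (Additive U) :=
    { (inferInstance : AddGroup (Additive U)) with
      add_comm := fun u v => Additive.toMul.injective (S.comm.is_comm.comm u.toMul v.toMul) }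
  haveI : Finite (Additive U) := inferInstanceAs (Finite U)
  let ρ : H →* AddMonoid.End (Additive U) := stabEnd S.ker
  have hneg : ∀ v, ρ ⟨j, S.jmem⟩ v = -v := fun v =>
    Additive.toMul.injective (Subtype.ext (S.jinv _ v.toMul.2))
  have hpv : ∀ v : Additive U, p • v = 0 := fun v =>
    Additive.toMul.injective (Subtype.ext (by simpa using S.exp _ v.toMul.2))
  obtain ⟨w₀, hsq, hdiv⟩ := quat_bound (V := Additive U) ρ S.prime S.odd hpv
    (fun g hg v hv => Additive.toMul.injective (Subtype.ext (S.free g.2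
      (fun e => hg (Subtype.ext e)) v.toMul.2 (congrArg (fun w : Additive U => (w.toMul : G)) hv))))
    ⟨j, S.jmem⟩ hneg i k hii hkk hki C hC
  have hHC : Nat.card C * C.index = Nat.card H := C.card_mul_index
  have hU1 : 1 < Nat.card U := by rw [hpf]; exact Nat.one_lt_pow hf S.prime.one_lt
  have hsq' : Nat.card U = w₀ * w₀ := hsq
  have hmain : Nat.card C * C.index + 1 = w₀ * w₀ := by
    rw [hHC, S.card, hsq']
  have hW1 : 1 < w₀ := by
    by_contra h1
    rcases (show w₀ = 0 ∨ w₀ = 1 by omega) with rfl | rfl <;> omega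
  generalize hs : w₀ = w at *
  have hle : Nat.card C ≤ w - 1 := Nat.le_of_dvd (by omega) hdiv
  have hw : w + 1 ≤ 12 := by
    by_contra h1
    have h2 : Nat.card C * C.index ≤ (w - 1) * 12 := Nat.mul_le_mul hle hC12
    obtain ⟨v, rfl⟩ : ∃ v, w = v + 1 := ⟨w - 1, by omega⟩
    rw [Nat.add_sub_cancel] at h2
    nlinarith
  have hC6' : Nat.card C = 6 := by
    have := Nat.le_of_dvd Nat.card_pos hC6
    obtain ⟨t, ht⟩ := hC6
    omega
  rw [hC6'] at hmain hdiv
  have hw7 : w = 7 := by omega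
  subst hw7
  omega

/-- The two-point stabiliser has a subgroup of index two invariant under the swap. -/
theorem exists_invariant [Finite G] [Finite Ω] {c : Ω} (hca : c ≠ a) (hcb : c ≠ b) (s : G) (hsa : s • a = b)
    (hsb : s • b = a) (hsc : s • c = c) :
    ∃ N : Subgroup G, N ≤ stabilizer G a ⊓ stabilizer G b ∧
      (N.subgroupOf (stabilizer G a ⊓ stabilizer G b)).Normal ∧
      N.relIndex (stabilizer G a ⊓ stabilizer G b) = 2 ∧ ∀ n ∈ N, s * n * s⁻¹ ∈ N := by
  classical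
  obtain ⟨M₀, hM₀⟩ := S.exists_index_two
  let H := stabilizer G a ⊓ stabilizer G b
  have hs2 := S.swap_sq hca hcb s hsa hsb hsc
  let σ : H →* H :=
    { toFun := fun x => ⟨s * x * s⁻¹, S.swap_mem s hsa hsb x.2⟩
      map_one' := Subtype.ext (by simp)
      map_mul' := fun x y => Subtype.ext (by simp [mul_assoc]) }
  have hσσ : ∀ x, σ (σ x) = x := fun x => Subtype.ext (by
      show s * (s * (x : G) * s⁻¹) * s⁻¹ = x
      rw [inv_eq_of_mul_eq_one_right hs2]
      simp only [mul_assoc, hs2, mul_one]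
      rw [← mul_assoc, hs2, one_mul])
  obtain ⟨M, hM, hMσ⟩ : ∃ M : Subgroup H, M.index = 2 ∧ ∀ x ∈ M, σ x ∈ M := by
    by_cases hh : ∀ x : H, x ∈ M₀ ↔ σ x ∈ M₀
    · exact ⟨M₀, hM₀, fun x hx => (hh x).mp hx⟩
    obtain ⟨x₀, hx₀⟩ := not_forall.mp hh
    let M : Subgroup H :=
      { carrier := {x | x ∈ M₀ ↔ σ x ∈ M₀}
        one_mem' := by simp
        mul_mem' := fun {x y} hx hy => by
          simp only [Set.mem_setOf_eq, map_mul, Subgroup.mul_mem_iff_of_index_two hM₀] at *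
          tauto
        inv_mem' := fun {x} hx => by simpa using hx }
    refine ⟨M, ?_, fun x hx => ?_⟩
    · rw [Subgroup.index_eq_two_iff]
      refine ⟨x₀, fun y => ?_⟩
      show Xor ((y * x₀ ∈ M₀ ↔ σ (y * x₀) ∈ M₀)) (y ∈ M₀ ↔ σ y ∈ M₀)
      rw [map_mul, Subgroup.mul_mem_iff_of_index_two hM₀, Subgroup.mul_mem_iff_of_index_two hM₀]
      revert hx₀
      by_cases h1 : y ∈ M₀ <;> by_cases h2 : σ y ∈ M₀ <;> by_cases h3 : x₀ ∈ M₀ <;>
        by_cases h4 : σ x₀ ∈ M₀ <;> simp [h1, h2, h3, h4, Xor]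
    · show σ x ∈ M₀ ↔ σ (σ x) ∈ M₀
      rw [hσσ]; exact (show x ∈ M₀ ↔ σ x ∈ M₀ from hx).symm
  have hsub : (M.map H.subtype).subgroupOf H = M :=
    Subgroup.comap_map_eq_self_of_injective H.subtype_injective M
  refine ⟨M.map H.subtype, Subgroup.map_subtype_le M, ?_, ?_, ?_⟩
  · rw [hsub]; exact Subgroup.normal_of_index_eq_two hM
  · rw [Subgroup.relIndex, hsub, hM]
  · rintro _ ⟨x, hx, rfl⟩
    exact ⟨σ x, hMσ x hx, rfl⟩

end SharpStab

end Cfsg.Agent.Lib.Zass
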